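import Mathlib
import Cfsg.Prelude.Def_Solvable
import Cfsg.Agent.S0044
import Cfsg.Agent.Lib.Cores
import Cfsg.Agent.Lib.PGroupFixedVector
import Cfsg.Agent.H333.HallHig

/-!
# Lemma B (helper308, for S3830)

A solvable completely reducible linear group which contains an element `x` of prime order `p`, without the eigenvalue 1
and with a cyclic vector: `x` commutes with all its conjugates, unless `p - 1 = 2 ^ a` is the degree.
-/

set_option autoImplicit false
set_option linter.unusedSectionVars false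

namespace Cfsg.Agent.H308.LemB

open Module Subgroup
open scoped commutatorElement
open Cfsg.Agent.OddOrderLocal.ExtraCycle.Lin
open Cfsg.Agent.OddOrderLocal.ExtraCycle.Irred
open Cfsg.Agent.H333.HallHig

section Group

variable {K : Type*} [Field K] [IsAlgClosed K] {G : Type*} [Group G] [Finite G] {V : Type*} [AddCommGroup V]
  [Module K V] [FiniteDimensional K V]

variable {p t : ℕ} {R : Subgroup G} {x : G}

/-- in degree less than `p`, a `p`-element centralises every abelian subgroup (of order prime to the characteristic)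
which it normalises -/
theorem ab_comm {ρ : G →* Module.End K V} (hρ : Function.Injective ρ) (hp : p.Prime)
    (hRK : (Nat.card R : K) ≠ 0) (hab : ∀ a ∈ R, ∀ b ∈ R, a * b = b * a)
    (hx : ∃ n : ℕ, orderOf x = p ^ n) (hN : x ∈ normalizer (R : Set G)) (hd : finrank K V < p) :
    ∀ a ∈ R, x * a = a * x := by
  classical
  intro a0 ha0
  by_contra hne
  set z := x * a0 * x⁻¹ * a0⁻¹ with hzdef
  have hz : z ∈ R := mul_mem ((mem_normalizer_iff.1 hN a0).1 ha0) (inv_mem ha0)
  have hz1 : z ≠ 1 := by
    intro h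
    apply hne
    have h1 : x * a0 * x⁻¹ * a0⁻¹ = 1 := h
    have h2 : x * a0 = x * a0 * x⁻¹ * a0⁻¹ * (a0 * x) := by group
    rw [h2, h1, one_mul]
  let σ : R →* Module.End K V := ρ.comp R.subtype
  have hσ : ∀ a : R, σ a = ρ (a : G) := fun _ => rfl
  obtain ⟨U, hU, hirr, r, hr, hru⟩ := exists_irr_scalar σ (z := ⟨z, hz⟩) (by
    rw [Subgroup.mem_center_iff]
    intro g
    exact Subtype.ext (hab g g.2 z hz)) (by
    intro h
    exact hz1 (hρ (by rw [map_one]; exact h))) hRK
  have hsc : ∀ a : R, ∃ c : K, restr σ U hU a = c • (1 : Module.End K U) := by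
    intro a
    apply schur hirr
    intro b
    rw [← map_mul, ← map_mul]
    congr 1
    exact Subtype.ext (hab a a.2 b b.2)
  choose c hc using hsc
  have hnt := hirr.1
  obtain ⟨u₀, hu₀⟩ := exists_ne (0 : U)
  obtain ⟨u, huU⟩ := u₀
  have hu0 : u ≠ 0 := fun h => hu₀ (Subtype.ext h)
  let μ : G → K := fun g => if h : g ∈ R then c ⟨g, h⟩ else 0
  have hμ : ∀ a ∈ R, ρ a u = μ a • u := by
    intro a ha
    have h1 := congrArg Subtype.val (LinearMap.congr_fun (hc ⟨a, ha⟩) ⟨u, huU⟩)
    have h2 : ρ a u = c ⟨a, ha⟩ • u := h1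
    rw [h2]
    congr 1
    show c ⟨a, ha⟩ = (if h : a ∈ R then c ⟨a, h⟩ else 0)
    rw [dif_pos ha]
  have hμu : ∀ a ∈ R, ∀ s : K, ρ a u = s • u → μ a = s := by
    intro a ha s hs
    rw [hμ a ha] at hs
    exact smul_left_injective K hu0 hs
  have hμm : ∀ a ∈ R, ∀ b ∈ R, μ (a * b) = μ a * μ b := by
    intro a ha b hb
    apply hμu _ (R.mul_mem ha hb)
    rw [map_mul, Module.End.mul_apply, hμ b hb, map_smul, hμ a ha, smul_smul, mul_comm]
  have hμ1 : μ 1 = 1 := hμu 1 R.one_mem 1 (by rw [map_one, one_smul, Module.End.one_apply])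
  have hμz : μ z = r := hμu z hz r (hru u huU)
  -- the stabilizer
  let St : Subgroup G :=
    { carrier := {y | y ∈ normalizer (R : Set G) ∧ ∀ b ∈ R, μ (y * b * y⁻¹) = μ b}
      mul_mem' := by
        rintro a b ⟨ha, ha'⟩ ⟨hb, hb'⟩
        refine ⟨mul_mem ha hb, fun c hc => ?_⟩
        have h1 : a * b * c * (a * b)⁻¹ = a * (b * c * b⁻¹) * a⁻¹ := by group
        rw [h1, ha' _ ((mem_normalizer_iff.1 hb c).1 hc), hb' c hc]
      one_mem' := ⟨one_mem _, fun b _ => by simp⟩
      inv_mem' := by
        rintro a ⟨ha, ha'⟩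
        refine ⟨inv_mem ha, fun c hc => ?_⟩
        have h1 := ha' (a⁻¹ * c * a⁻¹⁻¹) ((mem_normalizer_iff.1 (inv_mem ha) c).1 hc)
        rw [← h1]
        congr 1
        group }
  have hxSt : x ∉ St := by
    intro hxS
    have hy' : x * a0 * x⁻¹ ∈ R := (mem_normalizer_iff.1 hN a0).1 ha0
    apply hr
    rw [← hμz, hzdef, hμm _ hy' _ (inv_mem ha0), hxS.2 _ ha0, ← hμm a0 ha0 _ (inv_mem ha0), mul_inv_cancel, hμ1]
  obtain ⟨n, hn⟩ := hx
  have hNi : ∀ (i : ℕ) (a : G), a ∈ R → (x ^ i)⁻¹ * a * x ^ i ∈ R := by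
    intro i a ha
    have h1 := (mem_normalizer_iff.1 (inv_mem (pow_mem hN i)) a).1 ha
    rwa [inv_inv] at h1
  have key : ∀ i j : ℕ, i < j → j < p → ∃ a ∈ R, μ ((x ^ i)⁻¹ * a * x ^ i) ≠ μ ((x ^ j)⁻¹ * a * x ^ j) := by
    intro i j hij hjp
    by_contra hcon
    push Not at hcon
    apply hxSt
    have h1 : x ^ (j - i) ∈ St := by
      refine ⟨pow_mem hN _, fun b hb => ?_⟩
      have h2 := hcon (x ^ j * b * (x ^ j)⁻¹) ((mem_normalizer_iff.1 (pow_mem hN j) b).1 hb)
      have h3 : (x ^ j)⁻¹ * (x ^ j * b * (x ^ j)⁻¹) * x ^ j = b := by group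
      have h4 : (x ^ i)⁻¹ * (x ^ j * b * (x ^ j)⁻¹) * x ^ i = x ^ (j - i) * b * (x ^ (j - i))⁻¹ := by
        have h5 : x ^ j = x ^ i * x ^ (j - i) := by rw [← pow_add]; congr 1; omega
        rw [h5]; group
      rw [h3, h4] at h2
      exact h2
    have hcop : (orderOf x).Coprime (j - i) := by
      rw [hn]
      apply Nat.Coprime.pow_left
      rw [hp.coprime_iff_not_dvd]
      intro hdvd
      have := Nat.le_of_dvd (by omega) hdvd
      omega
    have h6 : x ∈ zpowers (x ^ (j - i)) := (mem_zpowers_pow_iff).2 hcop.symm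
    exact (zpowers_le.2 h1) h6
  have h7 := le_finrank (fun a : R => ρ (a : G)) (fun a b => by
    show ρ a * ρ b = ρ b * ρ a
    rw [← map_mul, ← map_mul, hab a a.2 b b.2]) (n := p) (fun i => ρ (x ^ (i : ℕ)) u)
    (fun i a => μ ((x ^ (i : ℕ))⁻¹ * a * x ^ (i : ℕ))) (by
      intro i j hij
      by_contra hne
      have hne' : (i : ℕ) ≠ j := fun h => hne (Fin.ext h)
      rcases lt_or_gt_of_ne hne' with h | h
      · obtain ⟨a, ha, h8⟩ := key i j h j.2
        exact h8 (congrFun hij ⟨a, ha⟩)
      · obtain ⟨a, ha, h8⟩ := key j i h i.2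
        exact h8 (congrFun hij ⟨a, ha⟩).symm) (by
      intro i a
      show ρ (a : G) (ρ (x ^ (i : ℕ)) u) = μ ((x ^ (i : ℕ))⁻¹ * a * x ^ (i : ℕ)) • ρ (x ^ (i : ℕ)) u
      rw [← map_smul, ← hμ _ (hNi i a a.2), ← Module.End.mul_apply, ← Module.End.mul_apply, ← map_mul, ← map_mul]
      congr 2
      group) (by
      intro i h
      apply hu0
      have h9 := congrArg (ρ (x ^ (i : ℕ))⁻¹) h
      rwa [map_zero, ← Module.End.mul_apply, ← map_mul, inv_mul_cancel, map_one, Module.End.one_apply] at h9)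
  omega

/-- a `p`-group of linear transformations of degree less than `p` in characteristic prime to `p` is abelian -/
theorem pgroup_comm {T : Type*} [Group T] [Finite T] (hp : p.Prime) (hT : IsPGroup p T) (hpK : (p : K) ≠ 0)
    {ρ : T →* Module.End K V} (hρ : Function.Injective ρ) (hd : finrank K V < p) (a b : T) : a * b = b * a := by
  classical
  have : Fact p.Prime := ⟨hp⟩
  by_contra hab
  have hnt : Nontrivial (T ⧸ Subgroup.center T) := by
    by_contra hcon
    rw [not_nontrivial_iff_subsingleton] at hcon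
    apply hab
    have h1 : (a : T ⧸ Subgroup.center T) = 1 := Subsingleton.elim _ _
    have h2 := (QuotientGroup.eq_one_iff a).1 h1
    exact (Subgroup.mem_center_iff.1 h2 b).symm
  have hq : IsPGroup p (T ⧸ Subgroup.center T) := hT.to_quotient _
  have hcn := hq.center_nontrivial
  obtain ⟨⟨gq, hgq⟩, hgq1⟩ := exists_ne (1 : Subgroup.center (T ⧸ Subgroup.center T))
  have hgq1' : gq ≠ 1 := fun h => hgq1 (Subtype.ext h)
  obtain ⟨g, rfl⟩ := QuotientGroup.mk_surjective gq
  have hgc : g ∉ Subgroup.center T := fun h => hgq1' ((QuotientGroup.eq_one_iff g).2 h)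
  rw [Subgroup.mem_center_iff] at hgc
  push Not at hgc
  obtain ⟨y, hy⟩ := hgc
  apply hy
  let A : Subgroup T := (zpowers (g : T ⧸ Subgroup.center T)).comap (QuotientGroup.mk' (Subgroup.center T))
  have hgA : g ∈ A := mem_zpowers _
  have hform : ∀ a ∈ A, ∃ (k : ℤ) (w : T), w ∈ Subgroup.center T ∧ a = g ^ k * w := by
    intro a ha
    obtain ⟨k, hk⟩ := mem_zpowers_iff.1 (show (a : T ⧸ Subgroup.center T) ∈ zpowers _ from ha)
    refine ⟨k, (g ^ k)⁻¹ * a, ?_, by group⟩
    rw [← QuotientGroup.eq, ← hk]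
    rfl
  have hAab : ∀ a ∈ A, ∀ b ∈ A, a * b = b * a := by
    intro a ha b hb
    obtain ⟨k, w, hw, rfl⟩ := hform a ha
    obtain ⟨l, v, hv, rfl⟩ := hform b hb
    have hw' := Subgroup.mem_center_iff.1 hw
    have hv' := Subgroup.mem_center_iff.1 hv
    calc g ^ k * w * (g ^ l * v) = g ^ k * (w * g ^ l) * v := by group
      _ = g ^ k * (g ^ l * w) * v := by rw [hw']
      _ = g ^ l * (g ^ k * (w * v)) := by group
      _ = g ^ l * (g ^ k * (v * w)) := by rw [hw' v]
      _ = g ^ l * ((g ^ k * v) * w) := by group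
      _ = g ^ l * ((v * g ^ k) * w) := by rw [hv']
      _ = g ^ l * v * (g ^ k * w) := by group
  have hAK : (Nat.card A : K) ≠ 0 := by
    obtain ⟨m, hm⟩ := IsPGroup.iff_card.1 (hT.to_subgroup A)
    rw [hm, Nat.cast_pow]
    exact pow_ne_zero _ hpK
  have hyN : y ∈ normalizer (A : Set T) := by
    have hn : A.Normal := by
      refine Subgroup.Normal.comap ⟨fun n hn h => ?_⟩ _
      have hn' : n ∈ Subgroup.center (T ⧸ Subgroup.center T) := (zpowers_le.2 hgq) hn
      have h1 := Subgroup.mem_center_iff.1 hn' h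
      rw [h1, mul_inv_cancel_right]
      exact hn
    rw [Subgroup.normalizer_eq_top_iff.2 hn]
    exact Subgroup.mem_top y
  have hyo : ∃ n : ℕ, orderOf y = p ^ n := IsPGroup.iff_orderOf.1 hT y
  exact ab_comm hρ hp hAK hAab hyo hyN hd g hgA

/-- the special case -/
theorem sp_case' {ρ : G →* Module.End K V} (hρ : Function.Injective ρ) (hp : p.Prime) (ht : t.Prime) (hpt : p ≠ t)
    (htK : (t : K) ≠ 0) (hR : IsPGroup t R) (hne : R ≠ ⊥) (hcom : _root_.commutator R = Subgroup.center R)
    (hx : ∃ n : ℕ, orderOf x = p ^ n) (hN : x ∈ normalizer (R : Set G)) (hd : finrank K V < p)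
    (hex : ∀ a : ℕ, p = 2 ^ a + 1 → finrank K V ≠ 2 ^ a)
    (hgen : ⁅R, zpowers x⁆ = R) (hZx : ∀ z ∈ Subgroup.center R, x * (z : G) = z * x)
    (hirrR : ∀ U : Subgroup G, (Subgroup.center R).map R.subtype ≤ U → U ≤ R → zpowers x ≤ normalizer (U : Set G) →
      U = (Subgroup.center R).map R.subtype ∨ U = R) : False := by
  classical
  have : Fact t.Prime := ⟨ht⟩
  have hntR : Nontrivial R := (Subgroup.nontrivial_iff_ne_bot R).2 hne
  have hZne : Nontrivial (Subgroup.center R) := hR.center_nontrivial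
  obtain ⟨⟨z, hz⟩, hz1⟩ := exists_ne (1 : Subgroup.center R)
  have hz1' : z ≠ 1 := fun h => hz1 (Subtype.ext h)
  let σ : R →* Module.End K V := ρ.comp R.subtype
  have hσi : Function.Injective σ := hρ.comp Subtype.val_injective
  have hRK : (Nat.card R : K) ≠ 0 := by
    obtain ⟨m, hm⟩ := IsPGroup.iff_card.1 hR
    rw [hm, Nat.cast_pow]
    exact pow_ne_zero _ htK
  obtain ⟨U, hU, hirr, r, hr, hru⟩ := exists_irr_scalar σ hz (fun h => hz1' (hσi (by rw [h, map_one]))) hRK
  let τ := restr σ U hU
  have hcl : ∀ a b : R, a * b * a⁻¹ * b⁻¹ ∈ Subgroup.center R := by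
    intro a b
    rw [← hcom]
    exact Subgroup.commutator_mem_commutator (Subgroup.mem_top a) (Subgroup.mem_top b)
  have hidx := index_cen hirr hcl hRK
  have hdU : finrank K U ≤ finrank K V := Submodule.finrank_le U
  have hconj : ∀ a ∈ R, x * a * x⁻¹ ∈ R := fun a ha => (mem_normalizer_iff.1 hN a).1 ha
  have hconj' : ∀ a ∈ R, x⁻¹ * a * x ∈ R := fun a ha => by
    have := (mem_normalizer_iff.1 (inv_mem hN) a).1 ha
    rwa [inv_inv] at this
  -- the elements central in the image
  have hD : cen τ = Subgroup.center R := by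
    have hDinv : ∀ a ∈ (cen τ).map R.subtype, x * a * x⁻¹ ∈ (cen τ).map R.subtype := by
      rintro _ ⟨a, ha, rfl⟩
      refine ⟨⟨x * a * x⁻¹, hconj a a.2⟩, ?_, rfl⟩
      rw [SetLike.mem_coe, mem_cen'] at ha ⊢
      intro h
      have h1 := ha ⟨x⁻¹ * h * x, hconj' h h.2⟩
      rw [← h1]
      congr 1
      have h2 := hZx _ (hcl a ⟨x⁻¹ * h * x, hconj' h h.2⟩)
      apply Subtype.ext
      show x * a * x⁻¹ * h * (x * a * x⁻¹)⁻¹ * (h : G)⁻¹ = a * (x⁻¹ * h * x) * (a : G)⁻¹ * (x⁻¹ * h * x)⁻¹
      have h3 : x * (a * (x⁻¹ * h * x) * (a : G)⁻¹ * (x⁻¹ * h * x)⁻¹) =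
        (a * (x⁻¹ * h * x) * (a : G)⁻¹ * (x⁻¹ * h * x)⁻¹) * x := h2
      calc x * a * x⁻¹ * h * (x * a * x⁻¹)⁻¹ * (h : G)⁻¹
          = x * (a * (x⁻¹ * h * x) * (a : G)⁻¹ * (x⁻¹ * h * x)⁻¹) * x⁻¹ := by group
        _ = _ := by rw [h3]; group
    have hDle : (Subgroup.center R).map R.subtype ≤ (cen τ).map R.subtype := by
      apply Subgroup.map_mono
      intro c hc
      rw [mem_cen]
      intro h
      rw [Subgroup.mem_center_iff.1 hc h]
    rcases hirrR _ hDle (Subgroup.map_subtype_le _) (norm_of_inv _ hDinv) with h | h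
    · exact Subgroup.map_injective R.subtype_injective h
    · exfalso
      have h1 : cen τ = ⊤ := by
        apply Subgroup.map_injective R.subtype_injective
        rw [h, ← MonoidHom.range_eq_map, Subgroup.range_subtype]
      have h2 : _root_.commutator R ≤ τ.toHomUnits.ker := by
        rw [_root_.commutator_def, Subgroup.commutator_le]
        intro a _ b _
        have h3 : a ∈ cen τ := by rw [h1]; exact Subgroup.mem_top a
        rw [MonoidHom.mem_ker]
        apply Units.ext
        exact mem_cen'.1 h3 b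
      rw [hcom] at h2
      have h3 : τ z = 1 := congrArg Units.val (MonoidHom.mem_ker.1 (h2 hz))
      have hnt := hirr.1
      obtain ⟨⟨u, huU⟩, hu0⟩ := exists_ne (0 : U)
      have hu0' : u ≠ 0 := fun h => hu0 (Subtype.ext h)
      have h4 : σ z u = u := congrArg Subtype.val (LinearMap.congr_fun h3 ⟨u, huU⟩)
      rw [hru u huU] at h4
      apply hr
      have h5 : (r - 1) • u = 0 := by rw [sub_smul, one_smul, h4, sub_self]
      exact sub_eq_zero.1 ((smul_eq_zero.1 h5).resolve_right hu0')
  -- the fixed points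
  have hC : centralizer ({x} : Set G) ⊓ R = (Subgroup.center R).map R.subtype := by
    have h1 : (Subgroup.center R).map R.subtype ≤ centralizer ({x} : Set G) ⊓ R := by
      rintro _ ⟨c, hc, rfl⟩
      refine ⟨?_, c.2⟩
      show (c : G) ∈ centralizer ({x} : Set G)
      rw [mem_centralizer_iff]
      intro y hy
      rw [Set.mem_singleton_iff.1 hy]
      exact hZx c hc
    rcases hirrR _ h1 inf_le_right (norm_of_inv _ fun a ha => by
      have h2 : x * a = a * x := mem_centralizer_iff.1 ha.1 x rfl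
      have h3 : x * a * x⁻¹ = a := by rw [h2, mul_assoc, mul_inv_cancel, mul_one]
      rw [h3]
      exact ha) with h | h
    · exact h
    · exfalso
      apply hne
      rw [← hgen, eq_bot_iff, Subgroup.commutator_le]
      intro a ha y hy
      rw [← h] at ha
      have h2 : x * a = a * x := mem_centralizer_iff.1 ha.1 x rfl
      obtain ⟨k, rfl⟩ := mem_zpowers_iff.1 hy
      have h3 := ((show Commute x a from h2).zpow_left k).eq
      rw [Subgroup.mem_bot, commutatorElement_eq_one_iff_mul_comm]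
      exact h3.symm
  have hmod := card_modEq (R := R) hp hx hN
  rw [hC, Subgroup.card_map_of_injective R.subtype_injective, ← Subgroup.card_mul_index (Subgroup.center R), ← hD,
    hidx, hD] at hmod
  set c := Nat.card (Subgroup.center R) with hc
  set d := finrank K U with hdd
  have hd0 : 0 < d := by
    have := hirr.1
    exact Module.finrank_pos
  have hcp : c.Coprime p := by
    obtain ⟨m, hm⟩ := IsPGroup.iff_card.1 (hR.to_subgroup (Subgroup.center R))
    rw [hc, hm]
    exact Nat.Coprime.pow_left _ ((Nat.coprime_primes ht hp).2 (Ne.symm hpt))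
  have hdvd : p ∣ (d - 1) * (d + 1) := by
    have h1 : c * 1 ≡ c * (d * d) [MOD p] := by rw [mul_one]; exact hmod.symm
    have h2 : 1 ≡ d * d [MOD p] := Nat.ModEq.cancel_left_of_coprime (by rwa [Nat.gcd_comm]) h1
    have h3 := (Nat.modEq_iff_dvd' (Nat.mul_pos hd0 hd0)).1 h2
    have h4 : (d - 1) * (d + 1) = d * d - 1 := by
      obtain ⟨e, he⟩ : ∃ e, d = e + 1 := ⟨d - 1, by omega⟩
      rw [he]
      simp only [Nat.add_sub_cancel]
      have : (e + 1) * (e + 1) = e * (e + 1 + 1) + 1 := by ring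
      omega
    rwa [h4]
  have hdt : ∃ a : ℕ, d = t ^ a := by
    obtain ⟨m, hm⟩ := IsPGroup.iff_card.1 hR
    have h1 : d ∣ t ^ m := by
      rw [← hm, ← Subgroup.card_mul_index (Subgroup.center R), ← hD, hidx]
      exact Dvd.intro_left (Nat.card (cen τ) * d) (by ring)
    obtain ⟨a, -, ha⟩ := (Nat.dvd_prime_pow ht).1 h1
    exact ⟨a, ha⟩
  have hd1 : d = 1 := by
    rcases (Nat.Prime.dvd_mul hp).1 hdvd with h | h
    · by_contra hcon
      have := Nat.le_of_dvd (by omega) h
      omega
    · have h1 := Nat.le_of_dvd (by omega) h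
      have h2 : p = d + 1 := by omega
      have h3 : finrank K V = d := by omega
      obtain ⟨a, ha⟩ := hdt
      by_contra hcon
      rcases ht.eq_two_or_odd' with h4 | h4
      · rw [h4] at ha
        exact hex a (by rw [h2, ha]) (by rw [h3, ha])
      · have h5 : Odd d := by rw [ha]; exact h4.pow
        rcases hp.eq_two_or_odd' with h6 | h6
        · omega
        · rcases h5 with ⟨k, hk⟩
          rcases h6 with ⟨l, hl⟩
          omega
  rw [hD, hd1, mul_one, Subgroup.index_eq_one] at hidx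
  have h5 : _root_.commutator R = ⊥ := (commutator_eq_bot_iff_center_eq_top R).2 hidx
  rw [hcom, hidx] at h5
  exact top_ne_bot h5

/-- the lemma over an algebraically closed field -/
theorem closed_main' {ρ : G →* Module.End K V} (hρ : Function.Injective ρ) (hp : p.Prime) (ht : t.Prime) (hpt : p ≠ t)
    (htK : (t : K) ≠ 0) (hd : finrank K V < p) (hex : ∀ a : ℕ, p = 2 ^ a + 1 → finrank K V ≠ 2 ^ a)
    (hx : ∃ n : ℕ, orderOf x = p ^ n) :
    ∀ (n : ℕ) (R : Subgroup G), Nat.card R = n → IsPGroup t R → x ∈ normalizer (R : Set G) → ∀ a ∈ R, x * a = a * x := by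
  classical
  have : Fact t.Prime := ⟨ht⟩
  intro n
  induction n using Nat.strong_induction_on with
  | _ n ih =>
    intro R hRn hR hN
    by_contra hcon
    have hAc : (Nat.card (zpowers x)).Coprime t := by
      obtain ⟨m, hm⟩ := hx
      rw [Nat.card_zpowers, hm]
      exact Nat.Coprime.pow_left _ ((Nat.coprime_primes hp ht).2 hpt)
    have hbot : ∀ U : Subgroup G, (∀ a ∈ U, x * a = a * x) → ⁅U, zpowers x⁆ = ⊥ := by
      intro U hU
      rw [eq_bot_iff, Subgroup.commutator_le]
      intro a ha y hy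
      obtain ⟨k, rfl⟩ := mem_zpowers_iff.1 hy
      have h3 := ((show Commute x a from hU a ha).zpow_left k).eq
      rw [Subgroup.mem_bot, commutatorElement_eq_one_iff_mul_comm]
      exact h3.symm
    have hlt : ∀ U : Subgroup G, U < R → zpowers x ≤ normalizer (U : Set G) → ∀ a ∈ U, x * a = a * x := by
      intro U hU hUN
      refine ih (Nat.card U) ?_ U rfl (hR.to_le hU.le) (hUN (mem_zpowers x))
      rw [← hRn]
      exact Set.ncard_lt_ncard hU (Set.toFinite _)
    have hnt : ⁅R, zpowers x⁆ ≠ ⊥ := by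
      intro h
      apply hcon
      intro a ha
      have h1 : ⁅a, x⁆ ∈ ⁅R, zpowers x⁆ := Subgroup.commutator_mem_commutator ha (mem_zpowers x)
      rw [h, Subgroup.mem_bot, commutatorElement_eq_one_iff_mul_comm] at h1
      exact h1.symm
    obtain ⟨h1, h2, h3, -⟩ := Cfsg.Agent.S3736.result (p := t) (zpowers x) (zpowers x) R hR (zpowers_le.2 hN) le_rfl
      (Subgroup.le_normalizer) hAc hnt (fun U hU hUN => hbot U (hlt U hU hUN))
    have hRne : R ≠ ⊥ := fun h => hnt (by rw [h1, h])
    rcases h2 with h2 | h2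
    · apply hRne
      refine ab_case hρ hp ht htK hR ?_ hx hN hd h1
      intro a ha b hb
      exact congrArg Subtype.val (h2.1.1.1 (⟨a, ha⟩ : R) ⟨b, hb⟩)
    · rw [h2.2.1] at h3
      have hntR : Nontrivial R := (Subgroup.nontrivial_iff_ne_bot R).2 hRne
      have hcne : Subgroup.center R ≠ ⊤ := by
        intro h
        have h5 : _root_.commutator R = ⊥ := (commutator_eq_bot_iff_center_eq_top R).2 h
        rw [h2.2.2, h] at h5
        exact top_ne_bot h5
      have hZN : zpowers x ≤ normalizer (((Subgroup.center R).map R.subtype : Subgroup G) : Set G) := by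
        refine norm_of_inv _ ?_
        rintro _ ⟨c, hc, rfl⟩
        have hc' := Subgroup.mem_center_iff.1 hc
        refine ⟨⟨x * c * x⁻¹, (mem_normalizer_iff.1 hN c).1 c.2⟩, ?_, rfl⟩
        rw [SetLike.mem_coe, Subgroup.mem_center_iff]
        intro h
        have h4 : x⁻¹ * (h : G) * x ∈ R := by
          have := (mem_normalizer_iff.1 (inv_mem hN) (h : G)).1 h.2
          rwa [inv_inv] at this
        have h5 : x⁻¹ * (h : G) * x * c = c * (x⁻¹ * (h : G) * x) := congrArg Subtype.val (hc' ⟨_, h4⟩)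
        apply Subtype.ext
        show (h : G) * (x * c * x⁻¹) = x * c * x⁻¹ * h
        calc (h : G) * (x * c * x⁻¹) = x * (x⁻¹ * (h : G) * x * c) * x⁻¹ := by group
          _ = x * c * x⁻¹ * h := by rw [h5]; group
      have hZlt : (Subgroup.center R).map R.subtype < R := by
        refine lt_of_le_of_ne (Subgroup.map_subtype_le _) fun h => hcne ?_
        apply Subgroup.map_injective R.subtype_injective
        rw [h, ← MonoidHom.range_eq_map, Subgroup.range_subtype]
      exact sp_case' hρ hp ht hpt htK hR hRne h2.2.2 hx hN hd hex h1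
        (fun z hz => hlt _ hZlt hZN _ ⟨z, hz, rfl⟩) h3

end Group

/-- base change to the algebraic closure -/
theorem exists_closed {F : Type*} [Field F] {V : Type*} [AddCommGroup V] [Module F V] [FiniteDimensional F V]
    {G : Type*} [Group G] (ρ : G →* Module.End F V) (hρ : Function.Injective ρ) :
    ∃ ρL : G →* Module.End (AlgebraicClosure F) (TensorProduct F (AlgebraicClosure F) V), Function.Injective ρL := by
  let L := AlgebraicClosure F
  let bc : Module.End F V → Module.End L (TensorProduct F L V) := fun a => a.baseChange L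
  have hbc1 : bc 1 = 1 := LinearMap.baseChange_id
  have hbcm : ∀ a b, bc (a * b) = bc a * bc b := fun a b => LinearMap.baseChange_comp _ _
  let ρL : G →* Module.End L (TensorProduct F L V) :=
    { toFun := fun x => bc (ρ x)
      map_one' := by rw [map_one]; exact hbc1
      map_mul' := by intro x y; rw [map_mul]; exact hbcm _ _ }
  have hρLapp : ∀ x (l : L) (v : V), ρL x (l ⊗ₜ[F] v) = l ⊗ₜ[F] (ρ x v) := fun _ _ _ => rfl
  have hinj : Function.Injective (fun v : V => (1 : L) ⊗ₜ[F] v) :=
    Module.FaithfullyFlat.tensorProduct_mk_injective (A := F) (B := L) V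
  refine ⟨ρL, ?_⟩
  intro a b hab
  apply hρ
  ext v
  apply hinj
  show (1 : L) ⊗ₜ[F] (ρ a v) = (1 : L) ⊗ₜ[F] (ρ b v)
  rw [← hρLapp, ← hρLapp, hab]

/-- **Hall-Higman type lemma in degree `≤ p - 1`**: a `p`-element centralises every `t`-group which it normalises, unless
the degree is `p - 1 = 2 ^ a`. -/
theorem commute_of_finrank_lt {F : Type*} [Field F] {V : Type*} [AddCommGroup V] [Module F V] [FiniteDimensional F V]
    {G : Type*} [Group G] [Finite G] (ρ : G →* Module.End F V) (hρ : Function.Injective ρ) {p t : ℕ} (hp : p.Prime)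
    (ht : t.Prime) (hpt : p ≠ t) (htF : (t : F) ≠ 0) (hd : finrank F V < p)
    (hex : ∀ a : ℕ, p = 2 ^ a + 1 → finrank F V ≠ 2 ^ a) {R : Subgroup G} (hR : IsPGroup t R)
    {x : G} (hx : ∃ n : ℕ, orderOf x = p ^ n) (hN : ∀ a ∈ R, x * a * x⁻¹ ∈ R) : ∀ a ∈ R, x * a = a * x := by
  obtain ⟨ρL, hρL⟩ := exists_closed ρ hρ
  have htL : (t : AlgebraicClosure F) ≠ 0 := by
    intro h; apply htF
    apply (algebraMap F (AlgebraicClosure F)).injective
    rw [map_natCast, map_zero]; exact h
  have hfr : finrank (AlgebraicClosure F) (TensorProduct F (AlgebraicClosure F) V) = finrank F V :=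
    Module.finrank_baseChange
  exact closed_main' hρL hp ht hpt htL (by rw [hfr]; exact hd) (by rw [hfr]; exact hex) hx (Nat.card R) R rfl hR
    (norm_of_inv R hN (mem_zpowers x))

/-- a `p`-group with a faithful representation of degree less than `p` in characteristic prime to `p` is abelian -/
theorem pgroup_comm_of_finrank_lt {F : Type*} [Field F] {V : Type*} [AddCommGroup V] [Module F V]
    [FiniteDimensional F V] {T : Type*} [Group T] [Finite T] (ρ : T →* Module.End F V) (hρ : Function.Injective ρ)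
    {p : ℕ} (hp : p.Prime) (hT : IsPGroup p T) (hpF : (p : F) ≠ 0) (hd : finrank F V < p) (a b : T) :
    a * b = b * a := by
  obtain ⟨ρL, hρL⟩ := exists_closed ρ hρ
  have hpL : (p : AlgebraicClosure F) ≠ 0 := by
    intro h; apply hpF
    apply (algebraMap F (AlgebraicClosure F)).injective
    rw [map_natCast, map_zero]; exact h
  have hfr : finrank (AlgebraicClosure F) (TensorProduct F (AlgebraicClosure F) V) = finrank F V :=
    Module.finrank_baseChange
  exact pgroup_comm hp hT hpL hρL (by rw [hfr]; exact hd) a b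

section Main

variable {F : Type*} [Field F] {V : Type*} [AddCommGroup V] [Module F V] [FiniteDimensional F V]
  {G : Type*} [Group G] [Finite G] {ρ : G →* Module.End F V} {p : ℕ} {x : G}

/-- an element of order `p` with a cyclic vector and without the eigenvalue 1 acts in degree `< p` -/
theorem finrank_lt_of_cyclic (hp : p.Prime) (hx : x ^ p = 1) (hfix : ∀ v, ρ x v = v → v = 0)
    (hcyc : ∃ v, Submodule.span F (Set.range fun i : ℕ => ρ (x ^ i) v) = ⊤) : finrank F V < p := by
  classical
  obtain ⟨v, hv⟩ := hcyc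
  obtain ⟨m, rfl⟩ : ∃ m, p = m + 1 := ⟨p - 1, by have := hp.pos; omega⟩
  set f : ℕ → V := fun i => ρ (x ^ i) v with hf
  set S := Submodule.span F (Set.range fun i : Fin m => f i) with hS
  have hfS : ∀ i, i < m → f i ∈ S := fun i hi => Submodule.subset_span ⟨⟨i, hi⟩, rfl⟩
  have hsum : ρ x (∑ i ∈ Finset.range (m + 1), f i) = ∑ i ∈ Finset.range (m + 1), f i := by
    rw [map_sum]
    have h1 : ∀ i ∈ Finset.range (m + 1), ρ x (f i) = f (i + 1) := by
      intro i _
      show ρ x (ρ (x ^ i) v) = ρ (x ^ (i + 1)) v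
      rw [← Module.End.mul_apply, ← map_mul, pow_succ']
    rw [Finset.sum_congr rfl h1, Finset.sum_range_succ, Finset.sum_range_succ']
    congr 1
    show ρ (x ^ (m + 1)) v = ρ (x ^ 0) v
    rw [hx, pow_zero]
  have h0 := hfix _ hsum
  have hm : f m ∈ S := by
    rw [Finset.sum_range_succ] at h0
    rw [← neg_eq_iff_add_eq_zero.2 h0]
    exact S.neg_mem (S.sum_mem fun i hi => hfS i (Finset.mem_range.1 hi))
  have hlast : ∀ i : ℕ, f i ∈ S := by
    intro i
    have h1 : f i = f (i % (m + 1)) := by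
      show ρ (x ^ i) v = ρ (x ^ (i % (m + 1))) v
      conv_lhs => rw [← Nat.mod_add_div i (m + 1), pow_add, pow_mul, hx, one_pow, mul_one]
    rw [h1]
    have h2 : i % (m + 1) < m + 1 := Nat.mod_lt i (by omega)
    rcases Nat.lt_or_ge (i % (m + 1)) m with h3 | h3
    · exact hfS _ h3
    · have h4 : i % (m + 1) = m := by omega
      rw [h4]; exact hm
  have htop : S = ⊤ := by
    rw [eq_top_iff, ← hv, Submodule.span_le]
    rintro _ ⟨i, rfl⟩
    exact hlast i
  have h3 : finrank F S ≤ m := by
    refine (finrank_range_le_card _).trans ?_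
    rw [Fintype.card_fin]
  rw [htop, finrank_top] at h3
  omega

/-- in a completely reducible faithful representation there are no normal subgroups of order a power of the
characteristic -/
theorem pCore_eq_bot {t : ℕ} (ht : t.Prime) (htF : (t : F) = 0) (hρ : Function.Injective ρ)
    (hcr : ∀ U : Submodule F V, (∀ g, ∀ u ∈ U, ρ g u ∈ U) → ∃ U' : Submodule F V, (∀ g, ∀ u ∈ U', ρ g u ∈ U') ∧
      IsCompl U U') (N : Subgroup G) (hN : N.Normal) (hNt : IsPGroup t N) : N = ⊥ := by
  classical
  have : Fact t.Prime := ⟨ht⟩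
  have hchar : CharP F t := (CharP.charP_iff_prime_eq_zero ht).2 htF
  let U : Submodule F V :=
    { carrier := {v | ∀ n ∈ N, ρ n v = v}
      add_mem' := by
        intro a b ha hb n hn
        rw [map_add, ha n hn, hb n hn]
      zero_mem' := fun n _ => map_zero _
      smul_mem' := by
        intro c a ha n hn
        rw [map_smul, ha n hn] }
  have hU : ∀ g, ∀ u ∈ U, ρ g u ∈ U := by
    intro g u hu n hn
    have h1 : n * g = g * (g⁻¹ * n * g) := by group
    have h2 : g⁻¹ * n * g ∈ N := by
      have := hN.conj_mem n hn g⁻¹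
      rwa [inv_inv] at this
    rw [← Module.End.mul_apply, ← map_mul, h1, map_mul, Module.End.mul_apply, hu _ h2]
  obtain ⟨U', hU', hc⟩ := hcr U hU
  have hU0 : U' = ⊥ := by
    by_contra hne
    let σ : Representation F N V := ρ.comp N.subtype
    obtain ⟨w, hw, hw0, hw1⟩ := Cfsg.Agent.Lib.PGroupFixedVector.exists_mem_ne_zero_fixed_rep (p := t) hNt σ U'
      (fun g v hv => hU' g v hv) hne
    apply hw0
    have h3 : w ∈ U ⊓ U' := ⟨fun n hn => hw1 ⟨n, hn⟩, hw⟩
    rwa [hc.inf_eq_bot, Submodule.mem_bot] at h3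
  have hUt : U = ⊤ := by
    have := hc.sup_eq_top
    rwa [hU0, sup_bot_eq] at this
  rw [eq_bot_iff]
  intro n hn
  rw [Subgroup.mem_bot]
  apply hρ
  rw [map_one]
  ext v
  have hv : v ∈ U := by rw [hUt]; trivial
  exact hv n hn

/-- **Lemma B**: in a finite solvable group with a faithful completely reducible representation, an element `x` of prime
order `p` without the eigenvalue 1 and with a cyclic vector commutes with all its conjugates, unless the degree is
`p - 1 = 2 ^ a`. -/
theorem commute_conj (hG : Group.IsSolvable G) (hρ : Function.Injective ρ) (hp : p.Prime)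
    (hcr : ∀ U : Submodule F V, (∀ g, ∀ u ∈ U, ρ g u ∈ U) → ∃ U' : Submodule F V, (∀ g, ∀ u ∈ U', ρ g u ∈ U') ∧
      IsCompl U U') (hx : x ^ p = 1) (hfix : ∀ v, ρ x v = v → v = 0)
    (hcyc : ∃ v, Submodule.span F (Set.range fun i : ℕ => ρ (x ^ i) v) = ⊤)
    (hex : ∀ a : ℕ, p = 2 ^ a + 1 → finrank F V ≠ 2 ^ a) (h : G) : Commute (h * x * h⁻¹) x := by
  classical
  have : Fact p.Prime := ⟨hp⟩
  have hd := finrank_lt_of_cyclic hp hx hfix hcyc
  rcases subsingleton_or_nontrivial V with hV | hV
  · have h1 : ∀ g : G, g = 1 := by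
      intro g
      apply hρ
      exact Subsingleton.elim _ _
    rw [h1 x]
    exact Commute.one_right _
  have hx1 : x ≠ 1 := by
    intro h1
    obtain ⟨v, hv⟩ := exists_ne (0 : V)
    apply hv
    apply hfix
    rw [h1, map_one, Module.End.one_apply]
  have hxo : orderOf x = p := orderOf_eq_prime hx hx1
  have hpF : (p : F) ≠ 0 := by
    intro h0
    have hchar : CharP F p := (CharP.charP_iff_prime_eq_zero hp).2 h0
    let σ : Representation F (zpowers x) V := ρ.comp (zpowers x).subtype
    obtain ⟨w, hw0, hw1⟩ := Cfsg.Agent.Lib.PGroupFixedVector.exists_ne_zero_fixed_rep (p := p)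
      (IsPGroup.of_card (n := 1) (by rw [Nat.card_zpowers, hxo, pow_one])) σ
    exact hw0 (hfix w (hw1 ⟨x, mem_zpowers x⟩))
  have hcen : x ∈ centralizer (Cfsg.fittingSubgroup G : Set G) := by
    have h2 : Cfsg.fittingSubgroup G ≤ centralizer ({x} : Set G) := by
      rw [Cfsg.Agent.Lib.Cores.fittingSubgroup_eq_iSup_pCore]
      refine iSup_le fun t => ?_
      have htp := t.2
      have hN : (Cfsg.pCore (t : ℕ) G).Normal := inferInstance
      have hNt : IsPGroup (t : ℕ) (Cfsg.pCore (t : ℕ) G) := Cfsg.Agent.Lib.Cores.pCore_isPGroup _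
      intro a ha
      rw [mem_centralizer_iff]
      intro y hy
      rw [Set.mem_singleton_iff.1 hy]
      by_cases htF : ((t : ℕ) : F) = 0
      · have h3 := pCore_eq_bot (ρ := ρ) htp htF hρ hcr _ hN hNt
        rw [h3, Subgroup.mem_bot] at ha
        rw [ha, mul_one, one_mul]
      · by_cases htp' : (t : ℕ) = p
        · -- the p-core and x generate a p-group
          let T : Subgroup G := Cfsg.pCore (t : ℕ) G ⊔ zpowers x
          have hT : IsPGroup p T := by
            rw [← htp']
            refine IsPGroup.to_sup_of_normal_left hNt ?_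
            exact IsPGroup.of_card (n := 1) (by rw [Nat.card_zpowers, hxo, pow_one, htp'])
          have h4 := pgroup_comm_of_finrank_lt (ρ := (ρ.comp T.subtype : T →* Module.End F V))
            (hρ.comp Subtype.val_injective) hp hT hpF hd ⟨x, (le_sup_right : zpowers x ≤ T) (mem_zpowers x)⟩
            ⟨a, (le_sup_left : _ ≤ T) ha⟩
          exact congrArg Subtype.val h4
        · exact commute_of_finrank_lt ρ hρ hp htp (Ne.symm htp') htF hd hex hNt ⟨1, by rw [hxo, pow_one]⟩
            (fun a ha => hN.conj_mem a ha x) a ha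
    rw [mem_centralizer_iff]
    intro y hy
    exact ((mem_centralizer_iff.1 (h2 hy)) x rfl).symm
  have hxF : x ∈ Cfsg.fittingSubgroup G := Cfsg.Agent.S0044.result hcen
  have hFn : (Cfsg.fittingSubgroup G).Normal := Cfsg.Agent.Lib.Cores.fittingSubgroup_normal
  exact (mem_centralizer_iff.1 hcen) _ (hFn.conj_mem x hxF h)

end Main

end Cfsg.Agent.H308.LemB
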