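import Cfsg.Agent.H822.Cls.PrimDefs
import Cfsg.Agent.H348.Trans.Pairing
import Cfsg.Agent.H348.Trans.Indep

/-!
# S4148, T4a: existence of the numerical data
-/

set_option autoImplicit false
set_option linter.unusedSectionVars false
set_option linter.style.haveILetI false

namespace Cfsg.Agent.H308.ClsNum

open scoped Pointwise commutatorElement
open Cfsg.Agent.H822.Cls

universe u

section

variable {L U F : Type*} [Group L] [Finite L] [AddCommGroup U] [Finite U] [Nontrivial U]
  [DistribMulAction L U] [Field F] [Finite F] [Module F U] (D : Prim L U F)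

theorem comm_SA {x a : L} (hx : x ∈ D.S) (ha : a ∈ D.A) : x * a = a * x :=
  ((Subgroup.mem_centralizer_iff.1 (D.S_le hx)) a ha).symm

/-- the commutator is multiplicative in the second variable -/
theorem comm_pow {x y : L} (hx : x ∈ D.S) (hy : y ∈ D.S) (n : ℕ) :
    x * y ^ n * x⁻¹ * (y ^ n)⁻¹ = (x * y * x⁻¹ * y⁻¹) ^ n := by
  set z := x * y * x⁻¹ * y⁻¹ with hz
  have hzA : z ∈ D.A := D.comm_mem x hx y hy
  have h1 : x * y * x⁻¹ = z * y := by rw [hz]; group
  have h2 : Commute z y := (comm_SA D hy hzA).symm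
  have h3 : x * y ^ n * x⁻¹ = z ^ n * y ^ n := by
    rw [← conj_pow, h1, h2.mul_pow]
  rw [h3, mul_inv_cancel_right]

theorem relIndex_le : D.A.relIndex D.S ≤ Module.finrank F U ^ 2 := by
  haveI : Module.Finite F U := Module.Finite.of_finite
  have hlin : ∀ b : L, b ∈ D.S → D.σ b = 1 := by
    intro b hb
    have h1 := D.S_le hb
    rw [← D.σ_ker] at h1
    exact h1
  let θ : D.S →* Module.End F U :=
    { toFun := fun b =>
        { toFun := fun v => (b : L) • v
          map_add' := fun v w => smul_add (b : L) v w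
          map_smul' := fun κ v => by
            rw [D.σ_spec, hlin b b.2]
            rfl }
      map_one' := by
        refine LinearMap.ext fun v => ?_
        exact one_smul L v
      map_mul' := fun b c => by
        refine LinearMap.ext fun v => ?_
        exact mul_smul (b : L) (c : L) v }
  let e := Subgroup.subgroupOfEquivOfLe D.A_le
  refine Cfsg.Agent.H348.Trans.index_le_sq θ (D.A.subgroupOf D.S) (D.ι.comp e.toMonoidHom)
    (D.ι_inj.comp e.injective) ?_ ?_ ?_
  · intro a v
    exact D.ι_spec (e a) v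
  · intro x y
    exact D.comm_mem x x.2 y y.2
  · intro a
    rw [Subgroup.mem_subgroupOf]
    constructor
    · intro ha c
      exact Subtype.ext (comm_SA D c.2 ha)
    · intro h
      apply D.cent_le
      rw [Subgroup.mem_centralizer_iff]
      intro c hc
      exact congrArg Subtype.val (h ⟨c, hc⟩)

instance normal_sub : (D.A.subgroupOf D.S).Normal := by
  have := D.A_normal
  infer_instance

theorem quot_comm (a b : D.S ⧸ D.A.subgroupOf D.S) : a * b = b * a := by
  obtain ⟨x, rfl⟩ := QuotientGroup.mk_surjective a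
  obtain ⟨y, rfl⟩ := QuotientGroup.mk_surjective b
  rw [← QuotientGroup.mk_mul, ← QuotientGroup.mk_mul, eq_comm, QuotientGroup.eq, Subgroup.mem_subgroupOf]
  have h := D.comm_mem _ (D.S.inv_mem x.2) _ (D.S.inv_mem y.2)
  have h1 : ((((y * x)⁻¹ * (x * y) : D.S)) : L) = (x : L)⁻¹ * (y : L)⁻¹ * (x : L)⁻¹⁻¹ * (y : L)⁻¹⁻¹ := by
    show ((y : L) * x)⁻¹ * ((x : L) * y) = _
    group
  rw [h1]
  exact h

noncomputable instance quotCommGroup : CommGroup (D.S ⧸ D.A.subgroupOf D.S) :=
  { (inferInstance : Group (D.S ⧸ D.A.subgroupOf D.S)) with mul_comm := quot_comm D }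

/-- the `q`-part of `S / A` -/
noncomputable def K (q : ℕ) : Subgroup (D.S ⧸ D.A.subgroupOf D.S) := (powMonoidHom q).ker

/-- its preimage -/
noncomputable def W (q : ℕ) : Subgroup L :=
  ((K D q).comap (QuotientGroup.mk' (D.A.subgroupOf D.S))).map D.S.subtype

theorem mem_W {q : ℕ} {s : L} : s ∈ W D q ↔ s ∈ D.S ∧ s ^ q ∈ D.A := by
  constructor
  · rintro ⟨t, ht, rfl⟩
    refine ⟨t.2, ?_⟩
    have h1 : ((t : D.S) : D.S ⧸ D.A.subgroupOf D.S) ^ q = 1 := ht
    rw [← QuotientGroup.mk_pow, QuotientGroup.eq_one_iff, Subgroup.mem_subgroupOf] at h1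
    exact h1
  · rintro ⟨hs, h1⟩
    refine ⟨⟨s, hs⟩, ?_, rfl⟩
    show (((⟨s, hs⟩ : D.S)) : D.S ⧸ D.A.subgroupOf D.S) ^ q = 1
    rw [← QuotientGroup.mk_pow, QuotientGroup.eq_one_iff, Subgroup.mem_subgroupOf]
    exact h1

theorem relIndex_W (q : ℕ) : D.A.relIndex (W D q) = Nat.card (K D q) := by
  have h1 : D.A = ((⊥ : Subgroup (D.S ⧸ D.A.subgroupOf D.S)).comap (QuotientGroup.mk' (D.A.subgroupOf D.S))).map
      D.S.subtype := by
    rw [MonoidHom.comap_bot, QuotientGroup.ker_mk', Subgroup.map_subgroupOf_eq_of_le D.A_le]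
  conv_lhs => rw [h1]
  unfold W
  rw [Subgroup.relIndex_map_map_of_injective _ _ D.S.subtype_injective, Subgroup.relIndex_comap,
    Subgroup.map_comap_eq_self_of_surjective (QuotientGroup.mk'_surjective _), Subgroup.relIndex_bot_left]

theorem sqf (x : D.S ⧸ D.A.subgroupOf D.S) : Squarefree (orderOf x) := by
  obtain ⟨s, rfl⟩ := QuotientGroup.mk_surjective x
  obtain ⟨N, hN, hs⟩ := D.prime_exp s s.2
  refine hN.squarefree_of_dvd (orderOf_dvd_of_pow_eq_one ?_)
  rw [← QuotientGroup.mk_pow, QuotientGroup.eq_one_iff, Subgroup.mem_subgroupOf]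
  exact hs

theorem card_K {q : ℕ} (hq : q.Prime) :
    Nat.card (K D q) = q ^ (Nat.card (D.S ⧸ D.A.subgroupOf D.S)).factorization q := by
  have : Fact q.Prime := ⟨hq⟩
  let P : Sylow q (D.S ⧸ D.A.subgroupOf D.S) := default
  rw [← P.card_eq_multiplicity]
  congr 1
  have h1 : K D q = (P : Subgroup (D.S ⧸ D.A.subgroupOf D.S)) := by
    apply le_antisymm
    · have hKp : IsPGroup q (K D q) := by
        intro x
        refine ⟨1, ?_⟩
        apply Subtype.ext
        rw [pow_one]
        exact x.2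
      obtain ⟨P', hP'⟩ := hKp.exists_le_sylow
      have hn : (P : Subgroup (D.S ⧸ D.A.subgroupOf D.S)).Normal := inferInstance
      have : P' = P := by
        have := Sylow.unique_of_normal P hn
        exact Subsingleton.elim _ _
      rwa [this] at hP'
    · intro x hx
      show x ^ q = 1
      obtain ⟨k, hk⟩ := IsPGroup.iff_orderOf.1 P.2 ⟨x, hx⟩
      rw [Subgroup.orderOf_mk] at hk
      have h2 := sqf D x
      rw [hk] at h2
      have h3 : k ≤ 1 := by
        by_contra hcon
        push Not at hcon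
        have h4 : q * q ∣ q ^ k := by
          rw [← sq]
          exact pow_dvd_pow q hcon
        exact hq.one_lt.ne' (Nat.isUnit_iff.1 (h2 q h4))
      apply orderOf_dvd_iff_pow_eq_one.1
      rw [hk]
      exact (pow_dvd_pow q h3).trans (by rw [pow_one])
  rw [h1]

theorem cop_comm {q : ℕ} (hq : q.Prime) {w s : L} (hw : w ∈ W D q) (hs : s ∈ D.S) (hc : ∀ y ∈ W D q, w * y = y * w) :
    w * s = s * w := by
  obtain ⟨hwS, hwq⟩ := (mem_W D).1 hw
  set z := w * s * w⁻¹ * s⁻¹ with hz
  have hzq : z ^ q = 1 := by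
    have h1 := comm_pow D hs hwS q
    have h2 := comm_SA D hs hwq
    rw [h2, mul_inv_cancel_right, mul_inv_cancel] at h1
    have h3 : z = (s * w * s⁻¹ * w⁻¹)⁻¹ := by rw [hz]; group
    rw [h3, inv_pow, ← h1, inv_one]
  obtain ⟨N, hN, hsN⟩ := D.prime_exp s hs
  have hfin : ∀ M : ℕ, ¬ q ∣ M → z ^ M = 1 → w * s = s * w := by
    intro M hM hzM
    have h4 : orderOf z ∣ Nat.gcd q M := Nat.dvd_gcd (orderOf_dvd_of_pow_eq_one hzq) (orderOf_dvd_of_pow_eq_one hzM)
    rw [(hq.coprime_iff_not_dvd.2 hM : Nat.gcd q M = 1), Nat.dvd_one, orderOf_eq_one_iff] at h4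
    rw [hz, mul_inv_eq_one, mul_inv_eq_iff_eq_mul] at h4
    exact h4
  by_cases hqN : q ∣ N
  · obtain ⟨M, rfl⟩ := hqN
    have hqM : ¬ q ∣ M := by
      intro h
      have := hN q (mul_dvd_mul_left q h)
      exact hq.one_lt.ne' (Nat.isUnit_iff.1 this)
    apply hfin M hqM
    rw [← comm_pow D hwS hs M]
    have h5 : s ^ M ∈ W D q := by
      rw [mem_W]
      refine ⟨D.S.pow_mem hs M, ?_⟩
      rw [← pow_mul, mul_comm]
      exact hsN
    rw [hc _ h5, mul_inv_cancel_right, mul_inv_cancel]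
  · apply hfin N hqN
    rw [← comm_pow D hwS hs N, comm_SA D hwS hsN, mul_inv_cancel_right, mul_inv_cancel]

theorem A_le_W (q : ℕ) : D.A ≤ W D q := fun a ha => (mem_W D).2 ⟨D.A_le ha, D.A.pow_mem ha q⟩

theorem W_le_S (q : ℕ) : W D q ≤ D.S := fun _ hs => ((mem_W D).1 hs).1

theorem nondeg {q : ℕ} (hq : q.Prime) : W D q ⊓ Subgroup.centralizer (W D q : Set L) ≤ D.A := by
  rintro w ⟨hw, hwc⟩
  apply D.cent_le
  rw [Subgroup.mem_centralizer_iff]
  intro s hs
  exact (cop_comm D hq hw hs fun y hy => ((Subgroup.mem_centralizer_iff.1 hwc) y hy).symm).symm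

end

theorem exists_num : ExistsNum.{u} := by
  intro L U F _ _ _ _ _ _ _ _ _ D
  classical
  set X := D.S ⧸ D.A.subgroupOf D.S with hX
  have hsq : ∀ q : ℕ, q.Prime → ∃ m : ℕ, Nat.card (K D q) = q ^ (2 * m) := by
    intro q hq
    obtain ⟨j, hj⟩ := Cfsg.Agent.H348.Trans.exists_sq D.A (W D q) (A_le_W D q) D.ι D.ι_inj
      (fun x hx y hy => D.comm_mem x (W_le_S D q hx) y (W_le_S D q hy))
      (fun x hx a ha => comm_SA D (W_le_S D q hx) ha) (nondeg D hq)
    rw [relIndex_W] at hj
    have h1 := card_K D hq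
    rw [hj] at h1
    have h2 : j ∣ q ^ (Nat.card X).factorization q := by
      rw [← h1]; exact dvd_pow_self j two_ne_zero
    obtain ⟨m, -, hm⟩ := (Nat.dvd_prime_pow hq).1 h2
    exact ⟨m, by rw [hj, hm, ← pow_mul, mul_comm]⟩
  have hsq' : ∀ q : ℕ, ∃ m : ℕ, q.Prime → Nat.card (K D q) = q ^ (2 * m) := by
    intro q
    by_cases hq : q.Prime
    · obtain ⟨m, hm⟩ := hsq q hq
      exact ⟨m, fun _ => hm⟩
    · exact ⟨0, fun h => absurd h hq⟩
  choose m hm using hsq'
  have hX0 : Nat.card X ≠ 0 := Nat.card_pos.ne'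
  have hfac : ∀ q : ℕ, q.Prime → (Nat.card X).factorization q = 2 * m q := by
    intro q hq
    have h1 := hm q hq
    rw [card_K D hq] at h1
    exact Nat.pow_right_injective hq.two_le h1
  have hcardX : D.A.relIndex D.S = Nat.card X := rfl
  have hprod : D.A.relIndex D.S = (∏ q ∈ (Nat.card X).primeFactors, q ^ m q) ^ 2 := by
    rw [hcardX, ← Finset.prod_pow]
    conv_lhs => rw [← Nat.prod_factorization_pow_eq_self hX0]
    rw [Finsupp.prod]
    refine Finset.prod_congr (Nat.support_factorization _) ?_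
    intro q hq
    have hq' := Nat.prime_of_mem_primeFactors (by rwa [← Nat.support_factorization])
    rw [hfac q hq', ← pow_mul, mul_comm]
  refine ⟨(Nat.card X).primeFactors, m, ?_⟩
  have hone : ∀ q ∈ (Nat.card X).primeFactors, 1 ≤ m q := by
    intro q hq
    have hq' := Nat.prime_of_mem_primeFactors hq
    have h1 := hq'.factorization_pos_of_dvd hX0 (Nat.dvd_of_mem_primeFactors hq)
    rw [hfac q hq'] at h1
    omega
  refine
    { prime := fun q hq => Nat.prime_of_mem_primeFactors hq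
      one_le := hone
      dvd := ?_
      triv := ?_
      card_part := ?_
      relIndex := hprod
      le_finrank := ?_ }
  · intro q hq
    have hq' := Nat.prime_of_mem_primeFactors hq
    have hnt : ¬ W D q ≤ D.A := by
      intro hle
      have h1 : D.A.relIndex (W D q) = 1 := Subgroup.relIndex_eq_one.2 hle
      rw [relIndex_W, hm q hq'] at h1
      have h2 := hone q hq
      have h3 : 1 < q ^ (2 * m q) := Nat.one_lt_pow (by omega) hq'.one_lt
      omega
    obtain ⟨w, hw, hwA⟩ := SetLike.not_le_iff_exists.1 hnt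
    have hex : ∃ y ∈ W D q, w * y ≠ y * w := by
      by_contra hcon
      push Not at hcon
      apply hwA
      apply nondeg D hq'
      refine ⟨hw, ?_⟩
      show w ∈ Subgroup.centralizer (W D q : Set L)
      rw [Subgroup.mem_centralizer_iff]
      intro y hy
      exact (hcon y hy).symm
    obtain ⟨y, hy, hwy⟩ := hex
    obtain ⟨hyS, hyq⟩ := (mem_W D).1 hy
    have hwS := W_le_S D q hw
    have hzA := D.comm_mem w hwS y hyS
    have hzq : (w * y * w⁻¹ * y⁻¹) ^ q = 1 := by
      rw [← comm_pow D hwS hyS, comm_SA D hwS hyq, mul_inv_cancel_right, mul_inv_cancel]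
    have hz1 : w * y * w⁻¹ * y⁻¹ ≠ 1 := by
      intro h
      rw [mul_inv_eq_one, mul_inv_eq_iff_eq_mul] at h
      exact hwy h
    have hord : orderOf (D.ι ⟨_, hzA⟩) = q := by
      rw [orderOf_injective D.ι D.ι_inj]
      exact orderOf_eq_prime (hp := ⟨hq'⟩) (Subtype.ext hzq) (fun h => hz1 (congrArg Subtype.val h))
    have h4 := orderOf_dvd_natCard (D.ι ⟨_, hzA⟩)
    rw [hord] at h4
    have := Fintype.ofFinite F
    rwa [Nat.card_units] at h4
  · intro q hq hqQ s hs hsq
    by_contra hsA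
    apply hqQ
    rw [Nat.mem_primeFactors]
    refine ⟨hq, ?_, hX0⟩
    have h1 : orderOf (((⟨s, hs⟩ : D.S)) : X) = q := by
      refine orderOf_eq_prime (hp := ⟨hq⟩) ?_ ?_
      · rw [← QuotientGroup.mk_pow, QuotientGroup.eq_one_iff, Subgroup.mem_subgroupOf]
        exact hsq
      · intro h
        rw [QuotientGroup.eq_one_iff, Subgroup.mem_subgroupOf] at h
        exact hsA h
    rw [← h1]
    exact orderOf_dvd_natCard _
  · intro q hq Y hY
    have h1 : Y = W D q := by
      ext s
      rw [hY s, mem_W]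
    rw [h1, relIndex_W, hm q (Nat.prime_of_mem_primeFactors hq)]
  · have h1 := relIndex_le D
    rw [hprod] at h1
    exact (Nat.pow_le_pow_iff_left two_ne_zero).1 h1

end Cfsg.Agent.H308.ClsNum
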