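import Cfsg.Agent.H822.Cls.Props

/-!
# S4148, T2: fixed points of automorphisms of primitive linear groups
-/

set_option autoImplicit false

namespace Cfsg.Agent.H308.ClsFix

open scoped Pointwise commutatorElement
open Cfsg.Agent.H822.Cls

universe u

section Pairing

variable {L : Type*} [Group L]

/-- The commutator `x y x⁻¹ y⁻¹`. -/
def c (x y : L) : L := x * y * x⁻¹ * y⁻¹

variable {A S : Subgroup L}

/-- `A ≤ S` with `A` central in `S` and `S / A` abelian. -/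
structure Pair (A S : Subgroup L) : Prop where
  normal : S.Normal
  le : A ≤ S
  cen : ∀ s ∈ S, ∀ a ∈ A, s * a = a * s
  comm : ∀ x ∈ S, ∀ y ∈ S, c x y ∈ A

variable (P : Pair A S)
include P

omit P in
theorem c_self (x : L) : c x x = 1 := by unfold c; group

omit P in
theorem c_inv (x y : L) : (c x y)⁻¹ = c y x := by unfold c; group

omit P in
theorem c_eq_one {x y : L} : c x y = 1 ↔ x * y = y * x := by
  unfold c
  rw [mul_inv_eq_one, mul_inv_eq_iff_eq_mul]

omit P in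
theorem c_map (g x y : L) : c (g * x * g⁻¹) (g * y * g⁻¹) = g * c x y * g⁻¹ := by
  unfold c; group

theorem Pair.mul_left {x y z : L} (hx : x ∈ S) (hy : y ∈ S) (hz : z ∈ S) :
    c (x * y) z = c x z * c y z := by
  have h1 := P.cen x hx _ (P.comm y hy z hz)
  have h2 := P.cen _ (P.le (P.comm x hx z hz)) _ (P.comm y hy z hz)
  calc c (x * y) z = x * c y z * x⁻¹ * c x z := by unfold c; group
    _ = c y z * c x z := by rw [h1]; group
    _ = _ := h2.symm

theorem Pair.mul_right {x y z : L} (hx : x ∈ S) (hy : y ∈ S) (hz : z ∈ S) :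
    c x (y * z) = c x y * c x z := by
  rw [← c_inv, P.mul_left hy hz hx, mul_inv_rev, c_inv, c_inv]
  exact P.cen _ (P.le (P.comm x hx z hz)) _ (P.comm x hx y hy)

theorem Pair.inv_left {x z : L} (hx : x ∈ S) (hz : z ∈ S) : c x⁻¹ z = (c x z)⁻¹ := by
  have h1 := P.mul_left hx (S.inv_mem hx) hz
  have h2 : c (x * x⁻¹) z = 1 := by unfold c; group
  rw [h2] at h1
  exact (inv_eq_of_mul_eq_one_right h1.symm).symm

theorem Pair.inv_right {x z : L} (hx : x ∈ S) (hz : z ∈ S) : c x z⁻¹ = (c x z)⁻¹ := by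
  rw [← c_inv, P.inv_left hz hx, c_inv, c_inv]

theorem Pair.conj_mem (g : L) {x : L} (hx : x ∈ S) : g * x * g⁻¹ ∈ S :=
  P.normal.conj_mem x hx g

theorem Pair.inv {g : L} (hg : ∀ a ∈ A, g * a = a * g) {x y : L} (hx : x ∈ S) (hy : y ∈ S) :
    c (g * x * g⁻¹) (g * y * g⁻¹) = c x y := by
  rw [c_map, hg _ (P.comm x hx y hy)]
  group

/-- If `c (y_s, φ y_s) = 1` for all `y_s = s φ(s)⁻¹`, then `(φ - 1)(φ² - 1)(1 - φ)` vanishes
modulo `A`. -/
theorem Pair.key (hcent : ∀ x ∈ S, (∀ y ∈ S, x * y = y * x) → x ∈ A) {g : L}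
    (hg : ∀ a ∈ A, g * a = a * g)
    (hz : ∀ s ∈ S, c (s * (g * s * g⁻¹)⁻¹) (g * (s * (g * s * g⁻¹)⁻¹) * g⁻¹) = 1) :
    ∀ t ∈ S, ∀ y, y = t * (g * t * g⁻¹)⁻¹ → ∀ u, u = g * (g * y * g⁻¹) * g⁻¹ * y⁻¹ →
      g * u * g⁻¹ * u⁻¹ ∈ A := by
  -- notation
  let φ : L → L := fun x => g * x * g⁻¹
  have hφm : ∀ x y, φ (x * y) = φ x * φ y := fun x y => by simp only [φ]; group
  have hφi : ∀ x, φ x⁻¹ = (φ x)⁻¹ := fun x => by simp only [φ]; group
  have hφS : ∀ x ∈ S, φ x ∈ S := fun x hx => P.conj_mem g hx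
  have hinv : ∀ x ∈ S, ∀ y ∈ S, c (φ x) (φ y) = c x y := fun x hx y hy => P.inv hg hx hy
  let δ : L → L := fun s => s * (φ s)⁻¹
  have hδS : ∀ x ∈ S, δ x ∈ S := fun x hx => S.mul_mem hx (S.inv_mem (hφS x hx))
  have hz' : ∀ s ∈ S, c (δ s) (φ (δ s)) = 1 := hz
  -- polarization
  have h1 : ∀ s ∈ S, ∀ t ∈ S, c (δ s) (φ (δ t)) * c (δ t) (φ (δ s)) = 1 := by
    intro s hs t ht
    have h2 : δ (s * t) = c s (δ t) * (δ t * δ s) := by
      simp only [δ, hφm, c]; group
    have h3 : c s (δ t) ∈ A := P.comm s hs _ (hδS t ht)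
    have h4 : φ (c s (δ t)) = c s (δ t) := by
      simp only [φ]; rw [hg _ h3]; group
    have h5 := hz' _ (S.mul_mem hs ht)
    have h6 : ∀ a ∈ A, ∀ x ∈ S, c a x = 1 := fun a ha x hx =>
      c_eq_one.2 (P.cen x hx a ha).symm
    have h7 : ∀ a ∈ A, ∀ x ∈ S, c x a = 1 := fun a ha x hx =>
      c_eq_one.2 (P.cen x hx a ha)
    have m1 := hδS s hs
    have m2 := hδS t ht
    have m3 := hφS _ m1
    have m4 := hφS _ m2
    have mts := S.mul_mem m2 m1
    have mts' := S.mul_mem m4 m3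
    rw [h2, hφm, h4, hφm, P.mul_left (P.le h3) mts (S.mul_mem (P.le h3) mts'),
      h6 _ h3 _ (S.mul_mem (P.le h3) mts'), one_mul, P.mul_right mts (P.le h3) mts',
      h7 _ h3 _ mts, one_mul, P.mul_left m2 m1 mts', P.mul_right m2 m4 m3,
      P.mul_right m1 m4 m3, hz' t ht, hz' s hs, one_mul, mul_one] at h5
    rw [P.cen _ (P.le (P.comm _ m1 _ m4)) _ (P.comm _ m2 _ m3)]
    exact h5
  -- `c (φ y_s) (φ² y_t · y_t⁻¹) = 1`
  have h2 : ∀ s ∈ S, ∀ t ∈ S, c (φ (δ s)) (φ (φ (δ t)) * (δ t)⁻¹) = 1 := by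
    intro s hs t ht
    have m1 := hδS s hs
    have m2 := hδS t ht
    have m3 := hφS _ m1
    have m4 := hφS _ m2
    have m5 := hφS _ m4
    rw [P.mul_right m3 m5 (S.inv_mem m2), hinv _ m1 _ m4, P.inv_right m3 m2, c_inv]
    exact h1 s hs t ht
  intro t ht y hy u hu
  have hyt : y = δ t := hy
  have hut : u = φ (φ (δ t)) * (δ t)⁻¹ := by rw [hu, hyt]
  have m2 := hδS t ht
  have huS : u ∈ S := by
    rw [hut]
    exact S.mul_mem (hφS _ (hφS _ m2)) (S.inv_mem m2)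
  have h3 : ∀ s ∈ S, c (φ (φ s)) (φ u * u⁻¹) = 1 := by
    intro s hs
    have m1 := hφS s hs
    have m3 := hφS _ m1
    have h4 := h2 s hs t ht
    rw [← hut] at h4
    have h5 : φ (δ s) = φ s * (φ (φ s))⁻¹ := by
      simp only [δ]; rw [hφm, hφi]
    rw [h5, P.mul_left m1 (S.inv_mem m3) huS, P.inv_left m3 huS, mul_inv_eq_one] at h4
    rw [P.mul_right m3 (hφS _ huS) (S.inv_mem huS), hinv _ m1 _ huS, P.inv_right m3 huS, h4,
      mul_inv_cancel]
  have h4 : φ u * u⁻¹ ∈ S := S.mul_mem (hφS _ huS) (S.inv_mem huS)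
  refine hcent _ h4 fun x hx => ?_
  have h5 : g⁻¹ * (g⁻¹ * x * g⁻¹⁻¹) * g⁻¹⁻¹ ∈ S := P.conj_mem g⁻¹ (P.conj_mem g⁻¹ hx)
  have h6 := h3 _ h5
  have h7 : φ (φ (g⁻¹ * (g⁻¹ * x * g⁻¹⁻¹) * g⁻¹⁻¹)) = x := by
    simp only [φ]; group
  rw [h7] at h6
  exact (c_eq_one.1 h6).symm

end Pairing

section Nil

variable {X : Type*} [AddCommGroup X] {Φ : AddMonoid.End X} {m n : ℕ}

theorem nil_step (hm : Φ ^ m = 1) (hn : ∀ x : X, n • x = 0) (hmn : m.Coprime n) {x : X}
    (h : (Φ - 1) ((Φ - 1) x) = 0) : (Φ - 1) x = 0 := by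
  set u := (Φ - 1) x with hu
  have h1 : Φ u = u := by
    have : Φ u - u = 0 := h
    exact sub_eq_zero.1 this
  have h2 : Φ x = x + u := by
    have : u = Φ x - x := hu
    rw [this]; abel
  have h3 : ∀ k : ℕ, (Φ ^ k) x = x + k • u := by
    intro k
    induction k with
    | zero => simp
    | succ k ih =>
      rw [pow_succ']
      change Φ ((Φ ^ k) x) = _
      rw [ih, map_add, map_nsmul, h1, h2, succ_nsmul]
      abel
  have h4 := h3 m
  rw [hm] at h4
  have h5 : m • u = 0 := by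
    have h6 : x = x + m • u := h4
    exact (add_eq_left.1 h6.symm)
  have h6 := Nat.gcd_eq_gcd_ab m n
  rw [hmn.gcd_eq_one] at h6
  calc u = (1 : ℤ) • u := (one_zsmul u).symm
    _ = ((m : ℤ) * Nat.gcdA m n + (n : ℤ) * Nat.gcdB m n) • u := by rw [← h6]; rfl
    _ = 0 := by
      rw [add_zsmul, mul_comm (m : ℤ), mul_comm (n : ℤ), mul_zsmul, mul_zsmul, natCast_zsmul,
        natCast_zsmul, h5, hn, smul_zero, smul_zero, add_zero]

theorem eq_one_of_key (hm : Φ ^ m = 1) (hodd : Odd m) (hn : ∀ x : X, n • x = 0)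
    (hmn : m.Coprime n) (h : ∀ x : X, (Φ - 1) ((Φ * Φ - 1) ((1 - Φ) x)) = 0) : Φ = 1 := by
  have h1 : ∀ x : X, (Φ - 1) ((Φ - 1) ((Φ - 1) ((Φ + 1) x))) = 0 := by
    intro x
    have h2 : ((Φ - 1) * ((Φ - 1) * ((Φ - 1) * (Φ + 1)))) =
        -((Φ - 1) * ((Φ * Φ - 1) * (1 - Φ))) := by
      noncomm_ring
    have h3 := congrArg (fun f : AddMonoid.End X => f x) h2
    have h4 : (Φ - 1) ((Φ - 1) ((Φ - 1) ((Φ + 1) x))) =
      -((Φ - 1) ((Φ * Φ - 1) ((1 - Φ) x))) := h3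
    rw [h4, h, neg_zero]
  have h2 : ∀ x : X, (Φ * Φ) x = x := by
    intro x
    have h3 := nil_step hm hn hmn (nil_step hm hn hmn (h1 x))
    have h4 : ((Φ - 1) * (Φ + 1)) = Φ * Φ - 1 := by noncomm_ring
    have h5 : (Φ * Φ - 1) x = 0 := by
      rw [← h4]; exact h3
    have h6 : (Φ * Φ) x - x = 0 := h5
    exact sub_eq_zero.1 h6
  have h3 : Φ ^ 2 = 1 := by rw [pow_two]; exact AddMonoidHom.ext h2
  obtain ⟨k, hk⟩ := hodd
  rw [hk, pow_add, pow_mul, h3, one_pow, one_mul, pow_one] at hm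
  exact hm

end Nil

/-- The conclusion of the argument with the commutator pairing. -/
theorem Pair.trivial {L : Type*} [Group L] {A S : Subgroup L} (P : Pair A S)
    (hcent : ∀ x ∈ S, (∀ y ∈ S, x * y = y * x) → x ∈ A) {g : L}
    (hg : ∀ a ∈ A, g * a = a * g) {m : ℕ} (hgm : g ^ m = 1) (hodd : Odd m)
    (hcop : m.Coprime (A.relIndex S))
    (hz : ∀ s ∈ S, c (s * (g * s * g⁻¹)⁻¹) (g * (s * (g * s * g⁻¹)⁻¹) * g⁻¹) = 1) :
    ∀ s ∈ S, g * s * g⁻¹ * s⁻¹ ∈ A := by
  have hAn : (A.subgroupOf S).Normal := by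
    refine ⟨fun a ha s => ?_⟩
    rw [Subgroup.mem_subgroupOf] at ha ⊢
    have : ((s * a * s⁻¹ : S) : L) = a := by
      change (s : L) * a * (s : L)⁻¹ = a
      rw [P.cen s s.2 a ha]; group
    rw [this]
    exact ha
  let X := ↥S ⧸ A.subgroupOf S
  let _ : CommGroup X := { (inferInstance : Group X) with
    mul_comm := by
      intro x y
      obtain ⟨x, rfl⟩ := QuotientGroup.mk_surjective x
      obtain ⟨y, rfl⟩ := QuotientGroup.mk_surjective y
      change ((x * y : S) : ↥S ⧸ A.subgroupOf S) = ((y * x : S) : ↥S ⧸ A.subgroupOf S)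
      rw [QuotientGroup.eq, Subgroup.mem_subgroupOf]
      have h1 : (((x * y)⁻¹ * (y * x) : S) : L) = c (y : L)⁻¹ (x : L)⁻¹ := by
        change ((x : L) * y)⁻¹ * (y * x) = _
        unfold c; group
      rw [h1]
      exact P.comm _ (S.inv_mem y.2) _ (S.inv_mem x.2) }
  let φ : ↥S →* ↥S :=
    { toFun := fun x => ⟨g * x * g⁻¹, P.conj_mem g x.2⟩
      map_one' := by apply Subtype.ext; simp
      map_mul' := fun x y => by
        apply Subtype.ext
        change g * ((x : L) * y) * g⁻¹ = g * x * g⁻¹ * (g * y * g⁻¹)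
        group }
  have hφA : A.subgroupOf S ≤ (A.subgroupOf S).comap φ := by
    intro a ha
    rw [Subgroup.mem_subgroupOf] at ha
    rw [Subgroup.mem_comap, Subgroup.mem_subgroupOf]
    change g * (a : L) * g⁻¹ ∈ A
    rw [hg _ ha, mul_inv_cancel_right]
    exact ha
  let ψ : X →* X := QuotientGroup.map _ _ φ hφA
  let Φ : AddMonoid.End (Additive X) := MonoidHom.toAdditive ψ
  have hΦ : ∀ x : S, Φ (Additive.ofMul (x : ↥S ⧸ A.subgroupOf S)) =
      Additive.ofMul ((φ x : S) : ↥S ⧸ A.subgroupOf S) := fun x => rfl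
  have hrep : ∀ x : Additive X, ∃ s : S, x = Additive.ofMul (s : ↥S ⧸ A.subgroupOf S) := by
    intro x
    obtain ⟨s, hs⟩ := QuotientGroup.mk_surjective (Additive.toMul x)
    exact ⟨s, by rw [hs]; rfl⟩
  have hpow : ∀ (k : ℕ) (x : S), (Φ ^ k) (Additive.ofMul (x : ↥S ⧸ A.subgroupOf S)) =
      Additive.ofMul (((⟨g ^ k * x * (g ^ k)⁻¹, P.conj_mem (g ^ k) x.2⟩ : S)) :
        ↥S ⧸ A.subgroupOf S) := by
    intro k x
    induction k with
    | zero => simp
    | succ k ih =>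
      rw [pow_succ']
      change Φ ((Φ ^ k) _) = _
      rw [ih, hΦ]
      congr 2
      apply Subtype.ext
      change g * (g ^ k * (x : L) * (g ^ k)⁻¹) * g⁻¹ = g ^ (k + 1) * x * (g ^ (k + 1))⁻¹
      rw [pow_succ']; group
  have h1 : Φ = 1 := by
    refine eq_one_of_key (m := m) (n := A.relIndex S) ?_ hodd ?_ hcop ?_
    · apply AddMonoidHom.ext
      intro x
      obtain ⟨s, rfl⟩ := hrep x
      refine (hpow m s).trans ?_
      change Additive.ofMul _ = Additive.ofMul (s : ↥S ⧸ A.subgroupOf S)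
      congr 2
      apply Subtype.ext
      change g ^ m * (s : L) * (g ^ m)⁻¹ = s
      rw [hgm]; group
    · intro x
      obtain ⟨s, rfl⟩ := hrep x
      rw [← ofMul_pow]
      have : ((s : ↥S ⧸ A.subgroupOf S)) ^ (A.relIndex S) = 1 := by
        change ((s : ↥S ⧸ A.subgroupOf S)) ^ Nat.card (↥S ⧸ A.subgroupOf S) = 1
        exact pow_card_eq_one'
      rw [this]; rfl
    · intro x
      obtain ⟨t, rfl⟩ := hrep x
      have h2 := P.key hcent hg hz t t.2 _ rfl _ rfl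
      set y : S := t * (φ t)⁻¹ with hy
      set u : S := φ (φ y) * y⁻¹ with hu
      have e1 : (1 - Φ) (Additive.ofMul (t : ↥S ⧸ A.subgroupOf S)) =
          Additive.ofMul (y : ↥S ⧸ A.subgroupOf S) := by
        change Additive.ofMul (t : ↥S ⧸ A.subgroupOf S) -
          Φ (Additive.ofMul (t : ↥S ⧸ A.subgroupOf S)) = _
        rw [hΦ, ← ofMul_div, div_eq_mul_inv]
        rfl
      have e2 : (Φ * Φ - 1) (Additive.ofMul (y : ↥S ⧸ A.subgroupOf S)) =
          Additive.ofMul (u : ↥S ⧸ A.subgroupOf S) := by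
        change Φ (Φ (Additive.ofMul (y : ↥S ⧸ A.subgroupOf S))) -
          (Additive.ofMul (y : ↥S ⧸ A.subgroupOf S)) = _
        rw [hΦ, hΦ, ← ofMul_div, div_eq_mul_inv]
        rfl
      have e3 : (Φ - 1) (Additive.ofMul (u : ↥S ⧸ A.subgroupOf S)) =
          Additive.ofMul ((φ u * u⁻¹ : S) : ↥S ⧸ A.subgroupOf S) := by
        change Φ (Additive.ofMul (u : ↥S ⧸ A.subgroupOf S)) -
          (Additive.ofMul (u : ↥S ⧸ A.subgroupOf S)) = _
        rw [hΦ, ← ofMul_div, div_eq_mul_inv]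
        rfl
      rw [e1, e2, e3]
      have e4 : ((φ u * u⁻¹ : S) : ↥S ⧸ A.subgroupOf S) = 1 := by
        rw [QuotientGroup.eq_one_iff, Subgroup.mem_subgroupOf]
        exact h2
      rw [e4]; rfl
  intro s hs
  have h2 := hΦ ⟨s, hs⟩
  rw [h1] at h2
  have h3 : ((⟨s, hs⟩ : S) : ↥S ⧸ A.subgroupOf S) = ((φ ⟨s, hs⟩ : S) : ↥S ⧸ A.subgroupOf S) := h2
  rw [QuotientGroup.eq, Subgroup.mem_subgroupOf] at h3
  have h4 : s⁻¹ * (g * s * g⁻¹) ∈ A := h3
  have h5 := P.cen s hs _ h4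
  have h6 : g * s * g⁻¹ * s⁻¹ = s⁻¹ * (g * s * g⁻¹) := by
    calc g * s * g⁻¹ * s⁻¹ = (s * (s⁻¹ * (g * s * g⁻¹))) * s⁻¹ := by group
      _ = _ := by rw [h5]; group
  rw [h6]
  exact h4

section

variable {L U : Type u} [Group L] [Finite L] [AddCommGroup U] [Finite U] [DistribMulAction L U]
    {F : Type u} [Field F] [Finite F] [Module F U]

omit [Finite L] [Finite F] in
theorem Prim.card_fixed_sq (D : Prim L U F) (g : L)
    (hg : g ∈ Subgroup.centralizer (D.A : Set L)) (hodd : Odd (orderOf g))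
    (hcop : (orderOf g).Coprime (D.A.relIndex D.S))
    (hne : ∃ s ∈ D.S, g * s * g⁻¹ * s⁻¹ ∉ D.A) :
    Nat.card {u : U // g • u = u} ^ 2 ≤ Nat.card U := by
  have hSA : ∀ s ∈ D.S, ∀ a ∈ D.A, s * a = a * s := fun s hs a ha =>
    (Subgroup.mem_centralizer_iff.1 (D.S_le hs) a ha).symm
  have P : Pair D.A D.S := ⟨D.S_normal, D.A_le, hSA, D.comm_mem⟩
  have hgA : ∀ a ∈ D.A, g * a = a * g := fun a ha =>
    (Subgroup.mem_centralizer_iff.1 hg a ha).symm
  have hcent : ∀ x ∈ D.S, (∀ y ∈ D.S, x * y = y * x) → x ∈ D.A := fun x _ h =>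
    D.cent_le (Subgroup.mem_centralizer_iff.2 fun y hy => (h y hy).symm)
  -- some `s` with nontrivial `z`
  obtain ⟨s, hs, hz⟩ : ∃ s ∈ D.S,
      c (s * (g * s * g⁻¹)⁻¹) (g * (s * (g * s * g⁻¹)⁻¹) * g⁻¹) ≠ 1 := by
    by_contra hcon
    push Not at hcon
    obtain ⟨s, hs, hs'⟩ := hne
    exact hs' (P.trivial hcent hgA (pow_orderOf_eq_one g) hodd hcop hcon s hs)
  set y := s * (g * s * g⁻¹)⁻¹ with hy
  have hyS : y ∈ D.S := D.S.mul_mem hs (D.S.inv_mem (P.conj_mem g hs))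
  have hyS' : g * y * g⁻¹ ∈ D.S := P.conj_mem g hyS
  have hzA : c y (g * y * g⁻¹) ∈ D.A := P.comm _ hyS _ hyS'
  -- `W ∩ sW = 0`
  have h0 : ∀ w : U, g • w = w → g • s⁻¹ • w = s⁻¹ • w → w = 0 := by
    intro w h1 h2
    have h3 : y • w = w := by
      have h4 : y = s * g * s⁻¹ * g⁻¹ := by rw [hy]; group
      rw [h4, mul_smul, mul_smul, mul_smul, inv_smul_eq_iff.2 h1.symm, h2, smul_inv_smul]
    have h4 : (g * y * g⁻¹) • w = w := by
      rw [mul_smul, mul_smul, inv_smul_eq_iff.2 h1.symm, h3, h1]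
    have h5 : c y (g * y * g⁻¹) • w = w := by
      have h6 : y⁻¹ • w = w := inv_smul_eq_iff.2 h3.symm
      have h7 : (g * y * g⁻¹)⁻¹ • w = w := inv_smul_eq_iff.2 h4.symm
      unfold c
      rw [mul_smul, mul_smul, mul_smul, h7, h6, h4, h3]
    have h6 := D.ι_spec ⟨_, hzA⟩ w
    change c y (g * y * g⁻¹) • w = _ at h6
    rw [h5] at h6
    by_contra hw
    apply hz
    have h7 : ((D.ι ⟨_, hzA⟩ : Fˣ) : F) = 1 := by
      have h8 : (1 : F) • w = ((D.ι ⟨_, hzA⟩ : Fˣ) : F) • w := by rw [one_smul]; exact h6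
      exact (smul_left_injective F hw h8).symm
    have h8 : D.ι ⟨_, hzA⟩ = D.ι 1 := by rw [map_one]; exact Units.ext h7
    exact congrArg Subtype.val (D.ι_inj h8)
  -- injection `W × W → U`
  have h1 : Nat.card ({u : U // g • u = u} × {u : U // g • u = u}) ≤ Nat.card U := by
    refine Nat.card_le_card_of_injective
      (fun x : {u : U // g • u = u} × {u : U // g • u = u} => (x.1 : U) + s • (x.2 : U)) ?_
    rintro ⟨⟨a, ha⟩, ⟨b, hb⟩⟩ ⟨⟨a', ha'⟩, ⟨b', hb'⟩⟩ h
    have h2 : a + s • b = a' + s • b' := h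
    have h3 : a - a' = s • (b' - b) := by
      rw [smul_sub, sub_eq_sub_iff_add_eq_add]
      rw [h2, add_comm]
    have h4 : a - a' = 0 := by
      apply h0
      · rw [smul_sub, ha, ha']
      · rw [h3, inv_smul_smul, smul_sub, hb, hb']
    have h5 : b' - b = 0 := by
      rw [h4] at h3
      exact (smul_eq_zero_iff_eq s).1 h3.symm
    have h6 : a = a' := sub_eq_zero.1 h4
    have h7 : b = b' := (sub_eq_zero.1 h5).symm
    subst h6 h7
    rfl
  rw [Nat.card_prod] at h1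
  rw [pow_two]
  exact h1

omit [Finite L] in
theorem Prim.card_fixed_pow (D : Prim L U F) {p : ℕ} (hp : p.Prime) (g : L)
    (hg : ∃ k : ℕ, g ^ p ^ k = 1) (hA : g ∉ Subgroup.centralizer (D.A : Set L)) :
    Nat.card {u : U // g • u = u} ^ p ≤ Nat.card U := by
  classical
  set s := D.σ g with hs
  have hs1 : s ≠ 1 := by
    intro h
    apply hA
    rw [← D.σ_ker]
    exact h
  obtain ⟨k, hk⟩ := hg
  have hsk : s ^ p ^ k = 1 := by rw [hs, ← map_pow, hk, map_one]
  obtain ⟨j, hj, hjo⟩ := (Nat.dvd_prime_pow hp).1 (orderOf_dvd_of_pow_eq_one hsk)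
  have hj0 : j ≠ 0 := by
    rintro rfl
    rw [pow_zero, orderOf_eq_one_iff] at hjo
    exact hs1 hjo
  have hple : p ≤ orderOf s := by
    rw [hjo]
    exact Nat.le_self_pow hj0 p
  -- a generator of the units
  obtain ⟨θ, hθ⟩ := IsCyclic.exists_generator (α := Fˣ)
  have hinj : Function.Injective fun i : Fin p => (s ^ (i : ℕ)) (θ : F) := by
    intro i i' h
    have h1 : s ^ (i : ℕ) = s ^ (i' : ℕ) := by
      apply RingEquiv.ext
      intro x
      by_cases hx : x = 0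
      · rw [hx, map_zero, map_zero]
      · obtain ⟨n, hn⟩ := hθ (Units.mk0 x hx)
        have hn' : θ ^ n = Units.mk0 x hx := hn
        have h2 : x = ((θ ^ n : Fˣ) : F) := by rw [hn']; rfl
        have h3 : (s ^ (i : ℕ)) (θ : F) = (s ^ (i' : ℕ)) (θ : F) := h
        rw [h2, Units.val_zpow_eq_zpow_val, map_zpow₀, map_zpow₀, h3]
    have h2 := pow_injOn_Iio_orderOf (x := s) (i.2.trans_le hple : (i : ℕ) < orderOf s)
      (i'.2.trans_le hple : (i' : ℕ) < orderOf s) h1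
    exact Fin.ext h2
  let M : Matrix (Fin p) (Fin p) F := Matrix.vandermonde fun i : Fin p => (s ^ (i : ℕ)) (θ : F)
  have hdet : M.det ≠ 0 := Matrix.det_vandermonde_ne_zero_iff.2 hinj
  have hM : ∀ i j : Fin p, M i j = (s ^ (i : ℕ)) ((θ : F) ^ (j : ℕ)) := by
    intro i j
    rw [map_pow]
    rfl
  have hgpow : ∀ (n : ℕ) (κ : F) (w : U), g • w = w → (g ^ n) • κ • w = (s ^ n) κ • w := by
    intro n κ w hw
    rw [D.σ_spec, map_pow, ← hs]
    congr 1
    have h1 : g ∈ MulAction.stabilizer L w := hw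
    exact (MulAction.stabilizer L w).pow_mem h1 n
  -- the key injectivity
  have hzero : ∀ w : Fin p → {u : U // g • u = u},
      (∑ j : Fin p, ((θ : F) ^ (j : ℕ)) • (w j : U)) = 0 → ∀ j, (w j : U) = 0 := by
    intro w hw
    have h1 : ∀ i : Fin p, ∑ j, M i j • (w j : U) = 0 := by
      intro i
      have h2 := congrArg (fun x => (g ^ (i : ℕ)) • x) hw
      simp only [smul_zero, Finset.smul_sum] at h2
      rw [← h2]
      refine Finset.sum_congr rfl fun j _ => ?_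
      rw [hM, hgpow _ _ _ (w j).2]
    intro j
    have h2 : ∑ i, M.adjugate j i • ∑ l, M i l • (w l : U) = 0 :=
      Finset.sum_eq_zero fun i _ => by rw [h1, smul_zero]
    have h3 : ∑ i, M.adjugate j i • ∑ l, M i l • (w l : U) = M.det • (w j : U) := by
      calc ∑ i, M.adjugate j i • ∑ l, M i l • (w l : U)
          = ∑ l, (∑ i, M.adjugate j i * M i l) • (w l : U) := by
            simp only [Finset.smul_sum, smul_smul, Finset.sum_smul]
            exact Finset.sum_comm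
        _ = ∑ l, (M.det • (1 : Matrix (Fin p) (Fin p) F)) j l • (w l : U) := by
            refine Finset.sum_congr rfl fun l _ => ?_
            rw [← Matrix.adjugate_mul]
            rfl
        _ = M.det • (w j : U) := by
            rw [Finset.sum_eq_single j]
            · simp
            · intro l _ hl
              simp [Matrix.one_apply_ne hl.symm]
            · intro h
              exact absurd (Finset.mem_univ j) h
    rw [h3] at h2
    exact (smul_eq_zero.1 h2).resolve_left hdet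
  have h1 : Nat.card (Fin p → {u : U // g • u = u}) ≤ Nat.card U := by
    refine Nat.card_le_card_of_injective
      (fun w : Fin p → {u : U // g • u = u} => ∑ j : Fin p, ((θ : F) ^ (j : ℕ)) • (w j : U)) ?_
    intro w w' h
    have h2 := hzero (fun j => ⟨(w j : U) - w' j, by rw [smul_sub, (w j).2, (w' j).2]⟩) (by
      simp only [smul_sub, Finset.sum_sub_distrib]
      exact sub_eq_zero.2 h)
    funext j
    exact Subtype.ext (sub_eq_zero.1 (h2 j))
  rw [Nat.card_fun, Nat.card_eq_fintype_card (α := Fin p), Fintype.card_fin] at h1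
  exact h1

end

end Cfsg.Agent.H308.ClsFix
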