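import Cfsg.Agent.H822.Cls.Props

/-!
# S4148, T6: a set stabilised by no element of prime order `p ≥ 5`

`setLemma`: solvable primitive groups.
-/

set_option autoImplicit false

namespace Cfsg.Agent.H308.ClsSet

open scoped Pointwise commutatorElement
open Cfsg.Agent.H822.Cls MulAction

universe u

/-- A finite group whose order has no prime divisor `< q` is generated by `k` elements with
`q ^ k ≤ |N|`. -/
theorem exists_gen {N : Type*} [Group N] [Finite N] (q : ℕ)
    (hq : ∀ p : ℕ, p.Prime → p ∣ Nat.card N → q ≤ p) :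
    ∃ S : Finset N, Subgroup.closure (S : Set N) = ⊤ ∧ q ^ S.card ≤ Nat.card N := by
  classical
  have := Fintype.ofFinite N
  obtain ⟨S, hS, hmax⟩ := Finset.exists_max_image
    ((Finset.univ : Finset (Finset N)).filter
      fun S : Finset N => q ^ S.card ≤ Nat.card (Subgroup.closure (S : Set N)))
    (fun S : Finset N => Nat.card (Subgroup.closure (S : Set N)))
    ⟨∅, by simp⟩
  rw [Finset.mem_filter] at hS
  refine ⟨S, ?_, hS.2.trans ?_⟩
  · by_contra hne
    obtain ⟨x, hx⟩ : ∃ x, x ∉ Subgroup.closure (S : Set N) := by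
      by_contra h
      push Not at h
      exact hne (Subgroup.eq_top_iff' _ |>.2 h)
    have hxS : x ∉ S := fun h => hx (Subgroup.subset_closure h)
    have hlt : Subgroup.closure (S : Set N) < Subgroup.closure ((insert x S : Finset N) : Set N) := by
      refine lt_of_le_of_ne (Subgroup.closure_mono (by simp)) fun h => hx ?_
      rw [h]
      exact Subgroup.subset_closure (by simp)
    set H := Subgroup.closure (S : Set N) with hH
    set K := Subgroup.closure ((insert x S : Finset N) : Set N) with hK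
    have h1 : Nat.card H * H.relIndex K = Nat.card K := by
      rw [← Nat.card_congr (Subgroup.subgroupOfEquivOfLe hlt.le).toEquiv]
      exact (H.subgroupOf K).card_mul_index
    have h2 : H.relIndex K ≠ 1 := fun h => hlt.not_ge (Subgroup.relIndex_eq_one.1 h)
    have h3 : q ≤ H.relIndex K := by
      have h4 := Nat.minFac_prime h2
      have h5 : (H.relIndex K).minFac ∣ Nat.card N :=
        (Nat.minFac_dvd _).trans ((Dvd.intro_left _ h1).trans K.card_subgroup_dvd_card)
      have h0 : 0 < H.relIndex K := Nat.pos_of_ne_zero (fun h0 => by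
        rw [h0, mul_zero] at h1
        exact Nat.card_pos.ne h1)
      exact (hq _ h4 h5).trans (Nat.minFac_le h0)
    have h6 : q ^ (insert x S).card ≤ Nat.card K := by
      rw [Finset.card_insert_of_notMem hxS, pow_succ, ← h1]
      exact Nat.mul_le_mul hS.2 h3
    have h7 := hmax (insert x S) (by rw [Finset.mem_filter]; exact ⟨Finset.mem_univ _, h6⟩)
    have h8 : Nat.card K ≤ Nat.card H := h7
    exact hlt.ne (Subgroup.eq_of_le_of_card_ge hlt.le h8)
  · exact Subgroup.card_le_card_group _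

section

variable {G Ω : Type*} [Group G] [Finite G] [Finite Ω] [Nontrivial Ω] [MulAction G Ω]
  [FaithfulSMul G Ω]

omit [Finite G] [Finite Ω] in
/-- A solvable primitive group has an abelian transitive normal subgroup. -/
theorem exists_normal [Group.IsSolvable G] [IsPreprimitive G Ω] :
    ∃ N : Subgroup G, N.Normal ∧ (∀ x ∈ N, ∀ y ∈ N, x * y = y * x) ∧
      ∀ a b : Ω, ∃ x ∈ N, x • a = b := by
  have hnt : Nontrivial G := by
    obtain ⟨a, b, hab⟩ := exists_pair_ne Ω
    obtain ⟨g, hg⟩ := exists_smul_eq G a b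
    refine ⟨⟨g, 1, ?_⟩⟩
    rintro rfl
    rw [one_smul] at hg
    exact hab hg
  -- last nontrivial term of the derived series
  obtain ⟨n, hn⟩ := (inferInstance : Group.IsSolvable G).solvable
  classical
  have hex : ∃ n, derivedSeries G n = ⊥ := ⟨n, hn⟩
  have h1 := Nat.find_spec hex
  have h2 : Nat.find hex ≠ 0 := by
    intro h0
    rw [h0, derivedSeries_zero] at h1
    exact top_ne_bot h1
  obtain ⟨m, hm⟩ := Nat.exists_eq_succ_of_ne_zero h2
  have h3 : derivedSeries G m ≠ ⊥ := Nat.find_min hex (by omega)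
  rw [hm, Nat.succ_eq_add_one, derivedSeries_succ, Subgroup.commutator_eq_bot_iff_le_centralizer] at h1
  have hnorm : (derivedSeries G m).Normal := derivedSeries_normal G m
  refine ⟨derivedSeries G m, hnorm, fun x hx y hy => ?_, ?_⟩
  · exact (Subgroup.mem_centralizer_iff.1 (h1 hx) y hy).symm
  · have h4 : fixedPoints (derivedSeries G m) Ω ≠ Set.univ := by
      intro h
      apply h3
      rw [eq_bot_iff]
      intro x hx
      rw [Subgroup.mem_bot]
      apply FaithfulSMul.eq_of_smul_eq_smul (α := Ω)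
      intro a
      have : a ∈ fixedPoints (derivedSeries G m) Ω := by rw [h]; trivial
      rw [one_smul]
      exact this ⟨x, hx⟩
    have h5 : IsPretransitive (derivedSeries G m) Ω :=
      IsQuasiPreprimitive.isPretransitive_of_normal h4
    intro a b
    obtain ⟨x, hx⟩ := exists_smul_eq (derivedSeries G m) a b
    exact ⟨x, x.2, hx⟩

/-- The setting: an abelian transitive normal subgroup of a faithful group. -/
structure Reg (N : Subgroup G) : Prop where
  normal : N.Normal
  comm : ∀ x ∈ N, ∀ y ∈ N, x * y = y * x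
  trans : ∀ a b : Ω, ∃ x ∈ N, x • a = b

variable {N : Subgroup G} (R : Reg (Ω := Ω) N)
include R

omit [Finite G] [Finite Ω] [Nontrivial Ω] in
theorem Reg.free {x : G} (hx : x ∈ N) {a : Ω} (h : x • a = a) : x = 1 := by
  apply FaithfulSMul.eq_of_smul_eq_smul (α := Ω)
  intro b
  obtain ⟨y, hy, rfl⟩ := R.trans a b
  rw [one_smul, ← mul_smul, R.comm x hx y hy, mul_smul, h]

omit [Finite G] [Finite Ω] [Nontrivial Ω] in
theorem Reg.inj {x y : G} (hx : x ∈ N) (hy : y ∈ N) {a : Ω} (h : x • a = y • a) : x = y := by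
  have h1 : (y⁻¹ * x) • a = a := by rw [mul_smul, h, inv_smul_smul]
  have := R.free (N.mul_mem (N.inv_mem hy) hx) h1
  exact (inv_mul_eq_one.1 this).symm

omit [Finite G] [Finite Ω] in
theorem Reg.card : Nat.card N = Nat.card Ω := by
  obtain ⟨a, -⟩ := exists_pair_ne Ω
  refine Nat.card_congr (Equiv.ofBijective (fun x : N => (x : G) • a) ⟨fun x y h => ?_, fun b => ?_⟩)
  · exact Subtype.ext (R.inj x.2 y.2 h)
  · obtain ⟨x, hx, h⟩ := R.trans a b
    exact ⟨⟨x, hx⟩, h⟩

omit [Finite G] [Finite Ω] [Nontrivial Ω] in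
/-- If `g` fixes `a` and `x • a`, then it commutes with `x`. -/
theorem Reg.comm_of_fix {g x : G} (hx : x ∈ N) {a : Ω} (ha : g • a = a) (hxa : g • x • a = x • a) :
    g * x = x * g := by
  have h1 : g * x * g⁻¹ ∈ N := R.normal.conj_mem x hx g
  have h2 : (g * x * g⁻¹) • a = x • a := by
    rw [mul_smul, mul_smul, inv_smul_eq_iff.2 ha.symm, hxa]
  have h3 := R.inj h1 hx h2
  calc g * x = g * x * g⁻¹ * g := by group
    _ = x * g := by rw [h3]

omit [Finite Ω] in
/-- A base with few points. -/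
theorem Reg.exists_base (q : ℕ) (hq : ∀ p : ℕ, p.Prime → p ∣ Nat.card Ω → q ≤ p) :
    ∃ (B : Finset Ω) (k : ℕ), B.Nonempty ∧ B.card ≤ k + 1 ∧ q ^ k ≤ Nat.card Ω ∧
      ∀ g : G, (∀ b ∈ B, g • b = b) → g = 1 := by
  classical
  rw [← R.card] at hq ⊢
  obtain ⟨S, hS, hc⟩ := exists_gen q hq
  obtain ⟨a, -⟩ := exists_pair_ne Ω
  refine ⟨insert a (S.image fun x : N => (x : G) • a), S.card, ⟨a, by simp⟩, ?_, hc, ?_⟩
  · exact (Finset.card_insert_le _ _).trans (Nat.add_le_add_right Finset.card_image_le 1)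
  · intro g hg
    have ha : g • a = a := hg a (by simp)
    have hall : ∀ x : N, g * x = x * g := by
      have hle : (⊤ : Subgroup N) ≤ (Subgroup.centralizer ({g} : Set G)).subgroupOf N := by
        rw [← hS, Subgroup.closure_le]
        intro x hx
        rw [SetLike.mem_coe, Subgroup.mem_subgroupOf, Subgroup.mem_centralizer_singleton_iff]
        refine (R.comm_of_fix x.2 ha (hg _ ?_)).symm
        exact Finset.mem_insert_of_mem (Finset.mem_image_of_mem _ hx)
      intro x
      have := hle (Subgroup.mem_top x)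
      rw [Subgroup.mem_subgroupOf, Subgroup.mem_centralizer_singleton_iff] at this
      exact this.symm
    apply FaithfulSMul.eq_of_smul_eq_smul (α := Ω)
    intro b
    obtain ⟨x, hx, rfl⟩ := R.trans a b
    rw [one_smul, ← mul_smul, hall ⟨x, hx⟩, mul_smul, ha]

omit [Finite G] in
/-- The number of fixed points of an element of prime order `p` prime to the degree. -/
theorem Reg.card_fixed {g : G} {p : ℕ} (hp : p.Prime) (hg : orderOf g = p)
    (hn : ¬ p ∣ Nat.card Ω) : (p + 1) * Nat.card (fixedBy Ω g) ≤ Nat.card Ω := by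
  have : Fact p.Prime := ⟨hp⟩
  have hP : IsPGroup p (Subgroup.zpowers g) := IsPGroup.of_card (n := 1) (by
    rw [Nat.card_zpowers, hg, pow_one])
  have hfix : ∀ a : Ω, a ∈ fixedPoints (Subgroup.zpowers g) Ω ↔ g • a = a := by
    intro a
    constructor
    · intro h
      exact h ⟨g, Subgroup.mem_zpowers g⟩
    · rintro h ⟨x, k, rfl⟩
      have h1 : g ∈ stabilizer G a := h
      exact (stabilizer G a).zpow_mem h1 k
  obtain ⟨a, ha⟩ := hP.nonempty_fixed_point_of_prime_not_dvd_card Ω hn
  rw [hfix] at ha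
  -- the fixed points correspond to the centralizer in `N`
  have h1 : Nat.card (fixedBy Ω g) = Nat.card (N ⊓ Subgroup.centralizer ({g} : Set G) : Subgroup G) := by
    refine (Nat.card_congr (Equiv.ofBijective
      (fun x : (N ⊓ Subgroup.centralizer ({g} : Set G) : Subgroup G) =>
        (⟨(x : G) • a, ?_⟩ : fixedBy Ω g)) ⟨fun x y h => ?_, fun b => ?_⟩)).symm
    · rw [mem_fixedBy, ← mul_smul]
      have := Subgroup.mem_centralizer_singleton_iff.1 x.2.2
      rw [← this, mul_smul, ha]
    · exact Subtype.ext (R.inj x.2.1 y.2.1 (congrArg Subtype.val h))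
    · obtain ⟨x, hx, h⟩ := R.trans a b
      refine ⟨⟨x, hx, Subgroup.mem_centralizer_singleton_iff.2 ?_⟩, Subtype.ext h⟩
      exact (R.comm_of_fix hx ha (by rw [h]; exact b.2)).symm
  have h2 : Nat.card (fixedBy Ω g) ∣ Nat.card Ω := by
    rw [h1, ← R.card]
    exact Subgroup.card_dvd_of_le inf_le_left
  obtain ⟨m, hm⟩ := h2
  have h3 : Nat.card Ω ≡ Nat.card (fixedBy Ω g) [MOD p] := by
    have h4 := hP.card_modEq_card_fixedPoints Ω
    have h5 : Nat.card (fixedPoints (Subgroup.zpowers g) Ω) = Nat.card (fixedBy Ω g) :=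
      Nat.card_congr (Equiv.subtypeEquivRight hfix)
    rwa [h5] at h4
  have hpf : ¬ p ∣ Nat.card (fixedBy Ω g) := fun h => hn (by rw [hm]; exact Dvd.dvd.mul_right h m)
  have h6 : m ≡ 1 [MOD p] := by
    have h7 : Nat.card (fixedBy Ω g) * m ≡ Nat.card (fixedBy Ω g) * 1 [MOD p] := by
      rw [← hm, mul_one]; exact h3
    exact Nat.ModEq.cancel_left_of_coprime ((Nat.Prime.coprime_iff_not_dvd hp).2 hpf) h7
  have h8 : m ≠ 1 := by
    rintro rfl
    rw [mul_one] at hm
    have h9 : fixedBy Ω g = Set.univ := by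
      rw [Set.eq_univ_iff_ncard, ← Nat.card_coe_set_eq]
      exact hm.symm
    have h10 : g = 1 := by
      apply FaithfulSMul.eq_of_smul_eq_smul (α := Ω)
      intro b
      have : b ∈ fixedBy Ω g := by rw [h9]; trivial
      rw [one_smul]
      exact this
    rw [h10, orderOf_one] at hg
    exact hp.one_lt.ne hg
  have h0 : m ≠ 0 := by
    rintro rfl
    rw [mul_zero] at hm
    exact Nat.card_pos.ne' hm
  have h11 : p + 1 ≤ m := by
    have h12 : p ∣ m - 1 := (Nat.modEq_iff_dvd' (by omega)).1 h6.symm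
    have := Nat.le_of_dvd (by omega) h12
    omega
  rw [hm, mul_comm]
  exact Nat.mul_le_mul_left _ h11

/-- An element of prime order `p ≥ 5` has at most `n / 3` cycles. -/
theorem Reg.card_orbits {g : G} {p : ℕ} (hp : p.Prime) (h5 : 5 ≤ p) (hg : orderOf g = p)
    (hn : ¬ p ∣ Nat.card Ω) :
    3 * Nat.card (orbitRel.Quotient (Subgroup.zpowers g) Ω) ≤ Nat.card Ω := by
  classical
  have := Fintype.ofFinite Ω
  have := Fintype.ofFinite G
  have h1 := sum_card_fixedBy_eq_card_orbits_mul_card_group (Subgroup.zpowers g) Ω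
  set k := Nat.card (orbitRel.Quotient (Subgroup.zpowers g) Ω) with hk
  have hkc : Fintype.card (orbitRel.Quotient (Subgroup.zpowers g) Ω) = k := by
    rw [hk, Nat.card_eq_fintype_card]
  have hpc : Fintype.card (Subgroup.zpowers g) = p := by
    rw [← Nat.card_eq_fintype_card, Nat.card_zpowers, hg]
  rw [hpc] at h1
  set n := Nat.card Ω with hn'
  have h2 : ∀ x : Subgroup.zpowers g, x ≠ 1 →
      (p + 1) * Fintype.card (fixedBy Ω x) ≤ n := by
    intro x hx
    have h3 : orderOf (x : G) = p := by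
      have h4 : orderOf (x : G) ∣ p := by
        rw [Subgroup.orderOf_coe, ← hpc, ← Nat.card_eq_fintype_card]
        exact orderOf_dvd_natCard x
      rcases (Nat.dvd_prime hp).1 h4 with h5 | h5
      · exfalso
        apply hx
        rw [orderOf_eq_one_iff] at h5
        exact Subtype.ext h5
      · exact h5
    have h4 := R.card_fixed hp h3 hn
    rw [← Nat.card_eq_fintype_card]
    exact h4
  have h3 : (p + 1) * ∑ x : Subgroup.zpowers g, Fintype.card (fixedBy Ω x) ≤
      (p + 1) * n + (p - 1) * n := by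
    rw [Finset.mul_sum, ← Finset.add_sum_erase _ _ (Finset.mem_univ (1 : Subgroup.zpowers g))]
    apply Nat.add_le_add
    · apply Nat.mul_le_mul_left
      rw [hn', Nat.card_eq_fintype_card]
      exact set_fintype_card_le_univ _
    · refine (Finset.sum_le_card_nsmul _ _ n fun x hx => ?_).trans ?_
      · exact h2 x (Finset.ne_of_mem_erase hx)
      · rw [Finset.card_erase_of_mem (Finset.mem_univ _), Finset.card_univ, hpc, smul_eq_mul]
  have h4 : (p + 1) * (k * p) ≤ 2 * p * n := by
    have h5 : (∑ x : Subgroup.zpowers g, Fintype.card (fixedBy Ω x)) = k * p := by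
      rw [h1, hkc]
    rw [h5] at h3
    refine h3.trans (le_of_eq ?_)
    obtain ⟨p', rfl⟩ : ∃ p', p = p' + 1 := ⟨p - 1, by omega⟩
    simp only [Nat.add_sub_cancel]
    ring
  have h5 : (p + 1) * k ≤ 2 * n := by
    have h6 : ((p + 1) * k) * p ≤ (2 * n) * p := by
      calc ((p + 1) * k) * p = (p + 1) * (k * p) := by ring
        _ ≤ 2 * p * n := h4
        _ = _ := by ring
    exact Nat.le_of_mul_le_mul_right h6 (by omega)
  have h6 : 6 * k ≤ (p + 1) * k := Nat.mul_le_mul_right _ (by omega)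
  omega

end

/-- The number of subsets stabilised by `g`. -/
theorem card_stab_le {G Ω : Type*} [Group G] [MulAction G Ω] [Finite Ω] (g : G) :
    Nat.card {Γ : Set Ω // g • Γ = Γ} ≤
      2 ^ Nat.card (orbitRel.Quotient (Subgroup.zpowers g) Ω) := by
  classical
  have h1 : Nat.card (Set (orbitRel.Quotient (Subgroup.zpowers g) Ω)) =
      2 ^ Nat.card (orbitRel.Quotient (Subgroup.zpowers g) Ω) := by
    have := Fintype.ofFinite (orbitRel.Quotient (Subgroup.zpowers g) Ω)
    rw [Nat.card_eq_fintype_card, Nat.card_eq_fintype_card, Fintype.card_set]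
  rw [← h1]
  refine Nat.card_le_card_of_injective
    (fun Γ : {Γ : Set Ω // g • Γ = Γ} => (Quotient.mk'' '' Γ.1 : Set
      (orbitRel.Quotient (Subgroup.zpowers g) Ω))) ?_
  have key : ∀ Γ : Set Ω, g • Γ = Γ → ∀ a : Ω,
      (Quotient.mk'' a : orbitRel.Quotient (Subgroup.zpowers g) Ω) ∈
        (Quotient.mk'' '' Γ : Set (orbitRel.Quotient (Subgroup.zpowers g) Ω)) → a ∈ Γ := by
    rintro Γ hΓ a ⟨b, hb, hab⟩
    have h2 : (orbitRel (Subgroup.zpowers g) Ω) b a := Quotient.exact' hab
    rw [orbitRel_apply] at h2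
    obtain ⟨⟨x, hx⟩, hxa⟩ := h2
    have h3 : g ∈ stabilizer G Γ := hΓ
    have h4 : x ∈ stabilizer G Γ := by
      obtain ⟨k, rfl⟩ := hx
      exact (stabilizer G Γ).zpow_mem h3 k
    have h5 : x • a = b := hxa
    have h6 : x⁻¹ • Γ = Γ := (stabilizer G Γ).inv_mem h4
    rw [← h6, Set.mem_inv_smul_set_iff, h5]
    exact hb
  intro Γ Γ' h
  apply Subtype.ext
  ext a
  have h' : (Quotient.mk'' '' Γ.1 : Set (orbitRel.Quotient (Subgroup.zpowers g) Ω)) =
    Quotient.mk'' '' Γ'.1 := h
  constructor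
  · intro ha
    exact key Γ'.1 Γ'.2 a (h' ▸ Set.mem_image_of_mem _ ha)
  · intro ha
    exact key Γ.1 Γ.2 a (h' ▸ Set.mem_image_of_mem _ ha)

theorem num_small {n : ℕ} (h1 : 64 ≤ n) (h2 : n < 128) : n ^ 21 < 4 ^ n := by
  interval_cases n <;> norm_num

theorem num_log {L : ℕ} (hL : 7 ≤ L) : 3 * (L + 1) ^ 2 ≤ 2 * 2 ^ L := by
  induction L, hL using Nat.le_induction with
  | base => norm_num
  | succ L hL ih =>
    rw [pow_succ 2 L]
    nlinarith

theorem num_big {n k : ℕ} (hn : 64 ≤ n) (hk : 2 ^ k ≤ n) : n ^ (k + 1) * 2 ^ (n / 3) < 2 ^ n := by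
  have h1 : n ^ (3 * (k + 1)) < 4 ^ n := by
    by_cases h : n < 128
    · have h2 : k ≤ 6 := by
        by_contra h3
        have : 2 ^ 7 ≤ 2 ^ k := Nat.pow_le_pow_right (by norm_num) (by omega)
        omega
      refine (Nat.pow_le_pow_right (by omega) (?_ : 3 * (k + 1) ≤ 21)).trans_lt (num_small hn h)
      omega
    · set L := Nat.log 2 n with hL
      have hL1 : 2 ^ L ≤ n := Nat.pow_log_le_self 2 (by omega)
      have hL2 : n < 2 ^ (L + 1) := Nat.lt_pow_succ_log_self (by norm_num) n
      have h7 : 7 ≤ L := by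
        by_contra h3
        have : 2 ^ (L + 1) ≤ 2 ^ 7 := Nat.pow_le_pow_right (by norm_num) (by omega)
        omega
      have hkL : k ≤ L := by
        rw [hL]
        exact Nat.le_log_of_pow_le (by norm_num) hk
      calc n ^ (3 * (k + 1)) ≤ n ^ (3 * (L + 1)) := Nat.pow_le_pow_right (by omega) (by omega)
        _ < (2 ^ (L + 1)) ^ (3 * (L + 1)) := Nat.pow_lt_pow_left hL2 (by omega)
        _ = 2 ^ (3 * (L + 1) ^ 2) := by rw [← pow_mul]; congr 1; ring
        _ ≤ 2 ^ (2 * 2 ^ L) := Nat.pow_le_pow_right (by norm_num) (num_log h7)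
        _ ≤ 2 ^ (2 * n) := Nat.pow_le_pow_right (by norm_num) (by omega)
        _ = 4 ^ n := by rw [pow_mul]; norm_num
  have h2 : (n ^ (k + 1) * 2 ^ (n / 3)) ^ 3 < (2 ^ n) ^ 3 := by
    calc (n ^ (k + 1) * 2 ^ (n / 3)) ^ 3 = n ^ (3 * (k + 1)) * 2 ^ (3 * (n / 3)) := by
          rw [mul_pow, ← pow_mul, ← pow_mul, mul_comm (k + 1) 3, mul_comm (n / 3) 3]
      _ < 4 ^ n * 2 ^ (3 * (n / 3)) := Nat.mul_lt_mul_of_pos_right h1 (by positivity)
      _ ≤ 4 ^ n * 2 ^ n := Nat.mul_le_mul_left _ (Nat.pow_le_pow_right (by norm_num) (by omega))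
      _ = (2 ^ n) ^ 3 := by
          rw [show (4 : ℕ) = 2 ^ 2 by norm_num, ← pow_mul, ← pow_mul, ← pow_add]
          congr 1; ring
  exact lt_of_pow_lt_pow_left₀ 3 (by positivity) h2

/-- An element of order `p` preserving a set of fewer than `p` points fixes them. -/
theorem fix_of_small {G Ω : Type*} [Group G] [MulAction G Ω] {p : ℕ} (hp : p.Prime) {g : G}
    (hg : g ^ p = 1) (Δ : Finset Ω) (hΔ : ∀ T ∈ Δ, g • T ∈ Δ) (hc : Δ.card < p) {T : Ω}
    (hT : T ∈ Δ) : g • T = T := by
  have h1 : ∀ i : ℕ, g ^ i • T ∈ Δ := by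
    intro i
    induction i with
    | zero => rw [pow_zero, one_smul]; exact hT
    | succ i ih => rw [pow_succ', mul_smul]; exact hΔ _ ih
  obtain ⟨i, hi, j, hj, hij, he⟩ := Finset.exists_ne_map_eq_of_card_lt_of_maps_to
    (s := Finset.range p) (t := Δ) (by rwa [Finset.card_range]) (f := fun i => g ^ i • T)
    (fun i _ => h1 i)
  rw [Finset.mem_range] at hi hj
  wlog hlt : i < j generalizing i j
  · exact this j hj i hi hij.symm he.symm (by omega)
  have h2 : g ^ (j - i) • T = T := by
    have he' : g ^ i • T = g ^ j • T := he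
    have h3 : g ^ j = g ^ i * g ^ (j - i) := by rw [← pow_add]; congr 1; omega
    rw [h3, mul_smul] at he'
    exact (smul_left_cancel _ he').symm
  have h3 : (j - i).Coprime p := by
    rw [Nat.coprime_comm, Nat.Prime.coprime_iff_not_dvd hp]
    intro h
    have := Nat.le_of_dvd (by omega) h
    omega
  have h4 : g ^ (j - i) ∈ stabilizer G T := h2
  have h5 : g ^ ((j - i : ℕ) : ℤ) ∈ stabilizer G T := by rw [zpow_natCast]; exact h4
  have h6 := Nat.gcd_eq_gcd_ab (j - i) p
  rw [h3.gcd_eq_one] at h6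
  have h7 : g = (g ^ ((j - i : ℕ) : ℤ)) ^ (Nat.gcdA (j - i) p) := by
    calc g = g ^ (1 : ℤ) := (zpow_one g).symm
      _ = g ^ (((j - i : ℕ) : ℤ) * Nat.gcdA (j - i) p + (p : ℤ) * Nat.gcdB (j - i) p) := by
          rw [← h6]; rfl
      _ = _ := by
          rw [zpow_add, zpow_mul, zpow_mul, zpow_natCast g p, hg, one_zpow, mul_one]
  have h8 : g ∈ stabilizer G T := by
    rw [h7]
    exact (stabilizer G T).zpow_mem h5 _
  exact h8

theorem setLemma : SetLemma.{u} := by
  intro G Ω _ _ _ _ _ _ _ hprim T hT h5T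
  classical
  have : IsPreprimitive G Ω := hprim
  obtain ⟨N, hN1, hN2, hN3⟩ := exists_normal (G := G) (Ω := Ω)
  have R : Reg (Ω := Ω) N := ⟨hN1, hN2, hN3⟩
  -- the case of a small base
  have small : ∀ (B : Finset Ω), B.Nonempty → (∀ g : G, (∀ b ∈ B, g • b = b) → g = 1) →
      (∀ p ∈ T, B.card < p) → ∃ Γ : Set Ω, Γ.Nonempty ∧ ∀ g : G, ∀ p ∈ T, orderOf g = p →
        g • Γ ≠ Γ := by
    intro B hB hb hc
    refine ⟨(B : Set Ω), hB, fun g p hp hg h => ?_⟩
    have hpp := (hT p hp).1
    have h1 : g = 1 := hb g fun b hb' =>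
      fix_of_small hpp (by rw [← hg]; exact pow_orderOf_eq_one g) B (fun x hx => by
        have : g • x ∈ g • (B : Set Ω) := Set.smul_mem_smul_set hx
        rw [h] at this
        exact this) (hc p hp) hb'
    rw [h1, orderOf_one] at hg
    exact hpp.one_lt.ne hg
  by_cases hn : 64 ≤ Nat.card Ω
  · by_contra hcon
    push Not at hcon
    have hall : ∀ Γ : Set Ω, ∃ g : G, orderOf g ∈ T ∧ g • Γ = Γ := by
      intro Γ
      rcases Γ.eq_empty_or_nonempty with rfl | hΓ
      · obtain ⟨g, p, hp, hg, -⟩ := hcon Set.univ Set.univ_nonempty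
        exact ⟨g, by rw [hg]; exact hp, Set.smul_set_empty⟩
      · obtain ⟨g, p, hp, hg, h⟩ := hcon Γ hΓ
        exact ⟨g, by rw [hg]; exact hp, h⟩
    choose f hf1 hf2 using hall
    obtain ⟨B, k, -, hBk, hk, hB⟩ := R.exists_base 2 (fun p hp _ => hp.two_le)
    have hG : Nat.card G ≤ Nat.card Ω ^ (k + 1) := by
      have h1 : Nat.card G ≤ Nat.card (B → Ω) := by
        refine Nat.card_le_card_of_injective (fun g : G => fun b : B => g • (b : Ω)) ?_
        intro g h hgh
        have h2 : h⁻¹ * g = 1 := hB _ fun b hb => by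
          have := congrFun hgh ⟨b, hb⟩
          rw [mul_smul, inv_smul_eq_iff]
          exact this
        exact (inv_mul_eq_one.1 h2).symm
      rw [Nat.card_fun, Nat.card_eq_fintype_card (α := B), Fintype.card_coe] at h1
      exact h1.trans (Nat.pow_le_pow_right Nat.card_pos hBk)
    have hcount : 2 ^ Nat.card Ω ≤ Nat.card G * 2 ^ (Nat.card Ω / 3) := by
      have := Fintype.ofFinite Ω
      have := Fintype.ofFinite G
      have h1 : Nat.card (Set Ω) = 2 ^ Nat.card Ω := by
        rw [Nat.card_eq_fintype_card, Nat.card_eq_fintype_card, Fintype.card_set]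
      rw [← h1]
      have h2 : Nat.card (Set Ω) ≤
          Nat.card (Σ g : {g : G // orderOf g ∈ T}, {Γ : Set Ω // (g : G) • Γ = Γ}) := by
        refine Nat.card_le_card_of_injective
          (fun Γ : Set Ω => (⟨⟨f Γ, hf1 Γ⟩, ⟨Γ, hf2 Γ⟩⟩ :
            Σ g : {g : G // orderOf g ∈ T}, {Γ : Set Ω // (g : G) • Γ = Γ})) ?_
        intro Γ Γ' h
        have h3 := congrArg (fun x : (Σ g : {g : G // orderOf g ∈ T},
          {Γ : Set Ω // (g : G) • Γ = Γ}) => (x.2 : Set Ω)) h
        exact h3
      refine h2.trans ?_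
      rw [Nat.card_sigma]
      refine (Finset.sum_le_card_nsmul _ _ (2 ^ (Nat.card Ω / 3)) fun g _ => ?_).trans ?_
      · refine (card_stab_le (g : G)).trans (Nat.pow_le_pow_right (by norm_num) ?_)
        have hg := hT _ g.2
        have := R.card_orbits hg.1 hg.2.1 rfl hg.2.2
        omega
      · rw [smul_eq_mul]
        refine Nat.mul_le_mul_right _ ?_
        rw [Finset.card_univ, Nat.card_eq_fintype_card]
        exact Fintype.card_subtype_le _
    have := num_big hn hk
    have h9 := Nat.mul_le_mul_right (2 ^ (Nat.card Ω / 3)) hG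
    omega
  · by_cases h5 : 5 ∈ T
    · have hn7 : ∀ p : ℕ, p.Prime → p ∣ Nat.card Ω → 7 ≤ p := by
        intro p hp hpn
        by_contra h7
        have h1 := h5T h5
        have h2 := (hT 5 h5).2.2
        have h3 := hp.two_le
        interval_cases p
        · exact h1.1 hpn
        · exact h1.2 hpn
        · norm_num at hp
        · exact h2 hpn
        · norm_num at hp
      obtain ⟨B, k, hBne, hBk, hk, hB⟩ := R.exists_base 7 hn7
      refine small B hBne hB fun p hp => ?_
      have h1 := (hT p hp).2.1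
      have h2 : k ≤ 2 := by
        by_contra h3
        have : 7 ^ 3 ≤ 7 ^ k := Nat.pow_le_pow_right (by norm_num) (by omega)
        omega
      omega
    · obtain ⟨B, k, hBne, hBk, hk, hB⟩ := R.exists_base 2 (fun p hp _ => hp.two_le)
      refine small B hBne hB fun p hp => ?_
      have h1 := (hT p hp).2.1
      have h2 : k ≤ 5 := by
        by_contra h3
        have : 2 ^ 6 ≤ 2 ^ k := Nat.pow_le_pow_right (by norm_num) (by omega)
        omega
      have h3 : p ≠ 5 := fun h => h5 (h ▸ hp)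
      have h4 : p ≠ 6 := fun h => by
        have := (hT p hp).1
        rw [h] at this
        norm_num at this
      omega

end Cfsg.Agent.H308.ClsSet
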