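import Mathlib
import Cfsg.Agent.H308.A5Count
import Cfsg.Agent.S1249
import Cfsg.Prelude.Def_TwoFusion

/-!
# Fusion of the involutions
-/

set_option autoImplicit false
set_option linter.style.haveILetI false

namespace Cfsg.Agent.H308.A5Fusion

open Subgroup Cfsg Cfsg.Agent.H308.GoldHyp Cfsg.Agent.H308 Cfsg.Agent.H308.A5Count

variable {G : Type*} [Group G]
variable {A O : Subgroup G} {ψ : normalizer (A : Set G) →* alternatingGroup (Fin 5)}

/-- the orbit of `a` under `N_G(A)` -/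
def orb (A : Subgroup G) (a : G) : Set G := {y | ∃ n ∈ normalizer (A : Set G), n * a * n⁻¹ = y}

theorem mem_orb_self (a : G) : a ∈ orb A a := ⟨1, one_mem _, by simp⟩

theorem orb_conj {a y n : G} (hy : y ∈ orb A a) (hn : n ∈ normalizer (A : Set G)) :
    n * y * n⁻¹ ∈ orb A a := by
  obtain ⟨m, hm, rfl⟩ := hy
  exact ⟨n * m, mul_mem hn hm, by group⟩

theorem orb_disjoint {a b y : G} (h1 : y ∈ orb A a) (h2 : y ∈ orb A b) : b ∈ orb A a := by
  obtain ⟨m, hm, rfl⟩ := h1
  obtain ⟨n, hn, hnm⟩ := h2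
  refine ⟨n⁻¹ * m, mul_mem (inv_mem hn) hm, ?_⟩
  calc n⁻¹ * m * a * (n⁻¹ * m)⁻¹ = n⁻¹ * (m * a * m⁻¹) * n := by group
    _ = b := by rw [← hnm]; group

theorem orb_sub (h : Data A O ψ) {a : G} (ha : a ∈ A) (ha1 : a ≠ 1) :
    ∀ y ∈ orb A a, y ∈ A ∧ y ≠ 1 := by
  rintro y ⟨n, hn, rfl⟩
  refine ⟨h.conj_mem hn ha, fun h1 => ha1 ?_⟩
  rwa [mul_inv_eq_one, mul_eq_left] at h1

theorem exists_five (h : Data A O ψ) : ∃ x : normalizer (A : Set G), ψ x ^ 5 = 1 ∧ ψ x ≠ 1 := by
  have h5 : ∃ y : alternatingGroup (Fin 5), orderOf y = 5 := by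
    haveI : Fact (Nat.Prime 5) := ⟨by norm_num⟩
    apply exists_prime_orderOf_dvd_card'
    rw [AltFive.card_A5]; norm_num
  obtain ⟨y, hy⟩ := h5
  obtain ⟨x, rfl⟩ := h.surj y
  refine ⟨x, ?_, ?_⟩
  · exact orderOf_dvd_iff_pow_eq_one.1 (by rw [hy])
  · intro h1
    rw [h1, orderOf_one] at hy
    norm_num at hy

theorem five_dvd_orb [Finite G] (h : Data A O ψ) {a : G} (ha : a ∈ A) (ha1 : a ≠ 1) :
    (orb A a).ncard % 5 = 0 := by
  obtain ⟨x, hx5, hx⟩ := exists_five h
  have h5 : ∀ b ∈ orb A a, (x : G) ^ 5 * b = b * (x : G) ^ 5 := by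
    intro b hb
    have := h.cen' (n := x ^ 5) (by rw [map_pow, hx5]) (orb_sub h ha ha1 b hb).1
    simpa using this
  have h1 := modEq_five (x : G) (orb A a) (fun b hb => orb_conj hb x.2) h5
  have hC : {b ∈ orb A a | (x : G) * b = b * x} = ∅ := by
    ext b
    simp only [Set.mem_ofPred_eq, Set.mem_empty_iff_false, iff_false]
    rintro ⟨hb, hb'⟩
    exact (orb_sub h ha ha1 b hb).2 (h.fpf hx5 hx (orb_sub h ha ha1 b hb).1 hb')
  rw [hC, Set.ncard_empty] at h1
  exact h1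

/-- orbits of odd length contain points fixed by a 2-subgroup of the normalizer -/
theorem exists_fixed [Finite G] {S : Subgroup G} (hS : IsPGroup 2 S)
    (hSN : S ≤ normalizer (A : Set G)) {a : G} (hodd : (orb A a).ncard % 2 = 1) :
    ∃ y ∈ orb A a, ∀ s ∈ S, s * y = y * s := by
  haveI : Fact (Nat.Prime 2) := ⟨Nat.prime_two⟩
  letI : MulAction S (orb A a) :=
    { smul := fun s y => ⟨s * y * (s : G)⁻¹, orb_conj y.2 (hSN s.2)⟩
      one_smul := fun y => Subtype.ext (by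
        change ((1 : S) : G) * y * ((1 : S) : G)⁻¹ = y
        simp)
      mul_smul := fun s t y => Subtype.ext (by
        change ((s * t : S) : G) * y * ((s * t : S) : G)⁻¹ = s * (t * y * (t : G)⁻¹) * (s : G)⁻¹
        rw [Subgroup.coe_mul]; group) }
  obtain ⟨y, hy⟩ := hS.nonempty_fixed_point_of_prime_not_dvd_card (orb A a) (by
    rw [Nat.card_coe_set_eq]; omega)
  refine ⟨y, y.2, fun s hs => ?_⟩
  have h1 := hy ⟨s, hs⟩
  have h2 : s * (y : G) * s⁻¹ = y := congrArg Subtype.val h1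
  rwa [mul_inv_eq_iff_eq_mul] at h2

/-- `N_G(A)` has at most two orbits on the involutions of `A` -/
theorem two_orbits [Finite G] (h : Data A O ψ) {S : Subgroup G} (hS : IsPGroup 2 S)
    (hSN : S ≤ normalizer (A : Set G))
    (hZ : ∀ Z : Subgroup G, Z ≤ A → (∀ z ∈ Z, ∀ s ∈ S, s * z = z * s) → Nat.card Z < 4) :
    ∃ a₁ ∈ A, ∃ a₂ ∈ A, a₁ ≠ 1 ∧ a₂ ≠ 1 ∧ ∀ a ∈ A, a ≠ 1 → a ∈ orb A a₁ ∨ a ∈ orb A a₂ := by
  classical
  obtain ⟨a₁, h₁, h₁'⟩ : ∃ a ∈ A, a ≠ 1 := by
    by_contra hcon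
    push Not at hcon
    have h1 : A = ⊥ := by
      rw [eq_bot_iff]; intro a ha; rw [mem_bot]; exact hcon a ha
    have h2 := h.card
    rw [h1, card_bot] at h2
    norm_num at h2
  by_contra hcon
  push Not at hcon
  obtain ⟨a₂, h₂, h₂', h12, -⟩ := hcon a₁ h₁ a₁ h₁ h₁' h₁'
  obtain ⟨a₃, h₃, h₃', h13, h23⟩ := hcon a₁ h₁ a₂ h₂ h₁' h₂'
  have hd12 : Disjoint (orb A a₁) (orb A a₂) :=
    Set.disjoint_left.2 fun y hy hy' => h12 (orb_disjoint hy hy')
  have hd13 : Disjoint (orb A a₁) (orb A a₃) :=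
    Set.disjoint_left.2 fun y hy hy' => h13 (orb_disjoint hy hy')
  have hd23 : Disjoint (orb A a₂) (orb A a₃) :=
    Set.disjoint_left.2 fun y hy hy' => h23 (orb_disjoint hy hy')
  have hpos : ∀ a, 0 < (orb A a).ncard := fun a =>
    (Set.ncard_pos (Set.toFinite _)).2 ⟨a, mem_orb_self a⟩
  have hsum : (orb A a₁).ncard + (orb A a₂).ncard + (orb A a₃).ncard ≤ 15 := by
    have h1 : (orb A a₁ ∪ orb A a₂ ∪ orb A a₃).ncard =
        (orb A a₁).ncard + (orb A a₂).ncard + (orb A a₃).ncard := by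
      rw [Set.ncard_union_eq (Set.disjoint_union_left.2 ⟨hd13, hd23⟩), Set.ncard_union_eq hd12]
    rw [← h1]
    have h2 : orb A a₁ ∪ orb A a₂ ∪ orb A a₃ ⊆ (A : Set G) \ {1} := by
      rintro y ((hy | hy) | hy)
      · exact orb_sub h h₁ h₁' y hy
      · exact orb_sub h h₂ h₂' y hy
      · exact orb_sub h h₃ h₃' y hy
    have h3 := Set.ncard_le_ncard h2
    have h4 : ((A : Set G) \ {1}).ncard = 15 := by
      rw [Set.ncard_sdiff_singleton_of_mem A.one_mem, ← Nat.card_coe_set_eq]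
      have := h.card
      change Nat.card A - 1 = 15
      omega
    omega
  have e1 := five_dvd_orb h h₁ h₁'
  have e2 := five_dvd_orb h h₂ h₂'
  have e3 := five_dvd_orb h h₃ h₃'
  have p1 := hpos a₁
  have p2 := hpos a₂
  have p3 := hpos a₃
  obtain ⟨z₁, hz1, hz1'⟩ := exists_fixed (a := a₁) hS hSN (by omega)
  obtain ⟨z₂, hz2, hz2'⟩ := exists_fixed (a := a₂) hS hSN (by omega)
  obtain ⟨z₃, hz3, hz3'⟩ := exists_fixed (a := a₃) hS hSN (by omega)
  have q1 := orb_sub h h₁ h₁' _ hz1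
  have q2 := orb_sub h h₂ h₂' _ hz2
  have q3 := orb_sub h h₃ h₃' _ hz3
  let Z : Subgroup G := A ⊓ centralizer (S : Set G)
  have hZc := hZ Z inf_le_left (fun z hz s hs => mem_centralizer_iff.1 hz.2 s hs)
  have hsub : ({1, z₁, z₂, z₃} : Finset G) ⊆ (Set.toFinite (Z : Set G)).toFinset := by
    intro y hy
    rw [Set.Finite.mem_toFinset]
    simp only [Finset.mem_insert, Finset.mem_singleton] at hy
    have hz : ∀ z, z ∈ A → (∀ s ∈ S, s * z = z * s) → z ∈ (Z : Set G) :=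
      fun z hz hz' => ⟨hz, mem_centralizer_iff.2 fun s hs => hz' s hs⟩
    rcases hy with rfl | rfl | rfl | rfl
    · exact Z.one_mem
    · exact hz _ q1.1 hz1'
    · exact hz _ q2.1 hz2'
    · exact hz _ q3.1 hz3'
  have hcard : ({1, z₁, z₂, z₃} : Finset G).card = 4 := by
    have n12 : z₁ ≠ z₂ := fun e => Set.disjoint_left.1 hd12 hz1 (e ▸ hz2)
    have n13 : z₁ ≠ z₃ := fun e => Set.disjoint_left.1 hd13 hz1 (e ▸ hz3)
    have n23 : z₂ ≠ z₃ := fun e => Set.disjoint_left.1 hd23 hz2 (e ▸ hz3)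
    rw [Finset.card_insert_of_notMem, Finset.card_insert_of_notMem, Finset.card_insert_of_notMem,
      Finset.card_singleton]
    · simpa using n23
    · simpa using ⟨n12, n13⟩
    · simp only [Finset.mem_insert, Finset.mem_singleton, not_or]
      exact ⟨q1.2.symm, q2.2.symm, q3.2.symm⟩
  have h4 := Finset.card_le_card hsub
  rw [hcard, ← Set.ncard_eq_toFinset_card (Z : Set G), ← Nat.card_coe_set_eq] at h4
  exact absurd hZc (not_lt.2 h4)

/-- three classes of involutions are not covered by two classes -/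
theorem not_two [Finite G]
    (h3 : Nat.card {c : ConjClasses G // ∃ x ∈ c.carrier, orderOf x = 2} = 3) (c₁ c₂ : G)
    (h : ∀ x : G, orderOf x = 2 → IsConj c₁ x ∨ IsConj c₂ x) : False := by
  classical
  have h1 : {c : ConjClasses G | ∃ x ∈ c.carrier, orderOf x = 2} ⊆
      {ConjClasses.mk c₁, ConjClasses.mk c₂} := by
    rintro c ⟨x, hx, hx2⟩
    rw [ConjClasses.mem_carrier_iff_mk_eq] at hx
    rw [Set.mem_insert_iff, Set.mem_singleton_iff, ← hx]
    rcases h x hx2 with h1 | h1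
    · left; exact (ConjClasses.mk_eq_mk_iff_isConj.2 h1).symm
    · right; exact (ConjClasses.mk_eq_mk_iff_isConj.2 h1).symm
  have h2 := Set.ncard_le_ncard h1
  have h4 : ({ConjClasses.mk c₁, ConjClasses.mk c₂} : Set (ConjClasses G)).ncard ≤ 2 :=
    (Set.ncard_insert_le _ _).trans (by rw [Set.ncard_singleton])
  have h5 : {c : ConjClasses G | ∃ x ∈ c.carrier, orderOf x = 2}.ncard = 3 := by
    rw [← Nat.card_coe_set_eq]; exact h3
  omega

theorem orderOf_conj_eq (g x : G) : orderOf (g * x * g⁻¹) = orderOf x :=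
  (orderOf_injective (MulAut.conj g).toMonoidHom (MulAut.conj g).injective x)

theorem isConj_of_orb {a y : G} (h : y ∈ orb A a) : IsConj a y := by
  obtain ⟨n, -, hn⟩ := h
  exact isConj_iff.2 ⟨n, hn⟩

/-- **The fusion statement.** -/
theorem hyp_of_data [Finite G] (h : Data A O ψ) (S : Sylow 2 G)
    (hSN : (S : Subgroup G) ≤ normalizer (A : Set G)) (hAS : A ≤ S)
    (hZ : ∀ Z : Subgroup G, Z ≤ A → (∀ z ∈ Z, ∀ s ∈ (S : Subgroup G), s * z = z * s) →
      Nat.card Z < 4)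
    (h3 : Nat.card {c : ConjClasses G // ∃ x ∈ c.carrier, orderOf x = 2} = 3) : Hyp A := by
  classical
  haveI : Fact (Nat.Prime 2) := ⟨Nat.prime_two⟩
  obtain ⟨a₁, ha₁, a₂, ha₂, h₁, h₂, horb⟩ := two_orbits h S.isPGroup' hSN hZ
  have hcent : ∀ t : G, (∃ k : ℕ, t ^ 2 ^ k = 1) → (∀ a ∈ A, t * a = a * t) → t ∈ A := by
    intro t ht hc
    have htN : t ∈ normalizer (A : Set G) := by
      rw [mem_normalizer_iff_map_conj_eq]
      apply Subgroup.eq_of_le_of_card_ge
      · rintro _ ⟨a, ha, rfl⟩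
        change t * a * t⁻¹ ∈ A
        rw [hc a ha, mul_inv_cancel_right]
        exact ha
      · rw [card_map_of_injective (K := A) (MulAut.conj t).injective]
    exact h.mem_of_pow (n := ⟨t, htN⟩) (h.cen ⟨t, htN⟩ hc) ht
  have hψ : ∀ t (ht : t ∈ (S : Subgroup G)), t ∉ A → ψ ⟨t, hSN ht⟩ ≠ 1 := by
    intro t ht htA h1
    apply htA
    obtain ⟨k, hk⟩ := S.isPGroup' ⟨t, ht⟩
    exact h.mem_of_pow h1 ⟨k, by simpa using congrArg (fun w : (S : Subgroup G) => (w : G)) hk⟩
  -- involutions of `S` outside `A` are conjugate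
  have hout : ∀ t u, t ∈ (S : Subgroup G) → t ∉ A → orderOf t = 2 →
      u ∈ (S : Subgroup G) → u ∉ A → orderOf u = 2 → IsConj t u := by
    intro t u ht htA ht2 hu huA hu2
    have e1 : t * t = 1 := by rw [← pow_two, ← ht2, pow_orderOf_eq_one]
    have e2 : u * u = 1 := by rw [← pow_two, ← hu2, pow_orderOf_eq_one]
    obtain ⟨n, hn⟩ := h.conj_invol (t := ⟨t, hSN ht⟩) (u := ⟨u, hSN hu⟩) (Subtype.ext e1)
      (Subtype.ext e2) (hψ t ht htA) (hψ u hu huA)
    exact isConj_iff.2 ⟨n, congrArg Subtype.val hn⟩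
  -- every involution is conjugate to an element of `S`
  have hsyl : ∀ x : G, orderOf x = 2 → ∃ y ∈ (S : Subgroup G), orderOf y = 2 ∧ IsConj y x := by
    intro x hx
    have h4 : IsPGroup 2 (zpowers x) :=
      GoldTransfer.isPGroup_zpowers ⟨1, by rw [pow_one, ← hx, pow_orderOf_eq_one]⟩
    obtain ⟨T, hT⟩ := h4.exists_le_sylow
    obtain ⟨g, hg⟩ := MulAction.exists_smul_eq G T S
    refine ⟨g * x * g⁻¹, ?_, ?_, ?_⟩
    · rw [← hg]
      exact ⟨x, hT (mem_zpowers x), rfl⟩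
    · rw [orderOf_conj_eq, hx]
    · exact (isConj_iff.2 ⟨g, rfl⟩).symm
  have horder : ∀ a ∈ A, a ≠ 1 → orderOf a = 2 := fun a ha ha1 =>
    orderOf_eq_prime (by rw [pow_two]; exact h.exp a ha) ha1
  have hne1 : ∀ x : G, orderOf x = 2 → x ≠ 1 := by
    rintro x hx rfl
    rw [orderOf_one] at hx
    norm_num at hx
  -- strong closure in `S`
  have hscS : Cfsg.IsStronglyClosed A (S : Subgroup G) := by
    refine ⟨hAS, ?_⟩
    intro x hx g hg
    by_cases hx1 : x = 1
    · rw [hx1]; simp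
    by_contra hcon
    refine not_two h3 a₁ a₂ ?_
    have hx2 := horder x hx hx1
    have hy2 : orderOf (g * x * g⁻¹) = 2 := by rw [orderOf_conj_eq, hx2]
    have hxc : IsConj x (g * x * g⁻¹) := isConj_iff.2 ⟨g, rfl⟩
    intro y hy
    obtain ⟨z, hz, hz2, hzy⟩ := hsyl y hy
    by_cases hzA : z ∈ A
    · rcases horb z hzA (hne1 z hz2) with h4 | h4
      · left; exact (isConj_of_orb h4).trans hzy
      · right; exact (isConj_of_orb h4).trans hzy
    · have h4 := hout _ z hg hcon hy2 hz hzA hz2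
      rcases horb x hx hx1 with h5 | h5
      · left; exact (((isConj_of_orb h5).trans hxc).trans h4).trans hzy
      · right; exact (((isConj_of_orb h5).trans hxc).trans h4).trans hzy
  refine ⟨h.comm, h.exp, h.card, hcent, ?_, ?_, ?_, ?_, ?_⟩
  · -- sc
    intro Q hQ hAQ x hx g hg
    obtain ⟨T, hT⟩ := hQ.exists_le_sylow
    have h4 := Cfsg.Agent.S1249.result S T A (hAQ.trans hT) hscS
    exact h4.2 x hx g (hT hg)
  · -- irr
    intro B hB hinv
    obtain ⟨x, hx5, hx⟩ := exists_five h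
    exact h.irr hx5 hx hB (fun b hb => hinv _ x.2 b hb)
  · -- idx
    intro X hX hc hlt
    have hker : ψ.ker ≤ X.subgroupOf (normalizer (A : Set G)) := by
      intro n hn
      exact hc n n.2 fun a ha => h.cen' hn ha
    have h4 : ((X.subgroupOf (normalizer (A : Set G))).map ψ).index < 5 := by
      rw [index_map_eq _ h.surj hker]
      exact hlt
    have h5 := AltFive.eq_top_of_index h4
    have h6 := comap_map_eq_self hker
    rw [h5, comap_top] at h6
    exact subgroupOf_eq_top.1 h6.symm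
  · -- odd
    intro Y hY hinv htwo y hy a ha
    have hn : (Y.subgroupOf (normalizer (A : Set G))).Normal := by
      refine ⟨fun n hn g => ?_⟩
      exact hinv g g.2 n hn
    have hs : IsSimpleGroup (alternatingGroup (Fin 5)) := inferInstance
    rcases (hn.map ψ h.surj).eq_bot_or_eq_top with h4 | h4
    · have h5 : ψ ⟨y, hY hy⟩ ∈ (Y.subgroupOf (normalizer (A : Set G))).map ψ := ⟨_, hy, rfl⟩
      rw [h4, mem_bot] at h5
      exact h.cen' h5 ha
    · exfalso
      have h5 : ∃ s : alternatingGroup (Fin 5), orderOf s = 2 := by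
        apply exists_prime_orderOf_dvd_card'
        rw [AltFive.card_A5]; norm_num
      obtain ⟨s, hs2⟩ := h5
      have h6 : s ∈ (Y.subgroupOf (normalizer (A : Set G))).map ψ := by rw [h4]; exact mem_top s
      obtain ⟨z, hz, rfl⟩ := h6
      obtain ⟨k, m, hm, hkm⟩ := Nat.exists_eq_two_pow_mul_odd (orderOf_pos z).ne'
      have h7 : (z ^ m) ^ 2 ^ k = 1 := by
        rw [← pow_mul, mul_comm, ← hkm, pow_orderOf_eq_one]
      have h8 : ((z ^ m : normalizer (A : Set G)) : G) ∈ A := by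
        refine htwo _ ?_ ⟨k, congrArg Subtype.val h7⟩
        exact (Y.subgroupOf (normalizer (A : Set G))).pow_mem hz m
      have h9 : ψ (z ^ m) = 1 := (h.ker _).2 ⟨_, h8, 1, O.one_mem, by rw [mul_one]⟩
      rw [map_pow] at h9
      have h10 : orderOf (ψ z) ∣ m := orderOf_dvd_of_pow_eq_one h9
      rw [hs2] at h10
      exact (Nat.not_even_iff_odd.2 hm) (even_iff_two_dvd.2 h10)
  · -- two
    refine ⟨a₁, ha₁, a₂, ha₂, h₁, h₂, ?_⟩
    intro g hg
    have h12 : IsConj a₁ a₂ := isConj_iff.2 ⟨g, hg⟩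
    by_cases hex : ∃ u ∈ (S : Subgroup G), u ∉ A ∧ orderOf u = 2
    · obtain ⟨u, hu, huA, hu2⟩ := hex
      refine not_two h3 a₁ u ?_
      intro y hy
      obtain ⟨z, hz, hz2, hzy⟩ := hsyl y hy
      by_cases hzA : z ∈ A
      · rcases horb z hzA (hne1 z hz2) with h4 | h4
        · left; exact (isConj_of_orb h4).trans hzy
        · left; exact (h12.trans (isConj_of_orb h4)).trans hzy
      · right; exact (hout u z hu huA hu2 hz hzA hz2).trans hzy
    · push Not at hex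
      refine not_two h3 a₁ a₁ ?_
      intro y hy
      obtain ⟨z, hz, hz2, hzy⟩ := hsyl y hy
      have hzA : z ∈ A := by
        by_contra hzA
        exact hex z hz hzA hz2
      rcases horb z hzA (hne1 z hz2) with h4 | h4
      · left; exact (isConj_of_orb h4).trans hzy
      · left; exact (h12.trans (isConj_of_orb h4)).trans hzy

end Cfsg.Agent.H308.A5Fusion
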