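import Mathlib

/-!
# Central extensions by a group of order 2 are determined by their Sylow 2-subgroups

Two finite groups `X`, `X'` with central subgroups `{1,z}`, `{1,z'}` and the same quotient `B` are
isomorphic if their Sylow 2-subgroups are isomorphic over `B`.
-/

set_option autoImplicit false

namespace Cfsg.Agent.H308.CentExt

open Subgroup

section

variable {B X X' T : Type*} [Group B] [Group X] [Group X'] [Group T]

/-- the fibre product -/
def Fib (π : X →* B) (π' : X' →* B) : Subgroup (X × X') :=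
  (π.comp (MonoidHom.fst X X')).eqLocus (π'.comp (MonoidHom.snd X X'))

theorem mem_Fib {π : X →* B} {π' : X' →* B} {p : X × X'} : p ∈ Fib π π' ↔ π p.1 = π' p.2 := Iff.rfl

/-- the second projection of the fibre product -/
def snd (π : X →* B) (π' : X' →* B) : Fib π π' →* X' := (MonoidHom.snd X X').comp (Fib π π').subtype

/-- the first projection of the fibre product -/
def fst (π : X →* B) (π' : X' →* B) : Fib π π' →* X := (MonoidHom.fst X X').comp (Fib π π').subtype

theorem snd_surjective {π : X →* B} {π' : X' →* B} (hπ : Function.Surjective π) :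
    Function.Surjective (snd π π') := by
  intro x'
  obtain ⟨x, hx⟩ := hπ (π' x')
  exact ⟨⟨(x, x'), hx⟩, rfl⟩

/-- **uniqueness of central extensions by a group of order 2 with given Sylow 2-subgroup** -/
theorem iso_of_sylow [Finite X] [Finite X'] (π : X →* B) (π' : X' →* B)
    (hπ : Function.Surjective π) (hπ' : Function.Surjective π')
    {z : X} {z' : X'} (hz1 : z ≠ 1) (hzz : z * z = 1)
    (hzc : ∀ x, x * z = z * x)
    (hker : ∀ x, π x = 1 ↔ x = 1 ∨ x = z) (hker' : ∀ x, π' x = 1 ↔ x = 1 ∨ x = z')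
    (f : T →* X) (f' : T →* X') (hf' : Function.Injective f') (hff : ∀ t, π (f t) = π' (f' t))
    (hodd : Odd f'.range.index)
    (hcomm : ∃ a b : T, f (a * b * a⁻¹ * b⁻¹) = z ∧ f' (a * b * a⁻¹ * b⁻¹) = z') :
    Nonempty (X ≃* X') := by
  classical
  set P := Fib π π' with hP
  have hPf : Finite P := inferInstance
  set H : Subgroup P := f'.range.comap (snd π π') with hH
  have hidx : H.index = f'.range.index := index_comap_of_surjective _ (snd_surjective hπ)
  -- the section
  let t : H → T := fun h => (MonoidHom.ofInjective hf').symm ⟨h.1.1.2, h.2⟩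
  have ht : ∀ h : H, f' (t h) = h.1.1.2 := by
    intro h
    have h1 : MonoidHom.ofInjective hf' (t h) = ⟨h.1.1.2, h.2⟩ :=
      (MonoidHom.ofInjective hf').apply_symm_apply _
    exact congrArg Subtype.val h1
  have htm : ∀ h k : H, t (h * k) = t h * t k := by
    intro h k
    apply hf'
    rw [map_mul, ht, ht, ht]; rfl
  have hcase : ∀ h : H, h.1.1.1 = f (t h) ∨ h.1.1.1 = z * f (t h) := by
    intro h
    have h1 : π (h.1.1.1 * (f (t h))⁻¹) = 1 := by
      rw [map_mul, map_inv, hff, ht, mul_inv_eq_one]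
      exact h.1.2
    rcases (hker _).1 h1 with h2 | h2
    · left; exact mul_inv_eq_one.1 h2
    · right; exact mul_inv_eq_iff_eq_mul.1 h2
  have hne : ∀ x : X, z * x ≠ x := by
    intro x hx
    exact hz1 (mul_eq_right.1 hx)
  let χ : H →* Multiplicative (ZMod 2) := MonoidHom.mk'
    (fun h => if h.1.1.1 = f (t h) then Multiplicative.ofAdd 0 else Multiplicative.ofAdd 1) (by
      intro h k
      have h3 : (h * k).1.1.1 = h.1.1.1 * k.1.1.1 := rfl
      have h4 : f (t (h * k)) = f (t h) * f (t k) := by rw [htm, map_mul]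
      have hd : (Multiplicative.ofAdd (1 : ZMod 2)) * Multiplicative.ofAdd 1 =
        Multiplicative.ofAdd 0 := rfl
      have e0 : ∀ (x y : X), x = y → (if x = y then Multiplicative.ofAdd (0 : ZMod 2) else
          Multiplicative.ofAdd 1) = Multiplicative.ofAdd 0 := fun x y hxy => if_pos hxy
      have e1 : ∀ (x y : X), x = z * y → (if x = y then Multiplicative.ofAdd (0 : ZMod 2) else
          Multiplicative.ofAdd 1) = Multiplicative.ofAdd 1 := fun x y hxy =>
        if_neg (by rw [hxy]; exact hne y)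
      rw [h3, h4]
      rcases hcase h with h1 | h1 <;> rcases hcase k with h2 | h2
      · rw [e0 _ _ (by rw [h1, h2]), e0 _ _ h1, e0 _ _ h2]; rfl
      · rw [e0 _ _ h1, e1 _ _ h2, e1 _ _ (by rw [h1, h2, ← mul_assoc, hzc, mul_assoc])]; rfl
      · rw [e1 _ _ h1, e0 _ _ h2, e1 _ _ (by rw [h1, h2, mul_assoc])]; rfl
      · rw [e1 _ _ h1, e1 _ _ h2, hd]
        refine e0 _ _ ?_
        rw [h1, h2]
        calc z * f (t h) * (z * f (t k)) = z * (f (t h) * z) * f (t k) := by group
          _ = z * (z * f (t h)) * f (t k) := by rw [hzc]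
          _ = (z * z) * (f (t h) * f (t k)) := by group
          _ = _ := by rw [hzz, one_mul])
  have hfi : H.FiniteIndex := inferInstance
  let V : P →* Multiplicative (ZMod 2) := χ.transfer
  have hz1P : ((z, 1) : X × X') ∈ P := by
    rw [hP, mem_Fib]
    show π z = π' 1
    rw [map_one, hker]; exact Or.inr rfl
  set ζ : P := ⟨(z, 1), hz1P⟩ with hζ
  have hζc : ∀ g : P, g * ζ = ζ * g := by
    rintro ⟨⟨x, x'⟩, hg⟩
    apply Subtype.ext
    show ((x * z, x' * 1) : X × X') = (z * x, 1 * x')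
    rw [hzc, mul_one, one_mul]
  have hζH : ζ ∈ H := by
    show (snd π π') ζ ∈ f'.range
    have h1 : (snd π π') ζ = 1 := rfl
    rw [h1]; exact one_mem _
  have hχζ : χ ⟨ζ, hζH⟩ = Multiplicative.ofAdd 1 := by
    show (if (z : X) = f (t ⟨ζ, hζH⟩) then Multiplicative.ofAdd (0 : ZMod 2)
      else Multiplicative.ofAdd 1) = _
    rw [if_neg]
    have h1 : t ⟨ζ, hζH⟩ = 1 := by
      apply hf'
      rw [ht, map_one]
    rw [h1, map_one]
    exact hz1
  have hVζ : V ζ = Multiplicative.ofAdd 1 := by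
    have h1 := MonoidHom.transfer_eq_pow χ ζ (by
      intro k g _
      have h2 : Commute g (ζ ^ k) := (show Commute g ζ from hζc g).pow_right k
      rw [mul_assoc, ← h2.eq, ← mul_assoc, inv_mul_cancel, one_mul])
    show χ.transfer ζ = _
    rw [h1]
    have h3 : χ ((⟨ζ, hζH⟩ : H) ^ H.index) = Multiplicative.ofAdd 1 := by
      rw [map_pow, hχζ, hidx]
      obtain ⟨m, hm⟩ := hodd
      rw [hm, pow_add, pow_mul, pow_one]
      have h4 : (Multiplicative.ofAdd (1 : ZMod 2)) ^ 2 = 1 := rfl
      rw [h4, one_pow, one_mul]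
    exact h3
  obtain ⟨a, b, hab, hab'⟩ := hcomm
  have hzzP : ((z, z') : X × X') ∈ P := by
    rw [hP, mem_Fib]
    show π z = π' z'
    rw [(hker z).2 (Or.inr rfl), (hker' z').2 (Or.inr rfl)]
  have hVD : V ⟨(z, z'), hzzP⟩ = 1 := by
    have hm : ∀ c : T, ((f c, f' c) : X × X') ∈ P := fun c => hff c
    have h1 : (⟨(z, z'), hzzP⟩ : P) = ⟨_, hm a⟩ * ⟨_, hm b⟩ * ⟨_, hm a⟩⁻¹ * ⟨_, hm b⟩⁻¹ := by
      apply Subtype.ext
      show ((z, z') : X × X') = (f a * f b * (f a)⁻¹ * (f b)⁻¹, f' a * f' b * (f' a)⁻¹ * (f' b)⁻¹)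
      rw [← hab, ← hab']
      simp only [map_mul, map_inv]
    rw [h1, map_mul, map_mul, map_mul, map_inv, map_inv]
    rw [mul_comm (V ⟨_, hm a⟩) (V ⟨_, hm b⟩), mul_inv_cancel_right, mul_inv_cancel]
  have h1z'P : ((1, z') : X × X') ∈ P := by
    rw [hP, mem_Fib]
    show π 1 = π' z'
    rw [map_one, (hker' z').2 (Or.inr rfl)]
  have hV1z : V ⟨(1, z'), h1z'P⟩ = Multiplicative.ofAdd 1 := by
    have h1 : (⟨(z, z'), hzzP⟩ : P) = ζ * ⟨(1, z'), h1z'P⟩ := by
      apply Subtype.ext
      show ((z, z') : X × X') = (z * 1, 1 * z')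
      rw [mul_one, one_mul]
    rw [h1, map_mul, hVζ] at hVD
    have h2 : ∀ w : Multiplicative (ZMod 2), Multiplicative.ofAdd 1 * w = 1 →
      w = Multiplicative.ofAdd 1 := by decide
    exact h2 _ hVD
  have hne1 : (Multiplicative.ofAdd (1 : ZMod 2)) ≠ 1 := by decide
  have hdich : ∀ w : Multiplicative (ZMod 2), w = 1 ∨ w = Multiplicative.ofAdd 1 := by decide
  -- the two projections of the kernel
  let p1 : V.ker →* X := (fst π π').comp V.ker.subtype
  let p2 : V.ker →* X' := (snd π π').comp V.ker.subtype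
  have hp1 : Function.Bijective p1 := by
    constructor
    · rw [injective_iff_map_eq_one]
      rintro ⟨⟨⟨x, x'⟩, hx⟩, hV⟩ h1
      have h2 : x = 1 := h1
      subst h2
      have h3 : π' x' = 1 := by
        have h4 : π 1 = π' x' := hx
        rw [← h4, map_one]
      rcases (hker' x').1 h3 with h4 | h4
      · subst h4; rfl
      · subst h4
        exfalso
        rw [MonoidHom.mem_ker] at hV
        exact hne1 (hV1z.symm.trans hV)
    · intro x
      obtain ⟨x', hx'⟩ := hπ' (π x)
      have hxP : ((x, x') : X × X') ∈ P := hx'.symm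
      rcases hdich (V ⟨_, hxP⟩) with h1 | h1
      · exact ⟨⟨⟨_, hxP⟩, h1⟩, rfl⟩
      · refine ⟨⟨⟨_, hxP⟩ * ⟨_, h1z'P⟩, ?_⟩, ?_⟩
        · rw [MonoidHom.mem_ker, map_mul, h1, hV1z]; rfl
        · show x * 1 = x
          rw [mul_one]
  have hp2 : Function.Bijective p2 := by
    constructor
    · rw [injective_iff_map_eq_one]
      rintro ⟨⟨⟨x, x'⟩, hx⟩, hV⟩ h1
      have h2 : x' = 1 := h1
      subst h2
      have h3 : π x = 1 := by
        have h4 : π x = π' 1 := hx
        rw [h4, map_one]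
      rcases (hker x).1 h3 with h4 | h4
      · subst h4; rfl
      · subst h4
        exfalso
        rw [MonoidHom.mem_ker] at hV
        exact hne1 (hVζ.symm.trans hV)
    · intro x'
      obtain ⟨x, hx⟩ := hπ (π' x')
      have hxP : ((x, x') : X × X') ∈ P := hx
      rcases hdich (V ⟨_, hxP⟩) with h1 | h1
      · exact ⟨⟨⟨_, hxP⟩, h1⟩, rfl⟩
      · refine ⟨⟨⟨_, hxP⟩ * ζ, ?_⟩, ?_⟩
        · rw [MonoidHom.mem_ker, map_mul, h1, hVζ]; rfl
        · show x' * 1 = x'
          rw [mul_one]
  exact ⟨(MulEquiv.ofBijective p1 hp1).symm.trans (MulEquiv.ofBijective p2 hp2)⟩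

end

end Cfsg.Agent.H308.CentExt
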