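import Mathlib
import Cfsg.Agent.H308.GoldHyp
import Cfsg.Agent.Lib.MinNormalNonabelian
import Cfsg.Agent.TwoFusion.StronglyEmbeddedBasic
import Cfsg.Agent.S1169

/-!
# The core-free case
-/

set_option autoImplicit false
set_option linter.style.haveILetI false

namespace Cfsg.Agent.H308.GoldCore

open Subgroup Cfsg Cfsg.Agent.H308.GoldHyp Cfsg.Agent.Lib

variable {G : Type*} [Group G]

/-- distinct members of `minSet K` meet trivially -/
theorem inf_eq_bot_of_ne {K L M : Subgroup G} (hL : L ∈ MinNormalNonabelian.minSet K)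
    (hM : M ∈ MinNormalNonabelian.minSet K) (h : L ≠ M) : L ⊓ M = ⊥ := by
  obtain ⟨h1, h2, h3, h4⟩ := hL
  obtain ⟨k1, k2, k3, k4⟩ := hM
  rcases h4 (L ⊓ M) inf_le_left (MinNormal.le_normalizer_inf h3 k3) with h5 | h5
  · exact h5
  · exfalso
    have h6 : L ≤ M := inf_eq_left.1 h5
    rcases k4 L h6 h3 with h7 | h7
    · exact h2 h7
    · exact h h7

/-- The number of members of an independent family of subgroups meeting `A` nontrivially. -/
theorem two_pow_le {ι : Type*} [Finite ι] [Finite G] {A : Subgroup G}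
    (hc : ∀ a ∈ A, ∀ b ∈ A, a * b = b * a) (L : ι → Subgroup G) (hL : iSupIndep L)
    (hne : ∀ i, A ⊓ L i ≠ ⊥) : 2 ^ Nat.card ι ≤ Nat.card A := by
  classical
  haveI := Fintype.ofFinite ι
  have hind : iSupIndep (fun i => A ⊓ L i) := hL.mono fun i => inf_le_right
  have hcomm : Pairwise fun i j => ∀ x y : G, x ∈ A ⊓ L i → y ∈ A ⊓ L j → Commute x y := by
    intro i j _ x y hx hy
    exact hc x hx.1 y hy.1
  have hinj := injective_noncommPiCoprod_of_iSupIndep (hcomm := hcomm) hind
  have hr : ∀ f, noncommPiCoprod hcomm f ∈ A := by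
    intro f
    have h1 : (noncommPiCoprod hcomm).range ≤ A := by
      rw [noncommPiCoprod_range]
      exact iSup_le fun i => inf_le_left
    exact h1 ⟨f, rfl⟩
  let g : ((i : ι) → (A ⊓ L i : Subgroup G)) → A := fun f => ⟨noncommPiCoprod hcomm f, hr f⟩
  have hg : Function.Injective g := by
    intro x y hxy
    exact hinj (congrArg Subtype.val hxy)
  have h1 := Nat.card_le_card_of_injective g hg
  rw [Nat.card_pi] at h1
  refine le_trans ?_ h1
  rw [Nat.card_eq_fintype_card, ← Finset.card_univ, ← Finset.prod_const]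
  refine Finset.prod_le_prod' fun i _ => ?_
  have h2 : Nat.card (A ⊓ L i : Subgroup G) ≠ 1 := fun h3 => hne i (card_eq_one.1 h3)
  have h3 : 0 < Nat.card (A ⊓ L i : Subgroup G) := Nat.card_pos
  omega

/-- `A` is contained in a component normalized by `N(A)`. -/
theorem exists_component [Finite G] {A K : Subgroup G} (h : Hyp A) (hO : pPrimeCore 2 G = ⊥)
    (hK : K.Normal) (hne : (MinNormalNonabelian.minSet K).Nonempty)
    (hind : sSupIndep (MinNormalNonabelian.minSet K)) (hAK : A ≤ K) :
    ∃ L ∈ MinNormalNonabelian.minSet K, A ≤ L ∧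
      ∀ n ∈ normalizer (A : Set G), n ∈ normalizer (L : Set G) := by
  have hmeet : ∀ L ∈ MinNormalNonabelian.minSet K, A ⊓ L ≠ ⊥ := by
    intro L hL hbot
    have hodd := odd_of_inf_eq_bot h.isPGroup h.cent h.sc (L := L) (by
      intro a ha l hl
      exact (mem_normalizer_iff.1 (hL.2.2.1 (hAK ha)) l).1 hl) hbot
    have h1 : (L.subgroupOf K).Normal := normal_subgroupOf_iff_le_normalizer hL.1 |>.2 hL.2.2.1
    have h2 : L.subgroupOf K ≤ pPrimeCore 2 K := by
      refine Cores.le_pPrimeCore h1 ?_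
      rw [Nat.card_congr (subgroupOfEquivOfLe hL.1).toEquiv]
      rw [Nat.coprime_comm, Nat.Prime.coprime_iff_not_dvd Nat.prime_two]
      exact hodd
    have h3 := Subgroup.map_mono (f := K.subtype) h2
    rw [Cores.map_subtype_pPrimeCore 2 hK, subgroupOf_map_subtype, inf_eq_left.2 hL.1] at h3
    have h4 : pPrimeCore 2 G = ⊥ := hO
    rw [h4, inf_bot_eq] at h3
    exact hL.2.1 (le_bot_iff.1 h3)
  have hcard : Nat.card (MinNormalNonabelian.minSet K) < 5 := by
    have h1 := two_pow_le h.comm (fun L : MinNormalNonabelian.minSet K => (L : Subgroup G))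
      ((sSupIndep_iff _).1 hind) (fun L => hmeet L L.2)
    rw [h.card] at h1
    by_contra hcon
    push Not at hcon
    have h2 : 2 ^ 5 ≤ 2 ^ Nat.card (MinNormalNonabelian.minSet K) :=
      Nat.pow_le_pow_right (by norm_num) hcon
    have h3 := h2.trans h1
    norm_num at h3
  obtain ⟨L, hL⟩ := hne
  have hX : ∀ n ∈ normalizer (A : Set G), n ∈ normalizer (L : Set G) := by
    have h1 := h.idx (normalizer (A : Set G) ⊓ normalizer (L : Set G)) inf_le_left (by
      intro n hn hc
      refine ⟨hn, ?_⟩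
      change n ∈ normalizer (L : Set G)
      rw [mem_normalizer_iff_map_conj_eq]
      by_contra hcon
      have h2 := inf_eq_bot_of_ne (MinNormalNonabelian.map_conj_mem_minSet hL n) hL hcon
      apply hmeet L hL
      rw [eq_bot_iff, ← h2]
      rintro x ⟨hxA, hxL⟩
      refine ⟨⟨x, hxL, ?_⟩, hxL⟩
      simp only [MulEquiv.toMonoidHom_eq_coe, MonoidHom.coe_coe, MulAut.conj_apply]
      rw [hc x hxA, mul_inv_cancel_right]) (by
      refine lt_of_le_of_lt ?_ hcard
      let f : (normalizer (A : Set G)) ⧸ (normalizer (A : Set G) ⊓ normalizer (L : Set G)).subgroupOf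
          (normalizer (A : Set G)) → MinNormalNonabelian.minSet K := fun q =>
        ⟨L.map (MulAut.conj ((Quotient.out q : normalizer (A : Set G)) : G)).toMonoidHom,
          MinNormalNonabelian.map_conj_mem_minSet hL _⟩
      refine Nat.card_le_card_of_injective f ?_
      intro q r hqr
      have h3 := congrArg Subtype.val hqr
      change L.map (MulAut.conj ((Quotient.out q : normalizer (A : Set G)) : G)).toMonoidHom =
        L.map (MulAut.conj ((Quotient.out r : normalizer (A : Set G)) : G)).toMonoidHom at h3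
      have h4 : (((Quotient.out q : normalizer (A : Set G)) : G))⁻¹ *
          ((Quotient.out r : normalizer (A : Set G)) : G) ∈ normalizer (L : Set G) := by
        rw [mem_normalizer_iff_map_conj_eq]
        change L.map (MulAut.conj _).toMonoidHom = L
        rw [← MinNormal.map_conj_map_conj, ← h3,
          MinNormal.map_conj_map_conj, inv_mul_cancel, MinNormal.map_conj_one]
      rw [← QuotientGroup.out_eq' q, ← QuotientGroup.out_eq' r, QuotientGroup.eq]
      rw [mem_subgroupOf]
      exact ⟨((Quotient.out q)⁻¹ * (Quotient.out r)).2, h4⟩)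
    exact fun n hn => (h1 hn).2
  refine ⟨L, hL, ?_, hX⟩
  rcases h.irr (A ⊓ L) inf_le_left (by
    rintro n hn b ⟨hbA, hbL⟩
    exact ⟨(mem_normalizer_iff.1 hn b).1 hbA, (mem_normalizer_iff.1 (hX n hn) b).1 hbL⟩) with h1 | h1
  · exact absurd h1 (hmeet L hL)
  · exact inf_eq_left.1 h1

/-- Burnside's transfer theorem for a simple group. -/
theorem burnside {L : Type*} [Group L] [Finite L] [IsSimpleGroup L]
    (T : Sylow 2 L) (hT : (T : Subgroup L) ≠ ⊥) (hna : ∃ x y : L, x * y ≠ y * x)
    (hN : (normalizer ((T : Subgroup L) : Set L)) ≤ centralizer ((T : Subgroup L) : Set L)) : False := by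
  haveI : Fact (Nat.Prime 2) := ⟨Nat.prime_two⟩
  have h1 := MonoidHom.ker_transferSylow_isComplement' T hN
  rcases (inferInstance : (MonoidHom.transferSylow T hN).ker.Normal).eq_bot_or_eq_top with h2 | h2
  · rw [h2] at h1
    have h3 : (T : Subgroup L) = ⊤ := by
      have := h1.sup_eq_top
      simpa using this
    obtain ⟨x, y, hxy⟩ := hna
    apply hxy
    have h4 : x ∈ normalizer ((T : Subgroup L) : Set L) := le_normalizer (h3 ▸ mem_top x)
    have h5 : y ∈ (T : Subgroup L) := h3 ▸ mem_top y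
    exact ((mem_centralizer_iff.1 (hN h4)) y h5).symm
  · rw [h2] at h1
    exact hT (by
      have := h1.disjoint
      rw [disjoint_iff, top_inf_eq] at this
      exact this)

/-- **The core-free case**. -/
theorem normal_of_core_free [Finite G] {A : Subgroup G} (h : Hyp A) (hO : pPrimeCore 2 G = ⊥) :
    A.Normal := by
  haveI : Fact (Nat.Prime 2) := ⟨Nat.prime_two⟩
  haveI : Nontrivial G := by
    by_contra hcon
    rw [not_nontrivial_iff_subsingleton] at hcon
    apply h.ne_bot
    exact Subsingleton.elim _ _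
  -- a minimal normal subgroup
  have htop : (⊤ : Subgroup G) ≠ ⊥ := by
    intro h1
    exact h.ne_bot (le_bot_iff.1 (h1 ▸ le_top))
  obtain ⟨K, -, hK0, hKn, hKmin⟩ := MinNormal.exists_minimal_normal_le (⊤ : Subgroup G) htop
  haveI hK : K.Normal := normalizer_eq_top_iff.1 (top_le_iff.1 hKn)
  have hmin : ∀ M : Subgroup G, M.Normal → M ≤ K → M = ⊥ ∨ M = K := fun M hM hMK =>
    hKmin M hMK (by rw [normalizer_eq_top_iff.2 hM])
  have hAK : A ≤ K := by
    rcases h.irr (A ⊓ K) inf_le_left (by
      rintro n hn b ⟨hbA, hbK⟩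
      exact ⟨(mem_normalizer_iff.1 hn b).1 hbA, hK.conj_mem b hbK n⟩) with h1 | h1
    · exfalso
      have hodd := odd_of_inf_eq_bot h.isPGroup h.cent h.sc (L := K) (by
        intro a ha l hl
        exact hK.conj_mem l hl a) h1
      have h2 : K ≤ pPrimeCore 2 G := by
        refine Cores.le_pPrimeCore hK ?_
        rw [Nat.coprime_comm, Nat.Prime.coprime_iff_not_dvd Nat.prime_two]
        exact hodd
      have h4 : pPrimeCore 2 G = ⊥ := hO
      rw [h4] at h2
      exact hK0 (le_bot_iff.1 h2)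
    · exact inf_eq_left.1 h1
  by_cases hab : ∀ x ∈ K, ∀ y ∈ K, Commute x y
  · obtain ⟨p, hp, hpK, -⟩ := MinNormalNonabelian.abelian_structure K hK0 hmin hab
    obtain ⟨a, ha, -, -, ha1, -⟩ := h.two
    obtain ⟨k, hk⟩ := hpK ⟨a, hAK ha⟩
    have hk' : a ^ p ^ k = 1 := by simpa using congrArg (fun w : K => (w : G)) hk
    have h1 : orderOf a ∣ p ^ k := orderOf_dvd_of_pow_eq_one hk'
    have h2 : orderOf a = 2 := orderOf_eq_prime (by rw [pow_two]; exact h.exp a ha) ha1
    rw [h2] at h1
    have h3 : 2 = p := (Nat.prime_dvd_prime_iff_eq Nat.prime_two hp).1 (Nat.prime_two.dvd_of_dvd_pow h1)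
    subst h3
    have h4 : K ≤ A := by
      intro x hx
      obtain ⟨m, hm⟩ := hpK ⟨x, hx⟩
      have hm' : x ^ 2 ^ m = 1 := by simpa using congrArg (fun w : K => (w : G)) hm
      exact h.cent x ⟨m, hm'⟩ fun b hb => hab x hx b (hAK hb)
    rw [le_antisymm hAK h4]
    exact hK
  · exfalso
    obtain ⟨hne, hind, -, hsimple, hcent, -⟩ := MinNormalNonabelian.nonabelian_structure K hmin hab
    obtain ⟨L, hL, hAL, hNL⟩ := exists_component h hO hK hne hind hAK
    haveI : IsSimpleGroup L := hsimple L hL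
    have hA' : IsPGroup 2 (A.subgroupOf L) :=
      h.isPGroup.comap_of_injective L.subtype L.subtype_injective
    obtain ⟨T, hT⟩ := hA'.exists_le_sylow
    have hTQ : IsPGroup 2 ((T : Subgroup L).map L.subtype) := T.isPGroup'.map _
    have hATQ : A ≤ (T : Subgroup L).map L.subtype := by
      intro a ha
      exact ⟨⟨a, hAL ha⟩, hT (show (⟨a, _⟩ : L) ∈ A.subgroupOf L from ha), rfl⟩
    have hsc : Cfsg.IsStronglyClosed (A.subgroupOf L) (T : Subgroup L) := by
      refine ⟨hT, ?_⟩
      intro x hx g hg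
      rw [mem_subgroupOf] at hx ⊢
      exact h.sc _ hTQ hATQ x hx g ⟨_, hg, rfl⟩
    have hA0 : A.subgroupOf L ≠ ⊥ := by
      intro h1
      apply h.ne_bot
      have := congrArg (Subgroup.map L.subtype) h1
      rwa [subgroupOf_map_subtype, inf_eq_left.2 hAL, Subgroup.map_bot] at this
    have hAc : IsMulCommutative (A.subgroupOf L) := by
      refine ⟨⟨?_⟩⟩
      rintro ⟨a, ha⟩ ⟨b, hb⟩
      exact Subtype.ext (Subtype.ext (h.comm a ha b hb))
    rcases Cfsg.Agent.S1169.result T (A.subgroupOf L) hA0 hAc hsc with h1 | ⟨H, hH⟩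
    · -- abelian Sylow subgroups
      have hTA : ∀ t ∈ (T : Subgroup L), (t : G) ∈ A := by
        intro t ht
        obtain ⟨k, hk⟩ := T.isPGroup' ⟨t, ht⟩
        have hk' : (t : G) ^ 2 ^ k = 1 := by
          simpa using congrArg (fun w : (T : Subgroup L) => ((w : L) : G)) hk
        refine h.cent t ⟨k, hk'⟩ ?_
        intro a ha
        have h2 : (⟨a, hAL ha⟩ : L) ∈ (T : Subgroup L) :=
          hT (show (⟨a, _⟩ : L) ∈ A.subgroupOf L from ha)
        have h3 := (h1.is_comm.comm (⟨t, ht⟩ : (T : Subgroup L)) ⟨⟨a, hAL ha⟩, h2⟩)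
        exact congrArg (fun w : (T : Subgroup L) => ((w : L) : G)) h3
      have hTeq : (T : Subgroup L) = A.subgroupOf L := le_antisymm (fun t ht => hTA t ht) hT
      have hY := h.odd (normalizer (A : Set G) ⊓ L) inf_le_left (by
        rintro n hn y ⟨hy, hyL⟩
        refine ⟨(normalizer (A : Set G)).mul_mem ((normalizer (A : Set G)).mul_mem hn hy)
          ((normalizer (A : Set G)).inv_mem hn), ?_⟩
        exact (mem_normalizer_iff.1 (hNL n hn) y).1 hyL) (by
        rintro y ⟨hy, hyL⟩ ⟨k, hk⟩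
        have h2 : IsPGroup 2 (zpowers (⟨y, hyL⟩ : L)) := by
          have h4 : (⟨y, hyL⟩ : L) ^ 2 ^ k = 1 := Subtype.ext (by simpa using hk)
          rintro ⟨w, hw⟩
          obtain ⟨i, rfl⟩ := mem_zpowers_iff.1 hw
          refine ⟨k, Subtype.ext ?_⟩
          change ((⟨y, hyL⟩ : L) ^ i) ^ 2 ^ k = 1
          rw [← zpow_natCast, ← zpow_mul, mul_comm, zpow_mul, zpow_natCast, h4, one_zpow]
        have h3 := IsPGroup.inf_normalizer_sylow h2 T
        have h4 : (⟨y, hyL⟩ : L) ∈ normalizer ((T : Subgroup L) : Set L) := by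
          rw [hTeq, mem_normalizer_iff]
          intro w
          exact mem_normalizer_iff.1 hy w
        have h5 : (⟨y, hyL⟩ : L) ∈ zpowers (⟨y, hyL⟩ : L) ⊓ (T : Subgroup L) := by
          rw [← h3]; exact ⟨mem_zpowers _, h4⟩
        exact hTA _ h5.2)
      refine burnside T (by rw [hTeq]; exact hA0) ?_ ?_
      · by_contra hcon
        push Not at hcon
        obtain ⟨a, ha, -, -, ha1, -⟩ := h.two
        apply ha1
        refine hcent L hL a (hAL ha) ?_
        intro t ht
        exact congrArg (fun w : L => (w : G)) (hcon ⟨a, hAL ha⟩ ⟨t, ht⟩)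
      · intro x hx
        rw [mem_centralizer_iff]
        intro t ht
        have h2 : (x : G) ∈ normalizer (A : Set G) := by
          rw [mem_normalizer_iff_map_conj_eq]
          apply Subgroup.eq_of_le_of_card_ge
          · rintro _ ⟨a, ha, rfl⟩
            have h3 : (⟨a, hAL ha⟩ : L) ∈ (T : Subgroup L) :=
              hT (show (⟨a, _⟩ : L) ∈ A.subgroupOf L from ha)
            have h4 := (mem_normalizer_iff.1 hx _).1 h3
            exact hTA _ h4
          · rw [card_map_of_injective (MulAut.conj (x : G)).injective]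
        have h3 := hY x ⟨h2, x.2⟩ t (hTA t ht)
        exact Subtype.ext h3.symm
    · obtain ⟨a, ha, b, hb, ha1, hb1, hab'⟩ := h.two
      have h2 : ∀ c (hc : c ∈ A), c ≠ 1 → orderOf (⟨c, hAL hc⟩ : L) = 2 := by
        intro c hc hc1
        refine orderOf_eq_prime ?_ ?_
        · exact Subtype.ext (by simpa [pow_two] using h.exp c hc)
        · intro h3
          exact hc1 (congrArg Subtype.val h3)
      have h3 := TwoFusion.StronglyEmbeddedBasic.isConj_of_involutions hH ⟨a, hAL ha⟩ ⟨b, hAL hb⟩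
        (h2 a ha ha1) (h2 b hb hb1)
      obtain ⟨g, hg⟩ := isConj_iff.1 h3
      exact hab' g (congrArg Subtype.val hg)

end Cfsg.Agent.H308.GoldCore
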