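import Mathlib
import Cfsg.Agent.J2Sylow.Fusion

/-!
# Groups with a Sylow 2-subgroup of J2 type and no subgroup of index 2: the fusion in `C(z)`

The fusion `f2` holds whether or not `z` is isolated.
-/

set_option autoImplicit false

namespace Cfsg.Agent.H308.JFour

open Cfsg.Agent.J2Sylow Cfsg.Agent.J2Sylow.Model Subgroup

variable {G : Type*} [Group G] (h : Setup G)

/-- Step 4 when `k z k⁻¹` is moved back to `z` by an element normalising `R`. -/
theorem step4 [Finite G] (hG : ∀ H : Subgroup G, H.index ≠ 2)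
    (hn : ∀ x ∈ h.U, x ≠ 1 → IsConj h.z x →
      ∃ g : G, (∀ x ∈ h.R, g * x * g⁻¹ ∈ h.R) ∧ g * x * g⁻¹ = h.z) :
    ∃ c : G, c * h.z = h.z * c ∧ ∀ x ∈ T.Ct, c * h.φ x * c⁻¹ ∈ T.QR.map h.φ := by
  obtain ⟨k, hk1, hk2, hk3⟩ := h.step1 hG
  obtain ⟨f, hf, hff⟩ := h.exists_hom T.Ct k hk3
  have htau : T.tau ∈ T.Ct := by decide
  have hzC : T.z ∈ T.Ct := by decide
  have hy : h.φ (f ⟨T.tau, htau⟩) = k * h.tau * k⁻¹ := hff _
  have hz' : h.φ (f ⟨T.z, hzC⟩) = k * h.z * k⁻¹ := hff _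
  have hyz : f ⟨T.tau, htau⟩ ≠ f ⟨T.z, hzC⟩ := by
    intro h0
    have h1 := congrArg Subtype.val (hf h0)
    exact absurd h1 (show ¬ (T.tau = T.z) by decide)
  have hfR : ∀ x, f x ∈ T.R := by
    intro x
    have h1 : f ⟨T.tau, htau⟩ * f x = f x * f ⟨T.tau, htau⟩ := by
      rw [← map_mul, ← map_mul]
      congr 1
      exact Subtype.ext x.2.symm
    have h2 : f ⟨T.z, hzC⟩ * f x = f x * f ⟨T.z, hzC⟩ := by
      rw [← map_mul, ← map_mul]
      congr 1
      exact Subtype.ext (T.z_comm _)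
    have hyU : f ⟨T.tau, htau⟩ ∈ T.U := by
      rw [← h.phi_mem_U, hy]; exact hk1
    have hzU : f ⟨T.z, hzC⟩ ∈ T.U := by
      rw [← h.phi_mem_U, hz']; exact hk2
    have hy1 : f ⟨T.tau, htau⟩ ≠ 1 := by
      intro h0
      have h3 : (⟨T.tau, htau⟩ : T.Ct) = 1 := hf (by rw [h0, map_one])
      exact absurd (congrArg Subtype.val h3) (show ¬ (T.tau = 1) by decide)
    have hz1 : f ⟨T.z, hzC⟩ ≠ 1 := by
      intro h0
      have h3 : (⟨T.z, hzC⟩ : T.Ct) = 1 := hf (by rw [h0, map_one])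
      exact absurd (congrArg Subtype.val h3) (show ¬ (T.z = 1) by decide)
    rcases T.U_cases _ hyU with h3 | h3 | h3 | h3
    · exact absurd h3 hy1
    · rcases T.U_cases _ hzU with h4 | h4 | h4 | h4
      · exact absurd h4 hz1
      · exact absurd (h3.trans h4.symm) hyz
      · rw [h4] at h2
        exact T.comm_v _ h2
      · rw [h4] at h2
        exact T.comm_vz _ h2
    · rw [h3] at h1
      exact T.comm_v _ h1
    · rw [h3] at h1
      exact T.comm_vz _ h1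
  obtain ⟨n, hn1, hn2⟩ := hn _ hk2 (h.ne_one (by decide) k) (isConj_iff.2 ⟨k, rfl⟩)
  have hcz : n * k * h.z * (n * k)⁻¹ = h.z := by
    refine Eq.trans ?_ hn2
    group
  refine ⟨n * k, ?_, ?_⟩
  · exact mul_inv_eq_iff_eq_mul.1 hcz
  · intro x hx
    have h1 : n * k * h.φ x * (n * k)⁻¹ = n * (k * h.φ x * k⁻¹) * n⁻¹ := by group
    have h2 : n * k * h.φ x * (n * k)⁻¹ ∈ h.R := by
      rw [h1, ← hff ⟨x, hx⟩]
      exact hn1 _ (h.phi_mem_R.2 (hfR _))
    have hU : ∀ w ∈ h.U, n * w * n⁻¹ ∈ h.U := by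
      rintro _ ⟨w, hw, rfl⟩
      exact h.conj_U n (fun x hx => hn1 _ (h.phi_mem_R.2 hx)) w hw
    have hUQ : ∀ w ∈ h.U, w ∈ T.QR.map h.φ := by
      rintro _ ⟨w, hw, rfl⟩
      exact h.phi_mem_map.2 (T.mem_QR.2 ⟨T.U_le_Q hw, T.U_le_R hw⟩)
    have hz1 : n * k * h.φ T.z * (n * k)⁻¹ = h.z := hcz
    have htU : n * k * h.φ T.tau * (n * k)⁻¹ ∈ h.U := by
      have h3 : n * k * h.φ T.tau * (n * k)⁻¹ = n * (k * h.φ T.tau * k⁻¹) * n⁻¹ := by group
      rw [h3]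
      exact hU _ hk1
    rcases T.sq_cent_tau x hx with h3 | h3 | h3 | h3 | h3
    · obtain ⟨w, hw, hw2⟩ := h2
      refine ⟨w, ⟨?_, ?_⟩, hw2⟩
      · refine T.mem_Q_of_sq w hw (h.inj ?_)
        rw [map_mul, hw2]
        calc n * k * h.φ x * (n * k)⁻¹ * (n * k * h.φ x * (n * k)⁻¹)
            = n * k * h.φ (x * x) * (n * k)⁻¹ := by rw [map_mul]; group
          _ = _ := by rw [h3]; exact hz1
      · exact hw
    · rw [h3, map_one]
      have : n * k * 1 * (n * k)⁻¹ = 1 := by group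
      rw [this]
      exact Subgroup.one_mem _
    · rw [h3]
      exact hUQ _ htU
    · rw [h3, hz1]
      exact hUQ _ h.z_mem_U
    · rw [h3, map_mul]
      have h4 : n * k * (h.φ T.tau * h.φ T.z) * (n * k)⁻¹
          = (n * k * h.φ T.tau * (n * k)⁻¹) * (n * k * h.φ T.z * (n * k)⁻¹) := by group
      rw [h4, hz1]
      exact hUQ _ (h.U.mul_mem htU h.z_mem_U)

/-- **The fusion in `C(z)`** of a group with a Sylow 2-subgroup of J2 type and without subgroups of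
index 2 (`z` may be isolated). -/
theorem f2 [Finite G] (hG : ∀ H : Subgroup G, H.index ≠ 2) :
    ∃ g : G, g * h.z = h.z * g ∧ (∀ x ∈ h.Q, g * x * g⁻¹ ∈ h.Q) ∧ g * h.tau * g⁻¹ = h.v := by
  by_cases hz : ∃ g, g * h.z * g⁻¹ ∈ h.S ∧ g * h.z * g⁻¹ ≠ h.z
  · exact (h.fused hG hz).f2
  · push Not at hz
    obtain ⟨c, hc1, hc2⟩ := step4 h hG (by
      intro x hx hx1 hconj
      obtain ⟨g, rfl⟩ := isConj_iff.1 hconj
      refine ⟨1, fun x hx => by simpa using hx, ?_⟩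
      rw [hz g (h.U_le_S hx)]; group)
    exact h.step5 hc1 hc2

end Cfsg.Agent.H308.JFour
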