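import Mathlib
import Cfsg.Agent.J2Sylow.SporSylow
import Cfsg.Agent.J2Sylow.Setup
import Cfsg.Agent.S1623
import Cfsg.Agent.S1620

/-!
# Set-ups from Sylow 2-subgroups of J2 type; a 2-central involution of `J₂` with its centralizer
-/

set_option autoImplicit false

namespace Cfsg.Agent.H308.JSetup

open Cfsg.Agent.J2Sylow Cfsg.Agent.J2Sylow.Model Subgroup

/-- the set-up given by a Sylow 2-subgroup isomorphic to `T` and a central involution -/
theorem exists_setup {G : Type*} [Group G] [Finite G] (S : Sylow 2 G)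
    (e : Nonempty (T ≃* ↥(S : Subgroup G))) {z : G} (hz : orderOf z = 2)
    (hzS : z ∈ (S : Subgroup G)) (hzc : ∀ s ∈ (S : Subgroup G), s * z = z * s) :
    ∃ h : Setup G, h.S = (S : Subgroup G) ∧ h.z = z := by
  obtain ⟨e⟩ := e
  have hr : ((S : Subgroup G).subtype.comp e.toMonoidHom).range = (S : Subgroup G) := by
    rw [MonoidHom.range_comp, MonoidHom.range_eq_top.2 e.surjective, ← MonoidHom.range_eq_map,
      Subgroup.range_subtype]
  have hodd : Odd ((S : Subgroup G).subtype.comp e.toMonoidHom).range.index := by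
    rw [hr, ← Nat.not_even_iff_odd, even_iff_two_dvd]
    exact S.not_dvd_index
  refine ⟨⟨(S : Subgroup G).subtype.comp e.toMonoidHom, ?_, hodd⟩, hr, ?_⟩
  · exact (Subgroup.subtype_injective _).comp e.injective
  · show ((e T.z : (S : Subgroup G)) : G) = z
    obtain ⟨t, ht⟩ := e.surjective ⟨z, hzS⟩
    have h1 : ∀ y, t * y = y * t := by
      intro y
      apply e.injective
      rw [map_mul, map_mul, ht]
      exact Subtype.ext (hzc _ (e y).2).symm
    rcases T.center_eq t h1 with h2 | h2
    · exfalso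
      rw [h2, map_one] at ht
      have h3 : (1 : G) = z := congrArg Subtype.val ht
      rw [← h3, orderOf_one] at hz
      norm_num at hz
    · rw [← h2, ht]

/-- A 2-central involution of `J₂` and the order of its centralizer. -/
theorem exists_invol : ∃ (z : Cfsg.Spor.J2) (Q : Sylow 2 Cfsg.Spor.J2), orderOf z = 2 ∧
    z ∈ (Q : Subgroup Cfsg.Spor.J2) ∧ (∀ s ∈ (Q : Subgroup Cfsg.Spor.J2), s * z = z * s) ∧
    Nat.card ↥(centralizer ({z} : Set Cfsg.Spor.J2)) = 1920 := by
  have hJf : Finite Cfsg.Spor.J2 :=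
    Nat.finite_of_card_ne_zero (by rw [SporSylow.card_J2]; norm_num)
  -- a reflection
  set F : Equiv.Perm Cfsg.Spor.icoLeech := J2.Group.eLam.permCongrHom
    (J2.Refl.rf J2.Group.e1 J2.Group.root_e1) with hF
  have hFr : Cfsg.Spor.IsIcoReflection F :=
    (J2.Group.isIcoReflection_iff F).2 ⟨_, J2.Group.root_e1, rfl⟩
  have hFm : F ∈ Cfsg.Spor.twoJ2 := Subgroup.subset_closure hFr
  have hF2 : F * F = 1 := by
    rw [hF, ← map_mul, J2.Refl.rf_mul_self, map_one]
  set z : Cfsg.Spor.J2 := QuotientGroup.mk ⟨F, hFm⟩ with hz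
  obtain ⟨Q0, hQ0n, hQ0c, -, ⟨e⟩⟩ := S1623.result F hFr hFm
  have hcard : Nat.card ↥(centralizer ({z} : Set Cfsg.Spor.J2)) = 1920 := by
    have h1 := Subgroup.card_eq_card_quotient_mul_card_subgroup Q0
    rw [hQ0c, Nat.card_congr e.toEquiv] at h1
    have h2 : Nat.card (alternatingGroup (Fin 5)) = 60 := by
      rw [nat_card_alternatingGroup, Nat.card_eq_fintype_card]; decide
    rw [h2] at h1
    exact h1
  have hzz : z * z = 1 := by
    rw [hz, ← QuotientGroup.mk_mul]
    have h1 : (⟨F, hFm⟩ : Cfsg.Spor.twoJ2) * ⟨F, hFm⟩ = 1 := Subtype.ext hF2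
    rw [h1]; rfl
  have hz1 : z ≠ 1 := by
    intro h1
    rw [h1] at hcard
    have h2 : centralizer ({1} : Set Cfsg.Spor.J2) = ⊤ := by
      rw [eq_top_iff]
      intro x _
      rw [mem_centralizer_singleton_iff, mul_one, one_mul]
    rw [h2, Subgroup.card_top, SporSylow.card_J2] at hcard
    norm_num at hcard
  have hzo : orderOf z = 2 := orderOf_eq_prime (by rw [pow_two, hzz]) hz1
  -- a Sylow 2-subgroup of the centralizer
  set C := centralizer ({z} : Set Cfsg.Spor.J2) with hC
  obtain ⟨P⟩ : Nonempty (Sylow 2 C) := inferInstance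
  have hPc : Nat.card P = 128 := by
    rw [P.card_eq_multiplicity, hcard]
    have : (1920 : ℕ) = 2 ^ 7 * 15 := by norm_num
    rw [this, Nat.factorization_mul (by norm_num) (by norm_num), Finsupp.add_apply,
      Nat.Prime.factorization_pow Nat.prime_two, Finsupp.single_eq_same,
      Nat.factorization_eq_zero_of_not_dvd (by norm_num)]
    rfl
  have hM : IsPGroup 2 ((P : Subgroup C).map C.subtype) := P.isPGroup'.map _
  obtain ⟨Q, hQ⟩ := hM.exists_le_sylow
  have hMc : Nat.card ((P : Subgroup C).map C.subtype) = 128 := by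
    rw [← hPc]
    exact (Nat.card_congr ((P : Subgroup C).equivMapOfInjective _
      C.subtype_injective).toEquiv).symm
  have hMQ : (P : Subgroup C).map C.subtype = (Q : Subgroup Cfsg.Spor.J2) := by
    apply Subgroup.eq_of_le_of_card_ge hQ
    rw [hMc]
    exact (SporSylow.card_sylow Q).le
  have hQC : ∀ s ∈ (Q : Subgroup Cfsg.Spor.J2), s * z = z * s := by
    intro s hs
    rw [← hMQ] at hs
    obtain ⟨x, -, rfl⟩ := hs
    exact mem_centralizer_singleton_iff.1 x.2
  refine ⟨z, Q, hzo, ?_, hQC, hcard⟩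
  -- `z` lies in every Sylow 2-subgroup it centralizes
  have h1 : IsPGroup 2 (zpowers z) := IsPGroup.of_card (n := 1) (by rw [Nat.card_zpowers, hzo]; rfl)
  have h2 : IsPGroup 2 (zpowers z ⊔ (Q : Subgroup Cfsg.Spor.J2) : Subgroup Cfsg.Spor.J2) := by
    refine h1.to_sup_of_normal_right' Q.isPGroup' ?_
    rw [zpowers_le, mem_normalizer_iff]
    intro x
    have hfix : ∀ y, y ∈ (Q : Subgroup Cfsg.Spor.J2) → z * y * z⁻¹ = y := by
      intro y hy
      rw [← hQC y hy, mul_inv_cancel_right]
    constructor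
    · intro hx
      rw [hfix x hx]; exact hx
    · intro hx
      have h3 := hfix _ hx
      have h4 : z * x * z⁻¹ = x := by
        have h5 : z⁻¹ = z := inv_eq_of_mul_eq_one_left hzz
        rw [h5] at h3 ⊢
        calc z * x * z = z * x * z := rfl
          _ = z * (z * x * z) * z := h3.symm
          _ = (z * z) * x * (z * z) := by group
          _ = x := by rw [hzz]; group
      rw [← h4]; exact hx
  have h3 := Q.is_maximal' h2 le_sup_right
  have h4 : z ∈ (zpowers z ⊔ (Q : Subgroup Cfsg.Spor.J2) : Subgroup Cfsg.Spor.J2) :=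
    mem_sup_left (mem_zpowers z)
  rw [h3] at h4
  exact h4

/-- `J₂` has no subgroup of index 2. -/
theorem index_ne_two (H : Subgroup Cfsg.Spor.J2) : H.index ≠ 2 := by
  have := S1620.result.1
  intro hH
  have hn : H.Normal := normal_of_index_eq_two hH
  rcases hn.eq_bot_or_eq_top with h1 | h1
  · rw [h1, Subgroup.index_bot, SporSylow.card_J2] at hH
    norm_num at hH
  · rw [h1, Subgroup.index_top] at hH
    norm_num at hH

end Cfsg.Agent.H308.JSetup
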