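import Mathlib
import Cfsg.Agent.TypeL3.Model

/-!
# Coordinates of `S = AB` of type `L₃(4)` (helper308)
-/

set_option autoImplicit false
set_option linter.unusedSectionVars false

namespace Cfsg.Agent.H308.LFour

open Subgroup Cfsg.Agent.TypeL3 Cfsg.Agent.TypeL3.Local Cfsg.Agent.Lib.GoldschmidtFusion

/-- additive bijections of odd order of the field with four elements are multiplications -/
theorem mul_of_odd {F : Type*} [Field F] [Fintype F] (hF : Fintype.card F = 4) {α : F → F}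
    (hadd : ∀ a b, α (a + b) = α a + α b) (hinj : ∀ a, α a = 0 → a = 0) {m : ℕ} (hm : Odd m)
    (hpow : ∀ a, α^[m] a = a) (a : F) : α a = α 1 * a := by
  classical
  have h2 : (2 : F) = 0 := by
    have h1 : ((Fintype.card F : ℕ) : F) = 0 := FiniteField.cast_card_eq_zero F
    rw [hF] at h1
    have h3 : (2 : F) * 2 = 0 := by
      have : ((4 : ℕ) : F) = 2 * 2 := by norm_num
      rw [← this]; exact h1
    rcases mul_eq_zero.1 h3 with h | h <;> exact h
  have h4 : ∀ a : F, a ^ 4 = a := fun a => by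
    have := FiniteField.pow_card a
    rwa [hF] at this
  have hq : ∀ a : F, a ≠ 0 → a ≠ 1 → a * a = a + 1 := by
    intro a ha0 ha1
    have e1 : a * ((a - 1) * (a * a + a + 1)) = 0 := by
      have := h4 a
      linear_combination this
    have e2 := (mul_eq_zero.1 e1).resolve_left ha0
    have e3 := (mul_eq_zero.1 e2).resolve_left (sub_ne_zero.2 ha1)
    linear_combination e3 - (a + 1) * h2
  obtain ⟨ω, hω0, hω1⟩ : ∃ ω : F, ω ≠ 0 ∧ ω ≠ 1 := by
    by_contra hcon
    push Not at hcon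
    have : (Finset.univ : Finset F) ⊆ {0, 1} := by
      intro t _
      by_cases ht : t = 0
      · simp [ht]
      · simp [hcon t ht]
    have h5 := Finset.card_le_card this
    have h6 := Finset.card_le_two (a := (0 : F)) (b := 1)
    rw [Finset.card_univ] at h5
    omega
  have hall : ∀ w : F, w ≠ 0 → w ≠ 1 → ∀ a : F, a = 0 ∨ a = 1 ∨ a = w ∨ a = w + 1 := by
    intro w hw0 hw1 a
    by_cases ha0 : a = 0
    · exact Or.inl ha0
    by_cases ha1 : a = 1
    · exact Or.inr (Or.inl ha1)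
    have e1 : (a - w) * (a - (w + 1)) = 0 := by
      linear_combination hq a ha0 ha1 + hq w hw0 hw1 + (1 + w - a * w) * h2
    rcases mul_eq_zero.1 e1 with h | h
    · exact Or.inr (Or.inr (Or.inl (sub_eq_zero.1 h)))
    · exact Or.inr (Or.inr (Or.inr (sub_eq_zero.1 h)))
  set c := α 1 with hc
  have hc0 : c ≠ 0 := fun h => one_ne_zero (hinj 1 h)
  have hα0 : α 0 = 0 := by
    have := hadd 0 0
    rw [add_zero] at this
    exact left_eq_add.1 this
  have hc3 : c * (c * c) = 1 := by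
    have := h4 c
    have e : c * (c * (c * c) - 1) = 0 := by linear_combination this
    exact sub_eq_zero.1 ((mul_eq_zero.1 e).resolve_left hc0)
  -- `β ω`
  set b := c⁻¹ * α ω with hb
  have hαω : α ω = c * b := by rw [hb]; field_simp
  have hb0 : b ≠ 0 := by
    intro h
    rw [h, mul_zero] at hαω
    exact hω0 (hinj _ hαω)
  have hb1 : b ≠ 1 := by
    intro h
    rw [h, mul_one] at hαω
    have e1 : α (ω + 1) = 0 := by
      rw [hadd, hαω, ← hc]
      linear_combination c * h2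
    have e2 := hinj _ e1
    apply hω1
    linear_combination e2 - h2
  rcases hall ω hω0 hω1 b with h | h | h | h
  · exact absurd h hb0
  · exact absurd h hb1
  · rw [h] at hαω
    rcases hall ω hω0 hω1 a with h | h | h | h
    · rw [h, hα0, mul_zero]
    · rw [h, mul_one]
    · rw [h, hαω]
    · rw [h, hadd, hαω]; ring
  · -- `α a = c a ^ 2`
    rw [h] at hαω
    have hsq : ∀ a, α a = c * (a * a) := by
      intro a
      rcases hall ω hω0 hω1 a with h | h | h | h
      · rw [h, hα0]; ring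
      · rw [h]; ring
      · rw [h, hαω, hq ω hω0 hω1]
      · rw [h, hadd, hαω, ← hc]
        linear_combination (-c) * hq ω hω0 hω1 - c * ω * h2
    have htwo : ∀ a, α (α a) = a := by
      intro a
      rw [hsq (α a), hsq a]
      have := h4 a
      linear_combination (a ^ 4) * hc3 + this
    have hit : ∀ k : ℕ, ∀ a, α^[2 * k] a = a := by
      intro k
      induction k with
      | zero => intro a; rfl
      | succ k ih =>
        intro a
        rw [Nat.mul_succ, Function.iterate_add_apply]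
        change α^[2 * k] (α (α a)) = a
        rw [htwo, ih]
    obtain ⟨k, rfl⟩ := hm
    have hid : ∀ a, α a = a := by
      intro a
      have := hpow a
      rw [Function.iterate_add_apply, hit] at this
      exact this
    rw [hc, hid, hid, one_mul]

variable {G : Type*} [Group G] {F : Type*} [Field F] [Fintype F] {S A B : Subgroup G} {x y z : F → G}

section coord

theorem x_zero (hc : LThreeCoord A B x y z) : x 0 = 1 := by
  have := hc.x_add 0 0
  rw [add_zero] at this
  exact left_eq_mul.1 this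

theorem y_zero (hc : LThreeCoord A B x y z) : y 0 = 1 := by
  have := hc.y_add 0 0
  rw [add_zero] at this
  exact left_eq_mul.1 this

theorem z_zero (hc : LThreeCoord A B x y z) : z 0 = 1 := by
  have := hc.z_add 0 0
  rw [add_zero] at this
  exact left_eq_mul.1 this

theorem x_mem (hc : LThreeCoord A B x y z) (a : F) : x a ∈ A :=
  (hc.mem_A _).2 ⟨a, 0, by rw [z_zero hc, mul_one]⟩

theorem y_mem (hc : LThreeCoord A B x y z) (a : F) : y a ∈ B :=
  (hc.mem_B _).2 ⟨a, 0, by rw [z_zero hc, mul_one]⟩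

theorem z_mem_A (hc : LThreeCoord A B x y z) (a : F) : z a ∈ A :=
  (hc.mem_A _).2 ⟨0, a, by rw [x_zero hc, one_mul]⟩

theorem z_mem_B (hc : LThreeCoord A B x y z) (a : F) : z a ∈ B :=
  (hc.mem_B _).2 ⟨0, a, by rw [y_zero hc, one_mul]⟩

theorem z_mem (hc : LThreeCoord A B x y z) (a : F) : z a ∈ A ⊓ B := ⟨z_mem_A hc a, z_mem_B hc a⟩

theorem inj_A (h : IsL3 S A B (Fintype.card F)) (hc : LThreeCoord A B x y z) {a c a' c' : F}
    (e : x a * z c = x a' * z c') : a = a' ∧ c = c' := by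
  have hfin : Finite A := by
    apply Nat.finite_of_card_ne_zero
    rw [h.card_A]
    exact pow_ne_zero _ Fintype.card_ne_zero
  let f : F × F → A := fun p => ⟨x p.1 * z p.2, mul_mem (x_mem hc _) (z_mem_A hc _)⟩
  have hs : Function.Surjective f := by
    rintro ⟨g, hg⟩
    obtain ⟨a, c, e⟩ := (hc.mem_A g).1 hg
    exact ⟨(a, c), Subtype.ext e.symm⟩
  have hcard : Nat.card (F × F) = Nat.card A := by
    rw [h.card_A, Nat.card_prod, Nat.card_eq_fintype_card, pow_two]
  have hb : Function.Bijective f := (Nat.bijective_iff_surjective_and_card f).2 ⟨hs, hcard⟩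
  have := hb.1 (a₁ := (a, c)) (a₂ := (a', c')) (Subtype.ext e)
  exact ⟨congrArg Prod.fst this, congrArg Prod.snd this⟩

theorem z_inj (h : IsL3 S A B (Fintype.card F)) (hc : LThreeCoord A B x y z) {c c' : F}
    (e : z c = z c') : c = c' := (inj_A h hc (a := 0) (a' := 0) (by rw [e])).2

theorem comm_xy (h : IsL3 S A B (Fintype.card F)) (hc : LThreeCoord A B x y z) (a b : F) :
    y b * x a * (y b)⁻¹ = x a * z (a * b) := by
  have h1 := hc.comm a b
  have h2 : (x a)⁻¹ = x a := eq_inv_of_sq (h.A_sq _ (x_mem hc a))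
  have h3 : (z (a * b))⁻¹ = z (a * b) := eq_inv_of_sq (h.A_sq _ (z_mem_A hc _))
  have h4 : y b * (x a)⁻¹ * (y b)⁻¹ = (x a)⁻¹ * z (a * b) := by rw [← h1]; group
  rwa [h2] at h4

theorem mem_Z (h : IsL3 S A B (Fintype.card F)) (hc : LThreeCoord A B x y z) {g : G} :
    g ∈ A ⊓ B ↔ ∃ c, g = z c := by
  constructor
  · intro hg
    obtain ⟨hA, hB⟩ := mem_inf.1 hg
    obtain ⟨a, c, rfl⟩ := (hc.mem_A g).1 hA
    have hx : x a ∈ B := by
      have := mul_mem hB (inv_mem (z_mem_B hc c))
      rwa [mul_inv_cancel_right] at this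
    have h1 := comm_xy h hc a 1
    rw [h.B_comm _ (y_mem hc 1) _ hx, mul_inv_cancel_right, mul_one] at h1
    have h2 : z a = z 0 := by rw [z_zero hc]; exact (mul_eq_left.1 h1.symm)
    have h3 := z_inj h hc h2
    exact ⟨c, by rw [h3, x_zero hc, one_mul]⟩
  · rintro ⟨c, rfl⟩
    exact z_mem hc c

theorem x_mem_Z (h : IsL3 S A B (Fintype.card F)) (hc : LThreeCoord A B x y z) {a c : F}
    (hx : x a * z c ∈ A ⊓ B) : a = 0 := by
  obtain ⟨d, hd⟩ := (mem_Z h hc).1 hx
  exact (inj_A h hc (a' := 0) (c' := d) (by rw [hd, x_zero hc, one_mul])).1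

/-- the coordinates after exchanging `A` and `B` -/
theorem coord_symm (h : IsL3 S A B (Fintype.card F)) (hc : LThreeCoord A B x y z) : LThreeCoord B A y x z := by
  refine ⟨hc.y_add, hc.x_add, hc.z_add, hc.mem_B, hc.mem_A, fun a b => ?_⟩
  have h1 := hc.comm b a
  have h3 : (z (b * a))⁻¹ = z (b * a) := eq_inv_of_sq (h.A_sq _ (z_mem_A hc _))
  rw [mul_comm a b, ← h3, ← h1]
  group

/-- exchange the complement `x(F)` of `Z` in `A` -/
theorem exists_coord (h : IsL3 S A B (Fintype.card F)) (hc : LThreeCoord A B x y z) {W : Subgroup G} (hWA : W ≤ A)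
    (hWZ : (A ⊓ B) ⊓ W = ⊥) (hcov : ∀ a ∈ A, ∃ z ∈ A ⊓ B, ∃ w ∈ W, z * w = a) :
    ∃ x' : F → G, LThreeCoord A B x' y z ∧ ∀ g, g ∈ W ↔ ∃ a, g = x' a := by
  have h1 : ∀ a : F, ∃ w, w ∈ W ∧ ∃ c, w = x a * z c := by
    intro a
    obtain ⟨ζ, hζ, w, hw, e⟩ := hcov _ (x_mem hc a)
    obtain ⟨c, rfl⟩ := (mem_Z h hc).1 hζ
    refine ⟨w, hw, c, ?_⟩
    have h2 : (z c)⁻¹ = z c := eq_inv_of_sq (h.A_sq _ (z_mem_A hc _))
    rw [← e, h.A_comm (z c) (z_mem_A hc c) w (hWA hw), mul_assoc, h.A_sq _ (z_mem_A hc _), mul_one]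
  choose x' hx' c hxc using h1
  have hx'A : ∀ a, x' a ∈ A := fun a => hWA (hx' a)
  have huniq : ∀ u ∈ W, ∀ v ∈ W, u * v⁻¹ ∈ A ⊓ B → u = v := by
    intro u hu v hv huv
    have : u * v⁻¹ ∈ (A ⊓ B) ⊓ W := mem_inf.2 ⟨huv, mul_mem hu (inv_mem hv)⟩
    rw [hWZ, mem_bot] at this
    exact mul_inv_eq_one.1 this
  have hcA := h.A_comm
  refine ⟨x', ⟨?_, hc.y_add, hc.z_add, ?_, hc.mem_B, ?_⟩, ?_⟩
  · intro a b
    refine huniq _ (hx' _) _ (mul_mem (hx' _) (hx' _)) ?_
    rw [hxc (a + b), hxc a, hxc b, hc.x_add]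
    have e : x a * x b * z (c (a + b)) * (x a * z (c a) * (x b * z (c b)))⁻¹ =
        z (c (a + b)) * (z (c a))⁻¹ * (z (c b))⁻¹ := by
      have k1 := hcA _ (z_mem_A hc (c a)) _ (x_mem hc b)
      have k2 := hcA _ (mul_mem (x_mem hc a) (x_mem hc b)) _ (z_mem_A hc (c (a + b)))
      have k3 : x a * z (c a) * (x b * z (c b)) = (x a * x b) * (z (c a) * z (c b)) := by
        calc x a * z (c a) * (x b * z (c b)) = x a * (z (c a) * x b) * z (c b) := by group
          _ = (x a * x b) * (z (c a) * z (c b)) := by rw [k1]; group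
      rw [k3, k2]
      have k4 := hcA _ (inv_mem (z_mem_A hc (c b))) _ (inv_mem (z_mem_A hc (c a)))
      calc z (c (a + b)) * (x a * x b) * (x a * x b * (z (c a) * z (c b)))⁻¹
          = z (c (a + b)) * (x a * x b) * ((z (c b))⁻¹ * (z (c a))⁻¹ * (x a * x b)⁻¹) := by group
        _ = z (c (a + b)) * (z (c a))⁻¹ * (z (c b))⁻¹ := by
            rw [k4]
            have k5 := hcA _ (mul_mem (x_mem hc a) (x_mem hc b)) _
              (mul_mem (inv_mem (z_mem_A hc (c a))) (inv_mem (z_mem_A hc (c b))))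
            calc z (c (a + b)) * (x a * x b) * ((z (c a))⁻¹ * (z (c b))⁻¹ * (x a * x b)⁻¹)
                = z (c (a + b)) * (x a * x b * ((z (c a))⁻¹ * (z (c b))⁻¹)) * (x a * x b)⁻¹ := by group
              _ = _ := by rw [k5]; group
    rw [e]
    exact mul_mem (mul_mem (z_mem hc _) (inv_mem (z_mem hc _))) (inv_mem (z_mem hc _))
  · intro g
    constructor
    · intro hg
      obtain ⟨a, d, rfl⟩ := (hc.mem_A g).1 hg
      refine ⟨a, c a + d, ?_⟩
      rw [hxc, hc.z_add]
      have := h.A_sq _ (z_mem_A hc (c a))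
      calc x a * z d = x a * (z (c a) * z (c a)) * z d := by rw [this, mul_one]
        _ = _ := by group
    · rintro ⟨a, d, rfl⟩
      exact mul_mem (hx'A a) (z_mem_A hc d)
  · intro a b
    rw [hxc]
    have k1 := h.B_comm _ (z_mem_B hc (c a)) _ (y_mem hc b)
    calc x a * z (c a) * y b * (x a * z (c a))⁻¹ * (y b)⁻¹
        = x a * (z (c a) * y b) * (z (c a))⁻¹ * (x a)⁻¹ * (y b)⁻¹ := by group
      _ = x a * y b * (x a)⁻¹ * (y b)⁻¹ := by rw [k1]; group
      _ = _ := hc.comm a b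
  · intro g
    constructor
    · intro hg
      obtain ⟨a, d, rfl⟩ := (hc.mem_A g).1 (hWA hg)
      refine ⟨a, huniq _ hg _ (hx' a) ?_⟩
      rw [hxc]
      have e : x a * z d * (x a * z (c a))⁻¹ = z d * (z (c a))⁻¹ := by
        have k1 := hcA _ (x_mem hc a) _ (mul_mem (z_mem_A hc d) (inv_mem (z_mem_A hc (c a))))
        calc x a * z d * (x a * z (c a))⁻¹ = x a * (z d * (z (c a))⁻¹) * (x a)⁻¹ := by group
          _ = _ := by rw [k1]; group
      rw [e]
      exact mul_mem (z_mem hc _) (inv_mem (z_mem hc _))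
    · rintro ⟨a, rfl⟩
      exact hx' a

end coord

end Cfsg.Agent.H308.LFour
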