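import Mathlib
import Cfsg.Agent.H308.LFCoord

/-!
# A group acting linearly on `A` embeds in `PGL₃` (helper308)
-/

set_option autoImplicit false
set_option linter.unusedSectionVars false

namespace Cfsg.Agent.H308.LFour

open Subgroup Cfsg.Agent.TypeL3 Cfsg.Agent.TypeL3.Local Cfsg.Agent.Lib.GoldschmidtFusion

variable {G : Type*} [Group G] {F : Type*} [Field F] [Fintype F] {S A B : Subgroup G} {x y z : F → G}

/-- `g` acts on `A` as the matrix `(p q; r s)` -/
def Lin (x z : F → G) (g : G) (p q r s : F) : Prop :=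
  ∀ a c, g * (x a * z c) * g⁻¹ = x (p * a + q * c) * z (r * a + s * c)

theorem Lin.mul {g g' : G} {p q r s p' q' r' s' : F} (h : Lin x z g p q r s) (h' : Lin x z g' p' q' r' s') :
    Lin x z (g * g') (p * p' + q * r') (p * q' + q * s') (r * p' + s * r') (r * q' + s * s') := by
  intro a c
  have e : g * g' * (x a * z c) * (g * g')⁻¹ = g * (g' * (x a * z c) * g'⁻¹) * g⁻¹ := by group
  rw [e, h' a c, h]
  congr 2 <;> ring

/-- the submonoid of elements acting linearly -/
def linM (x z : F → G) : Submonoid G where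
  carrier := {g | ∃ p q r s, Lin x z g p q r s}
  one_mem' := ⟨1, 0, 0, 1, fun a c => by simp⟩
  mul_mem' := by
    rintro g g' ⟨p, q, r, s, h⟩ ⟨p', q', r', s', h'⟩
    exact ⟨_, _, _, _, h.mul h'⟩

theorem mem_linM {g : G} : g ∈ linM x z ↔ ∃ p q r s, Lin x z g p q r s := Iff.rfl

theorem inv_mem_linM [Finite G] {g : G} (h : g ∈ linM x z) : g⁻¹ ∈ linM x z := by
  have h1 : g⁻¹ = g ^ (orderOf g - 1) := by
    have h2 : 0 < orderOf g := orderOf_pos g
    rw [inv_eq_iff_mul_eq_one, ← pow_succ']
    rw [Nat.sub_add_cancel h2, pow_orderOf_eq_one]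
  rw [h1]
  exact (linM x z).pow_mem h _

theorem A_mem_linM (hc : LThreeCoord A B x y z) (hA : ∀ a ∈ A, ∀ b ∈ A, a * b = b * a) {g : G} (hg : g ∈ A) :
    g ∈ linM x z := by
  refine ⟨1, 0, 0, 1, fun a c => ?_⟩
  rw [hA g hg _ (mul_mem (x_mem hc a) (z_mem_A hc c)), mul_inv_cancel_right]
  simp

theorem y_mem_linM (h : IsL3 S A B (Fintype.card F)) (hc : LThreeCoord A B x y z) (b : F) :
    y b ∈ linM x z := by
  refine ⟨1, 0, b, 1, fun a c => ?_⟩
  have h1 := comm_xy h hc a b
  have h2 := h.B_comm _ (y_mem hc b) _ (z_mem_B hc c)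
  calc y b * (x a * z c) * (y b)⁻¹ = (y b * x a * (y b)⁻¹) * (y b * z c * (y b)⁻¹) := by group
    _ = x a * (z (a * b) * z c) := by rw [h1, h2]; group
    _ = _ := by rw [← hc.z_add]; congr 2 <;> ring

theorem S_mem_linM (h : IsL3 S A B (Fintype.card F)) (hc : LThreeCoord A B x y z) {g : G} (hg : g ∈ S) :
    g ∈ linM x z := by
  obtain ⟨a, ha, b, hb, rfl⟩ := h.prod g hg
  obtain ⟨c, d, rfl⟩ := (hc.mem_B b).1 hb
  exact mul_mem (A_mem_linM hc h.A_comm ha)
    (mul_mem (y_mem_linM h hc c) (A_mem_linM hc h.A_comm (z_mem_A hc d)))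

/-- an element normalising `x(F)` and `z(F)` some odd power of which centralises `A` -/
theorem diag_mem_linM (hF : Fintype.card F = 4) (h : IsL3 S A B (Fintype.card F)) (hc : LThreeCoord A B x y z) {g : G}
    (hx : ∀ a, ∃ a', g * x a * g⁻¹ = x a') (hz : ∀ c, ∃ c', g * z c * g⁻¹ = z c') {m : ℕ} (hm : Odd m)
    (hpow : ∀ a ∈ A, g ^ m * a * (g ^ m)⁻¹ = a) : g ∈ linM x z := by
  -- the general step
  have key : ∀ u : F → G, (∀ a b, u (a + b) = u a * u b) → (∀ a b, u a = u b → a = b) → (∀ a, u a ∈ A) →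
      (∀ a, ∃ a', g * u a * g⁻¹ = u a') → ∃ k, ∀ a, g * u a * g⁻¹ = u (k * a) := by
    intro u hadd hinj hA hu
    choose α hα using hu
    have hu0 : u 0 = 1 := by
      have := hadd 0 0
      rw [add_zero] at this
      exact left_eq_mul.1 this
    refine ⟨α 1, fun a => ?_⟩
    rw [hα]
    congr 1
    refine mul_of_odd hF ?_ ?_ hm ?_ a
    · intro a b
      apply hinj
      rw [← hα, hadd, hadd, ← hα, ← hα]
      group
    · intro a ha
      apply hinj
      have h1 := hα a
      rw [ha, hu0] at h1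
      rw [hu0]
      have h2 : u a = g⁻¹ * (g * u a * g⁻¹) * g := by group
      rw [h2, h1]; group
    · intro a
      have hit : ∀ n : ℕ, g ^ n * u a * (g ^ n)⁻¹ = u (α^[n] a) := by
        intro n
        induction n with
        | zero => simp
        | succ n ih =>
          rw [Function.iterate_succ_apply', ← hα, ← ih, pow_succ']
          group
      apply hinj
      rw [← hit]
      exact hpow _ (hA a)
  obtain ⟨p, hp⟩ := key x hc.x_add (fun a b e => (inj_A h hc (c := 0) (c' := 0) (by rw [e])).1)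
    (x_mem hc) hx
  obtain ⟨s, hs⟩ := key z hc.z_add (fun a b e => z_inj h hc e) (z_mem_A hc) hz
  refine ⟨p, 0, 0, s, fun a c => ?_⟩
  calc g * (x a * z c) * g⁻¹ = (g * x a * g⁻¹) * (g * z c * g⁻¹) := by group
    _ = _ := by rw [hp, hs]; congr 2 <;> ring

/-- the matrix embedding -/
theorem exists_embedding [Finite G] [A.Normal] (h : IsL3 S A B (Fintype.card F)) (hc : LThreeCoord A B x y z)
    (hlin : ∀ g : G, g ∈ linM x z) (hcen : ∀ g : G, (∀ a ∈ A, g * a = a * g) → g ∈ A) {H : Subgroup G}
    (hH : IsComplement' A H) :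
    ∃ f : G →* Matrix.GeneralLinearGroup (Fin 3) F ⧸ Subgroup.center (Matrix.GeneralLinearGroup (Fin 3) F),
      Function.Injective f := by
  classical
  have hdisj : ∀ g, g ∈ A → g ∈ H → g = 1 := fun g h1 h2 => by
    have := hH.disjoint.le_bot (mem_inf.2 ⟨h1, h2⟩)
    exact mem_bot.1 this
  have hdec : ∀ g : G, ∃ u v : F, (x u * z v)⁻¹ * g ∈ H := by
    intro g
    obtain ⟨⟨⟨a, ha⟩, ⟨b, hb⟩⟩, e⟩ := hH.surjective g
    obtain ⟨u, v, rfl⟩ := (hc.mem_A a).1 ha
    refine ⟨u, v, ?_⟩
    have e' : x u * z v * b = g := e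
    rw [← e', inv_mul_cancel_left]
    exact hb
  choose u v huv using hdec
  choose p q r s hl using fun g => mem_linM.1 (hlin g)
  have hinj := fun {a c a' c'} => inj_A (a := a) (c := c) (a' := a') (c' := c') h hc
  -- uniqueness of the matrix entries
  have hmul : ∀ g g', (p (g * g') = p g * p g' + q g * r g' ∧ r (g * g') = r g * p g' + s g * r g') ∧
      (q (g * g') = p g * q g' + q g * s g' ∧ s (g * g') = r g * q g' + s g * s g') := by
    intro g g'
    have h1 := (hl g).mul (hl g')
    constructor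
    · have e := (h1 1 0).symm.trans (hl (g * g') 1 0)
      have := hinj e
      constructor
      · linear_combination -this.1
      · linear_combination -this.2
    · have e := (h1 0 1).symm.trans (hl (g * g') 0 1)
      have := hinj e
      constructor
      · linear_combination -this.1
      · linear_combination -this.2
  have hone : (p 1 = 1 ∧ r 1 = 0) ∧ (q 1 = 0 ∧ s 1 = 1) := by
    constructor
    · have e := hl 1 1 0
      rw [one_mul, inv_one, mul_one] at e
      have := hinj e
      constructor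
      · linear_combination -this.1
      · linear_combination -this.2
    · have e := hl 1 0 1
      rw [one_mul, inv_one, mul_one] at e
      have := hinj e
      constructor
      · linear_combination -this.1
      · linear_combination -this.2
  have hAc := h.A_comm
  have huv_mul : ∀ g g', u (g * g') = p g * u g' + q g * v g' + u g ∧
      v (g * g') = r g * u g' + s g * v g' + v g := by
    intro g g'
    -- `a(g g') = a(g) * (g a(g') g⁻¹)`
    set a := x (u g) * z (v g) with ha
    set a' := x (u g') * z (v g') with ha'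
    have haA : a ∈ A := mul_mem (x_mem hc _) (z_mem_A hc _)
    have ha'A : a' ∈ A := mul_mem (x_mem hc _) (z_mem_A hc _)
    have h1 : (g * a' * g⁻¹ * a)⁻¹ * (g * g') ∈ H := by
      have h2 : g * a' * g⁻¹ ∈ A := Subgroup.Normal.conj_mem inferInstance a' ha'A g
      have h3 := hAc _ h2 _ haA
      have h4 : a * (a⁻¹ * g * a' * (a⁻¹ * g)⁻¹) = (a⁻¹ * g * a' * (a⁻¹ * g)⁻¹) * a := by
        refine hAc _ haA _ (Subgroup.Normal.conj_mem inferInstance a' ha'A _)
      have h5 : g * a' * g⁻¹ * a = a * (a⁻¹ * g * a' * (a⁻¹ * g)⁻¹) := by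
        rw [h4]
        calc g * a' * g⁻¹ * a = a⁻¹ * (a * (g * a' * g⁻¹)) * a := by group
          _ = a⁻¹ * ((g * a' * g⁻¹) * a) * a := by rw [h3]
          _ = _ := by group
      rw [h5]
      have h6 : (a * (a⁻¹ * g * a' * (a⁻¹ * g)⁻¹))⁻¹ * (g * g') = (a⁻¹ * g) * (a'⁻¹ * g') := by group
      rw [h6]
      exact H.mul_mem (huv g) (huv g')
    have h2 : g * a' * g⁻¹ * a = x (p g * u g' + q g * v g' + u g) * z (r g * u g' + s g * v g' + v g) := by
      rw [ha', hl g, ha, hc.x_add (p g * u g' + q g * v g'), hc.z_add (r g * u g' + s g * v g')]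
      have k1 := hAc _ (z_mem_A hc (r g * u g' + s g * v g')) _ (x_mem hc (u g))
      calc x (p g * u g' + q g * v g') * z (r g * u g' + s g * v g') * (x (u g) * z (v g))
          = x (p g * u g' + q g * v g') * (z (r g * u g' + s g * v g') * x (u g)) * z (v g) := by group
        _ = _ := by rw [k1]; group
    have h3 := huv (g * g')
    -- both decompositions agree
    have h4 : (x (u (g * g')) * z (v (g * g')))⁻¹ * (g * a' * g⁻¹ * a) = 1 := by
      apply hdisj
      · refine mul_mem (inv_mem (mul_mem (x_mem hc _) (z_mem_A hc _))) (mul_mem ?_ haA)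
        exact Subgroup.Normal.conj_mem inferInstance a' ha'A g
      · have h5 := H.mul_mem h3 (H.inv_mem h1)
        have h6 : (x (u (g * g')) * z (v (g * g')))⁻¹ * (g * g') * ((g * a' * g⁻¹ * a)⁻¹ * (g * g'))⁻¹ =
            (x (u (g * g')) * z (v (g * g')))⁻¹ * (g * a' * g⁻¹ * a) := by group
        rwa [h6] at h5
    rw [inv_mul_eq_one, h2] at h4
    exact hinj h4
  have huv_one : u 1 = 0 ∧ v 1 = 0 := by
    have h1 := huv 1
    rw [mul_one] at h1
    have h2 := hdisj _ (inv_mem (mul_mem (x_mem hc _) (z_mem_A hc _))) h1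
    rw [inv_eq_one] at h2
    exact hinj (a' := 0) (c' := 0) (by rw [h2, x_zero hc, z_zero hc, one_mul])
  let M : G →* Matrix (Fin 3) (Fin 3) F :=
    { toFun := fun g => !![p g, q g, u g; r g, s g, v g; 0, 0, 1]
      map_one' := by
        rw [hone.1.1, hone.1.2, hone.2.1, hone.2.2, huv_one.1, huv_one.2]
        ext i j
        fin_cases i <;> fin_cases j <;> simp
      map_mul' := by
        intro g g'
        rw [(hmul g g').1.1, (hmul g g').1.2, (hmul g g').2.1, (hmul g g').2.2, (huv_mul g g').1, (huv_mul g g').2]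
        ext i j
        fin_cases i <;> fin_cases j <;> simp [Matrix.mul_apply, Fin.sum_univ_three] }
  let f : G →* Matrix.GeneralLinearGroup (Fin 3) F := M.toHomUnits
  have hf : ∀ g, ((f g : Matrix.GeneralLinearGroup (Fin 3) F) : Matrix (Fin 3) (Fin 3) F) =
      !![p g, q g, u g; r g, s g, v g; 0, 0, 1] := fun g => rfl
  refine ⟨(QuotientGroup.mk' _).comp f, ?_⟩
  rw [injective_iff_map_eq_one]
  intro g hg
  have h1 : f g ∈ Subgroup.center (Matrix.GeneralLinearGroup (Fin 3) F) := (QuotientGroup.eq_one_iff _).1 hg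
  rw [Matrix.GeneralLinearGroup.center_eq_range_scalar] at h1
  obtain ⟨c, hc'⟩ := h1
  have h2 : Matrix.scalar (Fin 3) (c : F) = !![p g, q g, u g; r g, s g, v g; 0, 0, 1] := by
    rw [← hf, ← hc']
    rfl
  have h22 := congrFun (congrFun h2 2) 2
  have h00 := congrFun (congrFun h2 0) 0
  have h01 := congrFun (congrFun h2 0) 1
  have h02 := congrFun (congrFun h2 0) 2
  have h10 := congrFun (congrFun h2 1) 0
  have h11 := congrFun (congrFun h2 1) 1
  have h12 := congrFun (congrFun h2 1) 2
  simp at h22 h00 h01 h02 h10 h11 h12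
  have hgA : g ∈ A := by
    apply hcen
    intro a ha
    obtain ⟨a, d, rfl⟩ := (hc.mem_A a).1 ha
    have h3 := hl g a d
    rw [← h00, ← h01, ← h10, ← h11, h22, Units.val_one, one_mul, zero_mul, add_zero, zero_mul, zero_add, one_mul] at h3
    calc g * (x a * z d) = (g * (x a * z d) * g⁻¹) * g := by group
      _ = _ := by rw [h3]
  apply hdisj g hgA
  have h3 := huv g
  rwa [← h02, ← h12, x_zero hc, z_zero hc, one_mul, inv_one, one_mul] at h3

end Cfsg.Agent.H308.LFour
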