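import Mathlib
import Cfsg.Agent.H308.LFLin
import Cfsg.Agent.Lib.SylowNormalInf
import Cfsg.Agent.Lib.Cores
import Cfsg.Agent.S0051

/-!
# `A` normal: the embedding into `PGL₃(4)` (helper308)
-/

set_option autoImplicit false
set_option linter.unusedSectionVars false

namespace Cfsg.Agent.H308.LFour

open Subgroup Cfsg Cfsg.Agent.TypeL3 Cfsg.Agent.TypeL3.Local Cfsg.Agent.Lib.GoldschmidtFusion

variable {G : Type*} [Group G] [Finite G] {F : Type*} [Field F] [Fintype F] {A B : Subgroup G} {x y z : F → G}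
  {S : Sylow 2 G}

/-- `C(A) = A` -/
theorem mem_of_comm (hO : pPrimeCore 2 G = ⊥) (hA : A.Normal) (h : IsL3 (S : Subgroup G) A B (Fintype.card F)) {g : G}
    (hg : ∀ a ∈ A, g * a = a * g) : g ∈ A := by
  have hp2 : Fact (Nat.Prime 2) := ⟨Nat.prime_two⟩
  set C := centralizer (A : Set G) with hC
  have hCn : C.Normal := inferInstance
  have hAC : A ≤ C := fun a ha => mem_centralizer_iff.2 fun b hb => h.A_comm b hb a ha
  obtain ⟨a₀, ha₀, ha₀B⟩ := h.neA
  have hSC : (S : Subgroup G) ⊓ C = A := by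
    apply le_antisymm
    · rintro s ⟨hs, hsC⟩
      exact h.centA a₀ ha₀ ha₀B s hs (mem_centralizer_iff.1 hsC a₀ ha₀)
    · exact le_inf h.A_le hAC
  have hidx : ¬ 2 ∣ (A.subgroupOf C).index := by
    have h1 := Lib.SylowNormalInf.not_dvd_relIndex S C
    rw [← inf_relIndex_right, hSC] at h1
    exact h1
  have hAp : IsPGroup 2 (A.subgroupOf C) := (S.isPGroup'.to_le h.A_le).comap_subtype
  let P : Sylow 2 C := hAp.toSylow hidx
  have hP : (P : Subgroup C) = A.subgroupOf C := rfl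
  have hPc : normalizer ((P : Subgroup C) : Set C) ≤ centralizer ((P : Subgroup C) : Set C) := by
    intro c _
    rw [mem_centralizer_iff]
    intro a ha
    apply Subtype.ext
    exact mem_centralizer_iff.1 c.2 (a : G) (mem_subgroupOf.1 ha)
  have h1 := MonoidHom.ker_transferSylow_isComplement' P hPc
  have h2 := MonoidHom.not_dvd_card_ker_transferSylow P hPc
  set K := (MonoidHom.transferSylow P hPc).ker with hK
  have hKO : K ≤ pPrimeCore 2 C := Lib.Cores.le_pPrimeCore (MonoidHom.normal_ker _)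
    ((Nat.Prime.coprime_iff_not_dvd Nat.prime_two).2 h2).symm
  have hCO : pPrimeCore 2 C = ⊥ := by
    have h3 := Lib.Cores.map_subtype_pPrimeCore 2 hCn
    rw [hO, inf_bot_eq] at h3
    exact (Subgroup.map_eq_bot_iff_of_injective _ C.subtype_injective).1 h3
  rw [hCO, le_bot_iff] at hKO
  rw [hKO, isComplement'_bot_left] at h1
  have hgC : g ∈ C := mem_centralizer_iff.2 fun a ha => (hg a ha).symm
  have h4 : (⟨g, hgC⟩ : C) ∈ (P : Subgroup C) := by rw [h1]; trivial
  rw [hP] at h4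
  exact mem_subgroupOf.1 h4

/-- `N(Z) ≤ N(S)` -/
theorem normalizer_Z_le (hO : pPrimeCore 2 G = ⊥) (hA : A.Normal) (h : IsL3 (S : Subgroup G) A B (Fintype.card F)) :
    normalizer ((A ⊓ B : Subgroup G) : Set G) ≤ normalizer ((S : Subgroup G) : Set G) := by
  have hp2 : Fact (Nat.Prime 2) := ⟨Nat.prime_two⟩
  set R := IsAB.chainStab (A ⊓ B) A with hR
  have hSR : (S : Subgroup G) ≤ R := fun s hs =>
    ⟨h.le_normalizer inf_le_left h.A_le hs, fun z hz => (h.comm_Z hz hs).symm, fun x hx => h.comm_mem hs (h.A_le hx)⟩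
  have hR2 : IsPGroup 2 R := by
    rintro ⟨r, hr⟩
    refine ⟨2, ?_⟩
    apply Subtype.ext
    change r ^ 2 ^ 2 = 1
    have hrr : r * r ∈ A := by
      refine mem_of_comm (F := F) hO hA h fun x hx => ?_
      obtain ⟨hr1, hr2, hr3⟩ := hr
      set z := r * x * r⁻¹ * x⁻¹ with hz
      have hzZ : z ∈ A ⊓ B := hr3 x hx
      have e1 : r * x * r⁻¹ = z * x := by rw [hz]; group
      have hzz : z * z = 1 := h.A_sq z (mem_inf.1 hzZ).1
      have e2 : r * r * x * (r * r)⁻¹ = x := by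
        calc r * r * x * (r * r)⁻¹ = r * (r * x * r⁻¹) * r⁻¹ := by group
          _ = (r * z) * x * r⁻¹ := by rw [e1]; group
          _ = z * (r * x * r⁻¹) := by rw [hr2 z hzZ]; group
          _ = z * z * x := by rw [e1]; group
          _ = x := by rw [hzz, one_mul]
      calc r * r * x = (r * r * x * (r * r)⁻¹) * (r * r) := by group
        _ = x * (r * r) := by rw [e2]
    have h4 := h.A_sq _ hrr
    calc r ^ 2 ^ 2 = r * r * (r * r) := by norm_num [pow_succ, mul_assoc]
      _ = 1 := h4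
  have hRS : R = (S : Subgroup G) := S.is_maximal' hR2 hSR
  intro g hg
  have hgZ := mem_normalizer_iff_map_conj.1 hg
  rw [← hRS, mem_normalizer_iff_map_conj]
  refine eq_of_le_of_card_ge ?_ (by rw [card_map_conj])
  rintro _ ⟨r, hr, rfl⟩
  obtain ⟨hr1, hr2, hr3⟩ := hr
  change g * r * g⁻¹ ∈ R
  refine ⟨?_, fun z hz => ?_, fun x hx => ?_⟩
  · rw [normalizer_eq_top_iff.2 hA]; trivial
  · have hz' : g⁻¹ * z * g ∈ A ⊓ B := by rw [← mem_map_conj, hgZ]; exact hz
    have := hr2 _ hz'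
    calc g * r * g⁻¹ * z = g * (r * (g⁻¹ * z * g)) * g⁻¹ := by group
      _ = z * (g * r * g⁻¹) := by rw [this]; group
  · have hx' : g⁻¹ * x * g ∈ A := by
      have := hA.conj_mem x hx g⁻¹
      rwa [inv_inv] at this
    have h2 := conj_mem_map_conj (hr3 _ hx') g
    rw [hgZ] at h2
    convert h2 using 1
    group

/-- `{y b}` complements `A` in `S`, so that `A` has a complement -/
theorem exists_complement (hA : A.Normal) (h : IsL3 (S : Subgroup G) A B (Fintype.card F))
    (hc : LThreeCoord A B x y z) : ∃ H : Subgroup G, IsComplement' A H := by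
  have hp2 : Fact (Nat.Prime 2) := ⟨Nat.prime_two⟩
  have hcomm : IsMulCommutative A := ⟨⟨fun a b => Subtype.ext (h.A_comm a a.2 b b.2)⟩⟩
  let Y : Subgroup G :=
    { carrier := {g | ∃ b, g = y b}
      one_mem' := ⟨0, (y_zero hc).symm⟩
      mul_mem' := by
        rintro _ _ ⟨a, rfl⟩ ⟨b, rfl⟩
        exact ⟨a + b, (hc.y_add a b).symm⟩
      inv_mem' := by
        rintro _ ⟨a, rfl⟩
        exact ⟨a, eq_inv_of_sq (h.B_sq _ (y_mem hc a))⟩ }
  have hYB : Y ≤ B := by
    rintro _ ⟨b, rfl⟩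
    exact y_mem hc b
  have hc' := coord_symm h hc
  refine Cfsg.Agent.S0051.result A (S : Subgroup G) h.A_le ?_ Y (hYB.trans h.B_le) ?_ ?_
  · obtain ⟨n, hn⟩ := IsPGroup.iff_card.1 (S.isPGroup'.to_le h.A_le)
    rw [hn]
    exact Nat.Coprime.pow_left n ((Nat.Prime.coprime_iff_not_dvd Nat.prime_two).2 S.not_dvd_index)
  · rw [eq_bot_iff]
    rintro g ⟨⟨b, rfl⟩, hgA⟩
    have h1 : y b ∈ A ⊓ B := mem_inf.2 ⟨hgA, y_mem hc b⟩
    rw [inf_comm] at h1
    have h2 := x_mem_Z h.symm hc' (a := b) (c := 0) (by rw [z_zero hc, mul_one]; exact h1)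
    rw [mem_bot, h2, y_zero hc]
  · apply le_antisymm
    · exact sup_le h.A_le (hYB.trans h.B_le)
    · intro s hs
      obtain ⟨a, ha, b, hb, rfl⟩ := h.prod s hs
      obtain ⟨c, d, rfl⟩ := (hc.mem_B b).1 hb
      have e : a * (y c * z d) = (a * z d) * y c := by
        have := h.B_comm _ (y_mem hc c) _ (z_mem_B hc d)
        rw [this]; group
      rw [e]
      exact mul_mem (mem_sup_left (mul_mem ha (z_mem_A hc d))) (mem_sup_right ⟨c, rfl⟩)

end Cfsg.Agent.H308.LFour
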