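import Mathlib
import Cfsg.Agent.H308.LFNorm

/-!
# `A` normal: `G` acts linearly on `A` (helper308)
-/

set_option autoImplicit false
set_option linter.unusedSectionVars false

namespace Cfsg.Agent.H308.LFour

open Subgroup Cfsg Cfsg.Agent.TypeL3 Cfsg.Agent.TypeL3.Local Cfsg.Agent.Lib.GoldschmidtFusion

variable {G : Type*} [Group G] [Finite G] {F : Type*} [Field F] [Fintype F] {A B : Subgroup G} {x y z : F → G}
  {S : Sylow 2 G}

/-- an element of `N(S)` normalising `x(F)` acts linearly -/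
theorem mem_linM_of_normalizer (hF : Fintype.card F = 4) (h : IsL3 (S : Subgroup G) A B (Fintype.card F))
    (hc : LThreeCoord A B x y z) {W : Subgroup G} (hW : ∀ g, g ∈ W ↔ ∃ a, g = x a) {k : G}
    (hkS : k ∈ normalizer ((S : Subgroup G) : Set G)) (hkW : k ∈ normalizer (W : Set G)) : k ∈ linM x z := by
  have hp2 : Fact (Nat.Prime 2) := ⟨Nat.prime_two⟩
  have hkZ := h.normalizer_le_Z hkS
  -- an odd power of `k` lies in `S`
  set m := (S : Subgroup G).relIndex (normalizer ((S : Subgroup G) : Set G)) with hm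
  have hmodd : ¬ 2 ∣ m := sylow_not_dvd_relIndex S Subgroup.le_normalizer
  have hmem : k ^ m ∈ (S : Subgroup G) := by
    have hN : ((S : Subgroup G).subgroupOf (normalizer ((S : Subgroup G) : Set G))).Normal :=
      Subgroup.normal_in_normalizer
    have h1 := Subgroup.pow_index_mem ((S : Subgroup G).subgroupOf (normalizer ((S : Subgroup G) : Set G)))
      (⟨k, hkS⟩ : normalizer ((S : Subgroup G) : Set G))
    rw [mem_subgroupOf] at h1
    exact h1
  have hmW : k ^ m ∈ normalizer (W : Set G) := Subgroup.pow_mem _ hkW m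
  -- so it lies in `A`
  have hmA : k ^ m ∈ A := by
    obtain ⟨a, ha, b, hb, e⟩ := h.prod _ hmem
    obtain ⟨c, d, rfl⟩ := (hc.mem_B b).1 hb
    rw [← e] at hmW ⊢
    have h1 : a * (y c * z d) * x 1 * (a * (y c * z d))⁻¹ = x 1 * z c := by
      have k1 := h.A_comm _ (z_mem_A hc d) _ (x_mem hc 1)
      have k2 := comm_xy h hc 1 c
      have k3 := h.A_comm _ ha _ (mul_mem (x_mem hc 1) (z_mem_A hc c))
      rw [one_mul] at k2
      calc a * (y c * z d) * x 1 * (a * (y c * z d))⁻¹ = a * (y c * (z d * x 1) * (z d)⁻¹ * (y c)⁻¹) * a⁻¹ := by group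
        _ = a * (y c * x 1 * (y c)⁻¹) * a⁻¹ := by rw [k1]; group
        _ = (a * (x 1 * z c)) * a⁻¹ := by rw [k2]
        _ = x 1 * z c := by rw [k3, mul_inv_cancel_right]
    have h2 : a * (y c * z d) * x 1 * (a * (y c * z d))⁻¹ ∈ W :=
      (mem_normalizer_iff.1 hmW _).1 ((hW _).2 ⟨1, rfl⟩)
    rw [h1] at h2
    obtain ⟨a', ha'⟩ := (hW _).1 h2
    have h3 := (inj_A h hc (a := 1) (c := c) (a' := a') (c' := 0) (by rw [ha', z_zero hc, mul_one])).2
    rw [h3, y_zero hc, one_mul]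
    exact mul_mem ha (z_mem_A hc d)
  refine diag_mem_linM hF h hc ?_ ?_ (Nat.not_even_iff_odd.1 (fun he => hmodd he.two_dvd)) (m := m) ?_
  · intro a
    have h1 : k * x a * k⁻¹ ∈ W := (mem_normalizer_iff.1 hkW _).1 ((hW _).2 ⟨a, rfl⟩)
    exact (hW _).1 h1
  · intro c
    have h1 : k * z c * k⁻¹ ∈ A ⊓ B := (mem_normalizer_iff.1 hkZ _).1 (z_mem hc c)
    exact (mem_Z h hc).1 h1
  · intro a ha
    rw [h.A_comm _ hmA a ha, mul_inv_cancel_right]

/-- the case `Z` normal: an invariant complement -/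
theorem exists_invariant (hO : pPrimeCore 2 G = ⊥) (hA : A.Normal) (h : IsL3 (S : Subgroup G) A B (Fintype.card F))
    (hc : LThreeCoord A B x y z) (hZ : (A ⊓ B).Normal) :
    ∃ K : Subgroup G, (∀ g : G, ∃ s ∈ (S : Subgroup G), ∃ k ∈ K, g = s * k) ∧ ∃ W : Subgroup G, W ≤ A ∧
      (A ⊓ B) ⊓ W = ⊥ ∧ (∀ a ∈ A, ∃ z ∈ A ⊓ B, ∃ w ∈ W, z * w = a) ∧ K ≤ normalizer (W : Set G) := by
  have hp2 : Fact (Nat.Prime 2) := ⟨Nat.prime_two⟩
  have hSn : (S : Subgroup G).Normal := by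
    rw [← normalizer_eq_top_iff, eq_top_iff]
    refine le_trans ?_ (normalizer_Z_le (F := F) hO hA h)
    rw [normalizer_eq_top_iff.2 hZ]
  have hcop : Nat.Coprime (Nat.card (S : Subgroup G)) (S : Subgroup G).index := by
    obtain ⟨n, hn⟩ := IsPGroup.iff_card.1 S.isPGroup'
    rw [hn]
    exact Nat.Coprime.pow_left n ((Nat.Prime.coprime_iff_not_dvd Nat.prime_two).2 S.not_dvd_index)
  obtain ⟨K, hK⟩ := exists_right_complement'_of_coprime hcop
  have hKodd : ¬ 2 ∣ Nat.card K := by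
    rw [← hK.symm.index_eq_card]
    exact S.not_dvd_index
  refine ⟨K, ?_, ?_⟩
  · intro g
    obtain ⟨⟨⟨a, ha⟩, ⟨b, hb⟩⟩, e⟩ := hK.surjective g
    exact ⟨a, ha, b, hb, e.symm⟩
  set U : Subgroup G := A ⊔ K with hU
  have hAU : A ≤ U := le_sup_left
  have hZA : A ⊓ B ≤ A := inf_le_left
  have hZn : ((A ⊓ B).subgroupOf U).Normal := inferInstance
  have hZc : IsMulCommutative ((A ⊓ B).subgroupOf U) := ⟨⟨fun a b => Subtype.ext (Subtype.ext
    (h.A_comm a (mem_inf.1 (mem_subgroupOf.1 a.2)).1 b (mem_inf.1 (mem_subgroupOf.1 b.2)).1))⟩⟩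
  let X0 : Subgroup G :=
    { carrier := {g | ∃ b, g = x b}
      one_mem' := ⟨0, (x_zero hc).symm⟩
      mul_mem' := by
        rintro _ _ ⟨a, rfl⟩ ⟨b, rfl⟩
        exact ⟨a + b, (hc.x_add a b).symm⟩
      inv_mem' := by
        rintro _ ⟨a, rfl⟩
        exact ⟨a, eq_inv_of_sq (h.A_sq _ (x_mem hc a))⟩ }
  have hX0A : X0 ≤ A := by
    rintro _ ⟨b, rfl⟩
    exact x_mem hc b
  obtain ⟨H, hH⟩ := Cfsg.Agent.S0051.result ((A ⊓ B).subgroupOf U) (A.subgroupOf U)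
    (Subgroup.comap_mono hZA) (by
      have h1 : A.relIndex U = A.relIndex K := by
        rw [hU]
        exact relIndex_sup_left _ _
      have h2 : ¬ 2 ∣ (A.subgroupOf U).index := by
        change ¬ 2 ∣ A.relIndex U
        rw [h1]
        exact fun h3 => hKodd (h3.trans (relIndex_dvd_card A K))
      have h3 : IsPGroup 2 ((A ⊓ B).subgroupOf U) := (S.isPGroup'.to_le h.Z_le).comap_subtype
      obtain ⟨n, hn⟩ := IsPGroup.iff_card.1 h3
      rw [hn]
      exact Nat.Coprime.pow_left n ((Nat.Prime.coprime_iff_not_dvd Nat.prime_two).2 h2))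
    (X0.subgroupOf U) (Subgroup.comap_mono hX0A) (by
      rw [eq_bot_iff]
      rintro g ⟨hg1, hg2⟩
      obtain ⟨b, hb⟩ := mem_subgroupOf.1 hg1
      have h1 : (g : G) ∈ A ⊓ B := mem_subgroupOf.1 hg2
      have h2 := x_mem_Z h hc (a := b) (c := 0) (by rw [z_zero hc, mul_one, ← hb]; exact h1)
      rw [h2, x_zero hc] at hb
      exact Subtype.ext hb) (by
      apply le_antisymm
      · exact sup_le (Subgroup.comap_mono hZA) (Subgroup.comap_mono hX0A)
      · intro g hg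
        obtain ⟨a, c, e⟩ := (hc.mem_A (g : G)).1 (mem_subgroupOf.1 hg)
        have hxU : x a ∈ U := hAU (x_mem hc a)
        have hzU : z c ∈ U := hAU (z_mem_A hc c)
        have e' : g = ⟨z c, hzU⟩ * ⟨x a, hxU⟩ := by
          apply Subtype.ext
          rw [e]
          exact h.A_comm _ (x_mem hc a) _ (z_mem_A hc c)
        rw [e']
        exact mul_mem (mem_sup_left (mem_subgroupOf.2 (z_mem hc c))) (mem_sup_right (mem_subgroupOf.2 ⟨a, rfl⟩)))
  have hdec : ∀ u ∈ U, ∃ ζ ∈ A ⊓ B, ∃ t ∈ H.map U.subtype, u = ζ * t := by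
    intro u hu
    obtain ⟨⟨⟨a, ha⟩, ⟨b, hb⟩⟩, e⟩ := hH.surjective (⟨u, hu⟩ : U)
    exact ⟨a, mem_subgroupOf.1 ha, b, ⟨b, hb, rfl⟩, (congrArg Subtype.val e).symm⟩
  have hdisj : ∀ g ∈ A ⊓ B, g ∈ H.map U.subtype → g = 1 := by
    rintro _ hg ⟨t, ht, rfl⟩
    have h1 := hH.disjoint.le_bot (mem_inf.2 ⟨mem_subgroupOf.2 hg, ht⟩)
    have h2 : t = 1 := mem_bot.1 h1
    rw [h2, map_one]
  refine ⟨H.map U.subtype ⊓ A, inf_le_right, ?_, ?_, ?_⟩
  · rw [eq_bot_iff]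
    rintro g ⟨hg1, hg2⟩
    exact mem_bot.2 (hdisj g hg1 (mem_inf.1 hg2).1)
  · intro a ha
    obtain ⟨ζ, hζ, t, ht, e⟩ := hdec a (hAU ha)
    refine ⟨ζ, hζ, t, mem_inf.2 ⟨ht, ?_⟩, e.symm⟩
    have : t = ζ⁻¹ * a := by rw [e]; group
    rw [this]
    exact mul_mem (inv_mem (mem_inf.1 hζ).1) ha
  · have hUn : ∀ u ∈ U, ∀ w ∈ H.map U.subtype ⊓ A, u * w * u⁻¹ ∈ H.map U.subtype ⊓ A := by
      intro u hu w hw
      obtain ⟨hw1, hw2⟩ := mem_inf.1 hw
      obtain ⟨ζ, hζ, t, ht, rfl⟩ := hdec u hu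
      have h1 : t * w * t⁻¹ ∈ A := hA.conj_mem w hw2 t
      have h2 := h.A_comm _ (mem_inf.1 hζ).1 _ h1
      have e : ζ * t * w * (ζ * t)⁻¹ = t * w * t⁻¹ := by
        calc ζ * t * w * (ζ * t)⁻¹ = (ζ * (t * w * t⁻¹)) * ζ⁻¹ := by group
          _ = _ := by rw [h2, mul_inv_cancel_right]
      rw [e]
      exact mem_inf.2 ⟨mul_mem (mul_mem ht hw1) (inv_mem ht), h1⟩
    intro k hk
    have hkU : k ∈ U := (le_sup_right : K ≤ U) hk
    rw [mem_normalizer_iff]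
    intro w
    refine ⟨hUn k hkU w, fun hw => ?_⟩
    have := hUn k⁻¹ (inv_mem hkU) _ hw
    have e : k⁻¹ * (k * w * k⁻¹) * k⁻¹⁻¹ = w := by group
    rwa [e] at this

end Cfsg.Agent.H308.LFour
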