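import Cfsg.Agent.H306.AB.Main
import Cfsg.Agent.H308.LFAut
import Cfsg.Agent.H308.LFComp2

/-!
# Sylow 2-subgroup of type `L₃(4)`: the case of a normal `PSL₃(4)` (helper308)
-/

set_option autoImplicit false
set_option linter.unusedSectionVars false
open Cfsg

namespace Cfsg.Agent.H308.LFour

open Subgroup Cfsg.Agent.Lib.GoldschmidtFusion
open Cfsg.Agent.SignalizersComponents
open Cfsg.Agent.SignalizersComponents.Components
open Cfsg.Agent.Walter
open scoped commutatorElement

universe u

theorem card_psp_sylow {F : Type*} [Field F] [Fintype F] (hF4 : Fintype.card F = 4) :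
    2 ^ 7 ∣ Nat.card (Cfsg.PSp 2 F) := by
  have h2 : Fact (Nat.Prime 2) := ⟨Nat.prime_two⟩
  have hF : Even (Fintype.card F) := by rw [hF4]; decide
  have h4 : 4 ≤ Fintype.card F := hF4.ge
  have : Finite (Matrix.symplecticGroup (Fin 2) F) := inferInstance
  have : Finite (Cfsg.PSp 2 F) := inferInstance
  obtain ⟨P0, hP0⟩ := H306.AB.Sp.exists_sylow hF h4
  have h3 := (TypeSpFour.Model.coords_psp hF h4).card_SS
  rw [← hP0, Nat.card_eq_fintype_card (α := F), hF4] at h3
  refine Dvd.dvd.trans ?_ (P0 : Subgroup (Cfsg.PSp 2 F)).card_subgroup_dvd_card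
  have h5 : Nat.card (P0 : Subgroup (Cfsg.PSp 2 F)) = 4 ^ 4 := h3
  rw [h5]
  norm_num

section

variable {G : Type u} [Group G] [Finite G] {A B : Subgroup G} {S : Sylow 2 G}

theorem relIndex_eq_four {S A B : Subgroup G} (h : TypeL3.IsL3 S A B 4) : A.relIndex S = 4 := by
  have h1 := H306.AB.Models.relIndex_of_prod h.A_le h.B_le h.S_le_normalizer_A h.prod
  have h2 := H306.AB.Models.card_inf_mul_relIndex (A := A) (B := B)
  rw [h.card_Z, h.card_B] at h2
  rw [h1]
  omega

theorem card_eq {S A B : Subgroup G} (h : TypeL3.IsL3 S A B 4) : Nat.card S = 2 ^ 6 := by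
  have h2 := H306.AB.Models.card_mul_relIndex h.A_le
  rw [h.card_A, relIndex_eq_four h] at h2
  rw [← h2]
  norm_num

theorem embedding_of_big {F : Type*} [Field F] [Fintype F] (hF : Fintype.card F = 4) (hO : pPrimeCore 2 G = ⊥)
    (h : TypeL3.IsL3 (S : Subgroup G) A B 4) (hB : H306.AB.Big (S : Subgroup G) A B) :
    ∃ f : G →* Matrix.GeneralLinearGroup (Fin 3) F ⧸ Subgroup.center (Matrix.GeneralLinearGroup (Fin 3) F),
      Function.Injective f := by
  have hp2 : Fact (Nat.Prime 2) := ⟨Nat.prime_two⟩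
  obtain ⟨F', i1, i2, hA1, hB1, L, hLn, hLq, hiso, hSL, hD, hnc⟩ := hB
  rw [relIndex_eq_four h] at hA1
  have hF' : Fintype.card F' = 4 := hA1.symm
  have hchar : CharP F' 2 := by
    have h1 : ((Fintype.card F' : ℕ) : F') = 0 := FiniteField.cast_card_eq_zero F'
    rw [hF'] at h1
    have h3 : (2 : F') * 2 = 0 := by
      have : ((4 : ℕ) : F') = 2 * 2 := by norm_num
      rw [← this]; exact h1
    have h2 : (2 : F') = 0 := by rcases mul_eq_zero.1 h3 with h | h <;> exact h
    exact CharTwo.of_one_ne_zero_of_two_eq_zero one_ne_zero h2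
  have hG : ¬ 2 ^ 7 ∣ Nat.card G := by
    intro h1
    have h2 := S.pow_dvd_card_of_pow_dvd_card h1
    rw [card_eq h] at h2
    norm_num at h2
  have hLG : Nat.card L ∣ Nat.card G := card_subgroup_dvd_card L
  have hQL : Nat.card (L ⧸ center L) * Nat.card (center L) = Nat.card L := by
    rw [mul_comm]
    exact (center L).card_mul_index
  rcases hiso with ⟨⟨e⟩⟩ | ⟨⟨e⟩⟩
  swap
  · exfalso
    apply hG
    refine ((card_psp_sylow hF').trans ?_).trans hLG
    rw [← Nat.card_congr e.toEquiv]
    exact Dvd.intro _ hQL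
  have h6 : 2 ^ 6 ∣ Nat.card (L ⧸ center L) := by
    rw [Nat.card_congr e.toEquiv]
    obtain ⟨P⟩ : Nonempty (Sylow 2 (Matrix.ProjectiveSpecialLinearGroup (Fin 3) F')) := inferInstance
    obtain ⟨e'⟩ := SylowL.SylowPSL.sylow_equiv 2 P
    obtain ⟨A', B', x, y, z, h', -⟩ := TypeL3.exists_isL3 e'
    rw [hF'] at h'
    have h7 := card_eq h'
    rw [← h7]
    exact (P : Subgroup (Matrix.ProjectiveSpecialLinearGroup (Fin 3) F')).card_subgroup_dvd_card
  have hZodd : ¬ 2 ∣ Nat.card (center L) := by
    intro h1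
    apply hG
    refine Dvd.dvd.trans ?_ hLG
    rw [← hQL, pow_succ]
    exact mul_dvd_mul h6 h1
  have hidx : ¬ 2 ∣ L.index := by
    intro h1
    apply hG
    rw [← L.card_mul_index, pow_succ]
    refine mul_dvd_mul ?_ h1
    rw [← hQL]
    exact h6.mul_right _
  have hCn : (centralizer (L : Set G)).Normal := inferInstance
  have hC : centralizer (L : Set G) = ⊥ := by
    rw [eq_bot_iff, ← hO]
    refine Lib.Cores.le_pPrimeCore hCn ?_
    rw [Nat.coprime_comm, Nat.Prime.coprime_iff_not_dvd Nat.prime_two]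
    have h1 := H306.AB.Models.card_inf_mul_relIndex (A := L) (B := centralizer (L : Set G))
    rw [← h1, Nat.prime_two.dvd_mul, not_or]
    constructor
    · intro h2
      apply hZodd
      refine h2.trans ?_
      have h3 : Nat.card (L ⊓ centralizer (L : Set G) : Subgroup G) =
          Nat.card ((L ⊓ centralizer (L : Set G)).subgroupOf L) :=
        (Nat.card_congr (subgroupOfEquivOfLe inf_le_left).toEquiv).symm
      rw [h3]
      apply card_dvd_of_le
      intro x hx
      rw [mem_center_iff]
      intro y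
      exact Subtype.ext (mem_centralizer_iff.1 (mem_inf.1 (mem_subgroupOf.1 hx)).2 y y.2)
    · intro h2
      apply hidx
      refine h2.trans ?_
      have h3 : L.relIndex (L ⊔ centralizer (L : Set G)) = L.relIndex (centralizer (L : Set G)) := relIndex_sup_left _ _
      rw [← h3]
      exact relIndex_dvd_index_of_normal _ _
  have hZ : center L = ⊥ := by
    rw [eq_bot_iff]
    intro z hz
    have h1 : (z : G) ∈ centralizer (L : Set G) := by
      rw [mem_centralizer_iff]
      intro l hl
      exact congrArg Subtype.val (mem_center_iff.1 hz ⟨l, hl⟩)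
    rw [hC] at h1
    exact Subtype.ext (mem_bot.1 h1)
  have e1 : L ≃* L ⧸ center L := (QuotientGroup.quotientBot (G := L)).symm.trans
    (QuotientGroup.quotientMulEquivOfEq hZ.symm)
  exact embedding_congr (hF'.trans hF.symm) (embedding_of_normal_psl hF' hLn hC hidx (e1.trans e))

end

end Cfsg.Agent.H308.LFour
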