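import Cfsg.Agent.H306.AB.Comp2
import Cfsg.Agent.TypeL3.Spread
import Cfsg.Agent.S0058
import Cfsg.Agent.Walter.PairsRot

/-!
# Sylow 2-subgroup of type `L₃(4)`: components with Sylow 2-subgroups inside `A` (helper308)
-/

set_option autoImplicit false
set_option linter.unusedSectionVars false
open Cfsg

namespace Cfsg.Agent.H308.LFour

open Subgroup Cfsg.Agent.Lib.GoldschmidtFusion
open Cfsg.Agent.SignalizersComponents
open Cfsg.Agent.SignalizersComponents.Components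
open Cfsg.Agent.Walter
open Cfsg.Agent.H306.AB (WalThm NoN)
open scoped commutatorElement

universe u

theorem toAB {G : Type*} [Group G] {S A B : Subgroup G} (h : TypeL3.IsAB S A B) : H306.AB.IsAB S A B :=
  ⟨h.A_le, h.B_le, h.prod, h.A_comm, h.B_comm, h.A_sq, h.B_sq, h.br, h.inv, h.centA, h.centB, h.neA, h.neB⟩

section

variable {G : Type u} [Group G] [Finite G] {A B : Subgroup G} {S : Sylow 2 G} {L N : Subgroup G}

/-- a second element of `B` -/
theorem exists_second (h : TypeL3.IsL3 (S : Subgroup G) A B 4) (b : G) :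
    ∃ b' ∈ B, b' ∉ A ∧ b * b' ∉ A := by
  by_contra hcon
  push Not at hcon
  have hsub : (B : Set G) ⊆ ((A ⊓ B : Subgroup G) : Set G) ∪ (B : Set G) ∩ {g | b * g ∈ A} := by
    intro g hg
    by_cases hgA : g ∈ A
    · exact Or.inl (mem_inf.2 ⟨hgA, hg⟩)
    · exact Or.inr ⟨hg, hcon g hg hgA⟩
  -- the second set is contained in a coset of `A ⊓ B`
  have h2 : ((B : Set G) ∩ {g | b * g ∈ A}).ncard ≤ ((A ⊓ B : Subgroup G) : Set G).ncard := by
    by_cases hne : ((B : Set G) ∩ {g | b * g ∈ A}).Nonempty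
    · obtain ⟨g₀, hg₀, hg₀A⟩ := hne
      refine Set.ncard_le_ncard_of_injOn (fun g => g₀⁻¹ * g) ?_ ?_ (Set.toFinite _)
      · rintro g ⟨hg, hgA⟩
        refine mem_inf.2 ⟨?_, mul_mem (inv_mem hg₀) hg⟩
        have hgA' : b * g ∈ A := hgA
        have hg₀A' : b * g₀ ∈ A := hg₀A
        have h3 := mul_mem (inv_mem hg₀A') hgA'
        have e : (b * g₀)⁻¹ * (b * g) = g₀⁻¹ * g := by group
        rwa [e] at h3
      · intro g _ g' _ e
        exact mul_left_cancel e
    · rw [Set.not_nonempty_iff_eq_empty.1 hne, Set.ncard_empty]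
      exact Nat.zero_le _
  have h3 : (B : Set G).ncard ≤ ((A ⊓ B : Subgroup G) : Set G).ncard + ((A ⊓ B : Subgroup G) : Set G).ncard :=
    (Set.ncard_le_ncard hsub (Set.toFinite _)).trans
      ((Set.ncard_union_le _ _).trans (Nat.add_le_add_left h2 _))
  have h4 : (B : Set G).ncard = 4 ^ 2 := h.card_B
  have h5 : ((A ⊓ B : Subgroup G) : Set G).ncard = 4 := h.card_Z
  omega

theorem comm_of_le (h : TypeL3.IsL3 (S : Subgroup G) A B 4) (hLA : (S : Subgroup G) ⊓ L ≤ A) :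
    ∀ x ∈ (S : Subgroup G) ⊓ L, ∀ y ∈ (S : Subgroup G) ⊓ L, x * y = y * x := fun x hx y hy =>
  h.A_comm x (hLA hx) y (hLA hy)

theorem A_le_normalizer (hO : pPrimeCore 2 G = ⊥) (h : TypeL3.IsL3 (S : Subgroup G) A B 4) (hL : IsComponent L)
    (hLA : (S : Subgroup G) ⊓ L ≤ A) : A ≤ normalizer (L : Set G) := by
  intro a ha
  by_contra hn
  have hL' : IsComponent (L.map (MulAut.conj a).toMonoidHom) := isComponent_conj a hL
  have hne : L.map (MulAut.conj a).toMonoidHom ≠ L := fun h1 =>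
    hn (BalanceAux.mem_normalizer_of_map_conj_eq h1)
  have h1 := component_le_centralizer_of_ne hL' hL hne
  apply AbStruct.inf_ne_bot hO S hL
  rw [eq_bot_iff]
  intro x hx
  have h2 : x ∈ L ⊓ centralizer (L : Set G) := by
    refine mem_inf.2 ⟨(mem_inf.1 hx).2, h1 ⟨x, (mem_inf.1 hx).2, ?_⟩⟩
    change a * x * a⁻¹ = x
    rw [h.A_comm a ha x (hLA hx), mul_inv_cancel_right]
  rw [H306.AB.inf_centralizer_eq_bot hO hL (comm_of_le h hLA)] at h2
  exact h2

theorem exists_inf (hO : pPrimeCore 2 G = ⊥) (S : Sylow 2 G) (hL : IsComponent L) :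
    ∃ x ∈ (S : Subgroup G) ⊓ L, x ≠ 1 := by
  by_contra hcon
  push Not at hcon
  exact AbStruct.inf_ne_bot hO S hL ((eq_bot_iff_forall _).2 hcon)

/-- an element of `B ∖ A` normalising `S ∩ L` centralises a nontrivial element of it, which lies in `Z` -/
theorem exists_fixed (hO : pPrimeCore 2 G = ⊥) (h : TypeL3.IsL3 (S : Subgroup G) A B 4) (hL : IsComponent L)
    (hLA : (S : Subgroup G) ⊓ L ≤ A) {b : G} (hb : b ∈ B) (hbA : b ∉ A) (hbL : b ∈ normalizer (L : Set G)) :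
    ∃ x ∈ (S : Subgroup G) ⊓ L, x ≠ 1 ∧ x ∈ A ⊓ B := by
  obtain ⟨x, hx, hx1⟩ := exists_inf hO S hL
  have hbS : b ∈ (S : Subgroup G) := h.B_le hb
  have hy : b * x * b⁻¹ ∈ (S : Subgroup G) ⊓ L :=
    mem_inf.2 ⟨mul_mem (mul_mem hbS (mem_inf.1 hx).1) (inv_mem hbS), (mem_normalizer_iff.1 hbL x).1 (mem_inf.1 hx).2⟩
  have hcB : ∀ w ∈ (S : Subgroup G) ⊓ L, b * w = w * b → w ∈ A ⊓ B := fun w hw hbw =>
    mem_inf.2 ⟨hLA hw, h.centB b hb hbA w (mem_inf.1 hw).1 hbw⟩
  have hbb := h.B_sq b hb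
  have hb' : b⁻¹ = b := TypeL3.eq_inv_of_sq hbb
  have hxx : x⁻¹ = x := TypeL3.eq_inv_of_sq (h.A_sq x (hLA hx))
  by_cases hw : x * (b * x * b⁻¹) = 1
  · refine ⟨x, hx, hx1, hcB x hx ?_⟩
    have h1 : b * x * b⁻¹ = x := (eq_inv_of_mul_eq_one_right hw).trans hxx
    calc b * x = (b * x * b⁻¹) * b := by group
      _ = x * b := by rw [h1]
  · refine ⟨_, mul_mem hx hy, hw, hcB _ (mul_mem hx hy) ?_⟩
    have h1 := h.A_comm x (hLA hx) _ (hLA hy)
    calc b * (x * (b * x * b⁻¹)) = (b * x * b⁻¹) * (b * b) * x * b⁻¹ := by group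
      _ = (b * x * b⁻¹) * x * b := by rw [hbb, hb', mul_one]
      _ = x * (b * x * b⁻¹) * b := by rw [h1]

theorem B_le_normalizer (hO : pPrimeCore 2 G = ⊥) (h : TypeL3.IsL3 (S : Subgroup G) A B 4) (hL : IsComponent L)
    (hLA : (S : Subgroup G) ⊓ L ≤ A) : B ≤ normalizer (L : Set G) := by
  intro b hb
  by_contra hn
  have hLC := H306.AB.inf_centralizer_eq_bot hO hL (comm_of_le h hLA)
  -- conjugates of `L` under elements not normalising `L` centralise `L`
  have hcj : ∀ g : G, g ∉ normalizer (L : Set G) → ∀ x ∈ L, g * x * g⁻¹ ∈ centralizer (L : Set G) := by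
    intro g hg x hx
    have hL' : IsComponent (L.map (MulAut.conj g).toMonoidHom) := isComponent_conj g hL
    have hne : L.map (MulAut.conj g).toMonoidHom ≠ L := fun h1 =>
      hg (BalanceAux.mem_normalizer_of_map_conj_eq h1)
    exact component_le_centralizer_of_ne hL' hL hne ⟨x, hx, rfl⟩
  have hkill : ∀ x ∈ L, x ∈ centralizer (L : Set G) → x = 1 := by
    intro x hx hxc
    have : x ∈ L ⊓ centralizer (L : Set G) := mem_inf.2 ⟨hx, hxc⟩
    rw [hLC] at this
    exact mem_bot.1 this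
  have claim1 : ∀ b' ∈ B, b' ∈ normalizer (L : Set G) → b' ∈ A := by
    intro b' hb' hb'L
    by_contra hb'A
    obtain ⟨x, hx, hx1, hxZ⟩ := exists_fixed hO h hL hLA hb' hb'A hb'L
    apply hx1
    apply hkill x (mem_inf.1 hx).2
    have h1 := hcj b hn x (mem_inf.1 hx).2
    rwa [← h.comm_Z hxZ (h.B_le hb), mul_inv_cancel_right] at h1
  have hbA : b ∉ A := fun hbA => hn (A_le_normalizer hO h hL hLA hbA)
  obtain ⟨b', hb', hb'A, hbb'A⟩ := exists_second h b
  obtain ⟨x, hx, hx1⟩ := exists_inf hO S hL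
  have hbb := h.B_sq b hb
  have hbi : b⁻¹ = b := TypeL3.eq_inv_of_sq hbb
  have hxA := hLA hx
  have hbS : b ∈ (S : Subgroup G) := h.B_le hb
  have hyA : b * x * b⁻¹ ∈ A := (mem_normalizer_iff.1 (h.S_le_normalizer_A hbS) x).1 hxA
  -- `w = x x^b ∈ Z`
  have hw : x * (b * x * b⁻¹) ∈ A ⊓ B := by
    refine mem_inf.2 ⟨mul_mem hxA hyA, h.centB b hb hbA _ (h.A_le (mul_mem hxA hyA)) ?_⟩
    have h1 := h.A_comm x hxA _ hyA
    calc b * (x * (b * x * b⁻¹)) = (b * x * b⁻¹) * (b * b) * x * b⁻¹ := by group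
      _ = (b * x * b⁻¹) * x * b := by rw [hbb, hbi, mul_one]
      _ = x * (b * x * b⁻¹) * b := by rw [h1]
  have hcz := h.comm_Z hw (h.B_le hb')
  have h1 : x = (b' * x * b'⁻¹) * (b' * b * x * (b' * b)⁻¹) * (b * x * b⁻¹)⁻¹ := by
    calc x = (x * (b * x * b⁻¹) * b') * b'⁻¹ * (b * x * b⁻¹)⁻¹ := by group
      _ = _ := by rw [hcz]; group
  apply hx1
  apply hkill x (mem_inf.1 hx).2
  rw [h1]
  have hxL := (mem_inf.1 hx).2
  have hb'b : b' * b ∉ normalizer (L : Set G) := by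
    intro h2
    have h3 := claim1 _ (mul_mem hb' hb) h2
    rw [h.B_comm b' hb' b hb] at h3
    exact hbb'A h3
  exact Subgroup.mul_mem _ (Subgroup.mul_mem _ (hcj b' (fun h2 => hb'A (claim1 b' hb' h2)) x hxL)
    (hcj _ hb'b x hxL)) (Subgroup.inv_mem _ (hcj b hn x hxL))

theorem S_le_normalizer (hO : pPrimeCore 2 G = ⊥) (h : TypeL3.IsL3 (S : Subgroup G) A B 4) (hL : IsComponent L)
    (hLA : (S : Subgroup G) ⊓ L ≤ A) : (S : Subgroup G) ≤ normalizer (L : Set G) := by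
  intro s hs
  obtain ⟨a, ha, b, hb, rfl⟩ := h.prod s hs
  exact mul_mem (A_le_normalizer hO h hL hLA ha) (B_le_normalizer hO h hL hLA hb)

/-- `N_L(S ∩ L)` normalises `Z ∩ L` -/
theorem normalizer_inf (hO : pPrimeCore 2 G = ⊥) (h : TypeL3.IsL3 (S : Subgroup G) A B 4) (hL : IsComponent L)
    (hLA : (S : Subgroup G) ⊓ L ≤ A) (hPZ : ¬ (S : Subgroup G) ⊓ L ≤ B) {n : G} (hn : n ∈ L)
    (hnP : n ∈ normalizer (((S : Subgroup G) ⊓ L : Subgroup G) : Set G)) {x : G} (hx : x ∈ (S : Subgroup G) ⊓ L)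
    (hxB : x ∈ B) : n * x * n⁻¹ ∈ B := by
  have hp2 : Fact (Nat.Prime 2) := ⟨Nat.prime_two⟩
  set P : Subgroup G := (S : Subgroup G) ⊓ L with hP
  have hSn := S_le_normalizer hO h hL hLA
  have hSP : (S : Subgroup G) ≤ normalizer (P : Set G) := by
    intro s hs
    rw [mem_normalizer_iff]
    intro w
    rw [hP, mem_inf, mem_inf, ← mem_normalizer_iff.1 (hSn hs) w,
      ← mem_normalizer_iff.1 (Subgroup.le_normalizer hs) w]
  have hBP : B ≤ normalizer (P : Set G) := h.B_le.trans hSP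
  let Θ := P.normalizerMonoidHom
  have hΘ : ∀ (g : normalizer (P : Set G)) (w : P), ((Θ g w : P) : G) = g * w * (g : G)⁻¹ := fun g w => rfl
  let T : Subgroup (MulAut P) := (B.subgroupOf (normalizer (P : Set G))).map Θ
  let Q : Subgroup (MulAut P) := ((L ⊓ normalizer (P : Set G)).subgroupOf (normalizer (P : Set G))).map Θ
  -- the elements of `B ∖ A` act nontrivially
  have hnontriv : ∀ b, (hb : b ∈ B) → b ∉ A → Θ ⟨b, hBP hb⟩ ≠ 1 := by
    intro b hb hbA h1
    apply hPZ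
    intro w hw
    refine h.centB b hb hbA w (mem_inf.1 hw).1 ?_
    have h2 := congrArg Subtype.val (DFunLike.congr_fun h1 ⟨w, hw⟩)
    rw [hΘ] at h2
    change b * w * b⁻¹ = w at h2
    calc b * w = (b * w * b⁻¹) * b := by group
      _ = w * b := by rw [h2]
  have hTc : IsMulCommutative T := by
    refine ⟨⟨?_⟩⟩
    rintro ⟨_, ⟨b, hb, rfl⟩⟩ ⟨_, ⟨b', hb', rfl⟩⟩
    apply Subtype.ext
    change Θ b * Θ b' = Θ b' * Θ b
    rw [← map_mul, ← map_mul]
    congr 1
    exact Subtype.ext (h.B_comm _ (mem_subgroupOf.1 hb) _ (mem_subgroupOf.1 hb'))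
  have hTsq : ∀ t ∈ T, t * t = 1 := by
    rintro _ ⟨b, hb, rfl⟩
    rw [← map_mul]
    have : b * b = 1 := Subtype.ext (h.B_sq _ (mem_subgroupOf.1 hb))
    rw [this, map_one]
  have hTn : ¬ IsCyclic T := by
    intro hcyc
    obtain ⟨b, hb, hbA⟩ := h.neB
    obtain ⟨b', hb', hb'A, hbb'A⟩ := exists_second h b
    obtain ⟨g, hg⟩ := hcyc.exists_generator
    have hgg : g * g = 1 := Subtype.ext (hTsq g g.2)
    have hall : ∀ t : T, t = 1 ∨ t = g := by
      intro t
      obtain ⟨k, hk⟩ := mem_zpowers_iff.1 (hg t)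
      rcases Int.even_or_odd' k with ⟨m, hm | hm⟩
      · left
        rw [← hk, hm, zpow_mul, zpow_two, hgg, one_zpow]
      · right
        rw [← hk, hm, zpow_add, zpow_mul, zpow_two, hgg, one_zpow, one_mul, zpow_one]
    let t1 : T := ⟨Θ ⟨b, hBP hb⟩, ⟨_, mem_subgroupOf.2 hb, rfl⟩⟩
    let t2 : T := ⟨Θ ⟨b', hBP hb'⟩, ⟨_, mem_subgroupOf.2 hb', rfl⟩⟩
    have ht1 : t1 = g := (hall t1).resolve_left fun h1 => hnontriv b hb hbA (congrArg Subtype.val h1)
    have ht2 : t2 = g := (hall t2).resolve_left fun h1 => hnontriv b' hb' hb'A (congrArg Subtype.val h1)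
    have h12 : t1 * t2 = 1 := by rw [ht1, ht2, hgg]
    apply hnontriv (b * b') (mul_mem hb hb') hbb'A
    have h3 := congrArg Subtype.val h12
    change Θ ⟨b, hBP hb⟩ * Θ ⟨b', hBP hb'⟩ = 1 at h3
    rw [← map_mul] at h3
    exact h3
  have hTQ : T ≤ normalizer (Q : Set (MulAut P)) := by
    have key : ∀ t ∈ T, ∀ q ∈ Q, t * q * t⁻¹ ∈ Q := by
      rintro _ ⟨b, hb, rfl⟩ _ ⟨m, hm, rfl⟩
      refine ⟨b * m * b⁻¹, ?_, by rw [map_mul, map_mul, map_inv]⟩
      have hbB : (b : G) ∈ B := mem_subgroupOf.1 hb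
      have hmm := mem_inf.1 (mem_subgroupOf.1 hm)
      refine mem_subgroupOf.2 (mem_inf.2 ⟨?_, (b * m * b⁻¹).2⟩)
      exact (mem_normalizer_iff.1 (hSn (h.B_le hbB)) _).1 hmm.1
    intro t ht
    rw [mem_normalizer_iff]
    intro q
    refine ⟨key t ht q, fun hq => ?_⟩
    have h1 := key t⁻¹ (inv_mem ht) _ hq
    have e : t⁻¹ * (t * q * t⁻¹) * t⁻¹⁻¹ = q := by group
    rwa [e] at h1
  have hTp : IsPGroup 2 T := (S.isPGroup'.to_le h.B_le).comap_subtype.map Θ
  have hQodd : ¬ 2 ∣ Nat.card Q := by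
    -- `P` acts trivially on `P`
    have h1 : Nat.card Q = (Θ.ker).relIndex ((L ⊓ normalizer (P : Set G)).subgroupOf (normalizer (P : Set G))) :=
      (relIndex_ker _ _).symm
    have hPk : P.subgroupOf (normalizer (P : Set G)) ≤ Θ.ker := by
      intro w hw
      rw [MonoidHom.mem_ker]
      apply MulEquiv.ext
      intro v
      apply Subtype.ext
      rw [hΘ]
      change (w : G) * v * (w : G)⁻¹ = v
      rw [h.A_comm _ (hLA (mem_subgroupOf.1 hw)) _ (hLA v.2), mul_inv_cancel_right]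
    have h2 := relIndex_dvd_of_le_left ((L ⊓ normalizer (P : Set G)).subgroupOf (normalizer (P : Set G))) hPk
    rw [relIndex_subgroupOf inf_le_right, ← h1] at h2
    have h3 : P.relIndex (L ⊓ normalizer (P : Set G)) ∣ P.relIndex L :=
      Dvd.intro _ (relIndex_mul_relIndex P _ L (le_inf inf_le_right Subgroup.le_normalizer) inf_le_left)
    have h4 : P.relIndex L = (S : Subgroup G).relIndex L := inf_relIndex_right _ _
    intro h5
    apply H306.AB.relIndex_component_odd S hL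
    rw [← h4]
    exact (h5.trans h2).trans h3
  have hcop : (Nat.card T).Coprime (Nat.card Q) := by
    obtain ⟨k, hk⟩ := IsPGroup.iff_card.1 hTp
    rw [hk]
    exact Nat.Coprime.pow_left k ((Nat.Prime.coprime_iff_not_dvd Nat.prime_two).2 hQodd)
  have hgen := Cfsg.Agent.S0058.result T Q hTn hTQ hcop
  -- the stabiliser of `Z ∩ P`
  let D : Subgroup (MulAut P) :=
    { carrier := {q | ∀ w : P, (w : G) ∈ B ↔ ((q w : P) : G) ∈ B}
      one_mem' := fun w => Iff.rfl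
      mul_mem' := by
        intro q q' hq hq' w
        rw [MulAut.mul_apply, ← hq (q' w), ← hq' w]
      inv_mem' := by
        intro q hq w
        rw [hq (q⁻¹ w), MulAut.apply_inv_self] }
  have hQD : Q ≤ D := by
    rw [← hgen]
    refine iSup_le fun t => iSup_le fun ht => ?_
    obtain ⟨ht, ht1⟩ := ht
    obtain ⟨b, hb, rfl⟩ := ht
    have hbB : (b : G) ∈ B := mem_subgroupOf.1 hb
    have hbA : (b : G) ∉ A := by
      intro hbA
      apply ht1
      apply MulEquiv.ext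
      intro w
      apply Subtype.ext
      rw [hΘ]
      change (b : G) * w * (b : G)⁻¹ = w
      rw [h.A_comm _ hbA _ (hLA w.2), mul_inv_cancel_right]
    have key : ∀ q : MulAut P, Θ b * q = q * Θ b → ∀ w : P, (w : G) ∈ B → ((q w : P) : G) ∈ B := by
      intro q hq w hw
      refine h.centB b hbB hbA _ (mem_inf.1 (q w).2).1 ?_
      have h1 : Θ b w = w := by
        apply Subtype.ext
        rw [hΘ, h.B_comm _ hbB _ hw, mul_inv_cancel_right]
      have h2 := DFunLike.congr_fun hq w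
      rw [MulAut.mul_apply, MulAut.mul_apply, h1] at h2
      have h3 := congrArg Subtype.val h2
      rw [hΘ] at h3
      calc (b : G) * ((q w : P) : G) = ((b : G) * (q w : P) * (b : G)⁻¹) * b := by group
        _ = _ := by rw [h3]
    intro q hq
    have hqc : Θ b * q = q * Θ b := (mem_centralizer_singleton_iff.1 (mem_inf.1 hq).2).symm
    intro w
    refine ⟨key q hqc w, fun hw => ?_⟩
    have h1 := key q⁻¹ (by
      calc Θ b * q⁻¹ = q⁻¹ * (q * Θ b) * q⁻¹ := by group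
        _ = q⁻¹ * Θ b := by rw [← hqc]; group) _ hw
    rwa [MulAut.inv_apply_self] at h1
  have h1 : Θ ⟨n, hnP⟩ ∈ D := hQD ⟨⟨n, hnP⟩, mem_subgroupOf.2 (mem_inf.2 ⟨hn, hnP⟩), rfl⟩
  exact (h1 ⟨x, hx⟩).1 hxB

end

end Cfsg.Agent.H308.LFour
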