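import Mathlib
import Cfsg.Agent.H308.LFAct

/-!
# `A` normal: the embedding (helper308)
-/

set_option autoImplicit false
set_option linter.unusedSectionVars false

namespace Cfsg.Agent.H308.LFour

open Subgroup Cfsg Cfsg.Agent.TypeL3 Cfsg.Agent.TypeL3.Local Cfsg.Agent.Lib.GoldschmidtFusion

variable {G : Type*} [Group G] [Finite G] {F : Type*} [Field F] [Fintype F] {A B : Subgroup G} {x y z : F → G}
  {S : Sylow 2 G}

/-- the case `Z` not normal -/
theorem linM_of_not_normal (hF : Fintype.card F = 4) (hO : pPrimeCore 2 G = ⊥) (hA : A.Normal)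
    (h : IsL3 (S : Subgroup G) A B (Fintype.card F)) {n₀ : G} (hc : LThreeCoord A B x y z)
    (hinf : (A ⊓ B) ⊓ (A ⊓ B).map (MulAut.conj n₀).toMonoidHom = ⊥)
    (hW : ∀ g, g ∈ (A ⊓ B).map (MulAut.conj n₀).toMonoidHom ↔ ∃ a, g = x a) (g : G) : g ∈ linM x z := by
  have hall : ∀ n : G, n ∈ normalizer (A : Set G) := fun n => by
    rw [normalizer_eq_top_iff.2 hA]; trivial
  have hwz : ∀ a : F, n₀⁻¹ * x a * n₀ ∈ A ⊓ B := by
    intro a
    rw [← mem_map_conj]
    exact (hW _).2 ⟨a, rfl⟩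
  have hz1 : ∀ c : F, c ≠ 0 → z c ≠ 1 := by
    intro c hc0 h1
    exact hc0 (z_inj h hc (by rw [h1, z_zero hc]))
  have hz2 : ∀ c : F, (z c)⁻¹ = z c := fun c => eq_inv_of_sq (h.A_sq _ (z_mem_A hc c))
  -- `N(Z)`
  have hNZ : ∀ g : G, g ∈ normalizer ((A ⊓ B : Subgroup G) : Set G) → g ∈ linM x z := by
    intro g hg
    obtain ⟨a, c, e⟩ := (hc.mem_A (g * x 1 * g⁻¹)).1 (hA.conj_mem _ (x_mem hc 1) g)
    have ha0 : a ≠ 0 := by
      intro ha
      rw [ha, x_zero hc, one_mul] at e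
      have h1 : g * x 1 * g⁻¹ ∈ A ⊓ B := by rw [e]; exact z_mem hc c
      have h2 : x 1 ∈ A ⊓ B := (mem_normalizer_iff.1 hg _).2 h1
      exact one_ne_zero (x_mem_Z h hc (a := 1) (c := 0) (by rw [z_zero hc, mul_one]; exact h2))
    have h1 : y (c / a) * x a * (y (c / a))⁻¹ = x a * z c := by
      rw [comm_xy h hc]
      congr 2
      field_simp
    set k := (y (c / a))⁻¹ * g with hk
    have hkx : k * x 1 * k⁻¹ = x a := by
      calc k * x 1 * k⁻¹ = (y (c / a))⁻¹ * (g * x 1 * g⁻¹) * y (c / a) := by rw [hk]; group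
        _ = (y (c / a))⁻¹ * (y (c / a) * x a * (y (c / a))⁻¹) * y (c / a) := by rw [e, h1]
        _ = x a := by group
    have hn : n₀⁻¹ * k * n₀ ∈ normalizer ((A ⊓ B : Subgroup G) : Set G) := by
      refine h.ti (hall _) (hwz 1) ?_ ?_
      · intro h2
        have h3 : x 1 = n₀ * (n₀⁻¹ * x 1 * n₀) * n₀⁻¹ := by group
        rw [h2, mul_one, mul_inv_cancel] at h3
        exact one_ne_zero (inj_A h hc (a := 1) (c := 0) (a' := 0) (c' := 0) (by rw [h3, x_zero hc])).1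
      · have e2 : n₀⁻¹ * k * n₀ * (n₀⁻¹ * x 1 * n₀) * (n₀⁻¹ * k * n₀)⁻¹ = n₀⁻¹ * (k * x 1 * k⁻¹) * n₀ := by group
        rw [e2, hkx]
        exact hwz a
    have hkW : k ∈ normalizer (((A ⊓ B).map (MulAut.conj n₀).toMonoidHom : Subgroup G) : Set G) := by
      rw [mem_normalizer_iff_map_conj, map_conj_map_conj]
      have h2 := mem_normalizer_iff_map_conj.1 hn
      have h3 := congrArg (fun D : Subgroup G => D.map (MulAut.conj n₀).toMonoidHom) h2
      simp only [map_conj_map_conj] at h3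
      rw [← h3]
      congr 3
      group
    have hyS : y (c / a) ∈ (S : Subgroup G) := h.B_le (y_mem hc _)
    have hkZ : k ∈ normalizer ((A ⊓ B : Subgroup G) : Set G) := mul_mem (inv_mem (h.S_le_normalizer_Z hyS)) hg
    have hkS := normalizer_Z_le (F := F) hO hA h hkZ
    have h4 := mem_linM_of_normalizer hF h hc hW hkS hkW
    have e3 : g = y (c / a) * k := by rw [hk]; group
    rw [e3]
    exact mul_mem (y_mem_linM h hc _) h4
  -- the conjugate of `B`
  have hT : ∀ b ∈ B, n₀ * b * n₀⁻¹ ∈ linM x z := by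
    intro b hb
    set t := n₀ * b * n₀⁻¹ with ht
    have htx : ∀ a, t * x a * t⁻¹ = x a := by
      intro a
      have h1 := h.B_comm b hb _ (mem_inf.1 (hwz a)).2
      calc t * x a * t⁻¹ = n₀ * (b * (n₀⁻¹ * x a * n₀)) * b⁻¹ * n₀⁻¹ := by rw [ht]; group
        _ = x a := by rw [h1]; group
    have htz : ∀ c, ∃ a, t * z c * t⁻¹ = x a * z c := by
      intro c
      have h1 : n₀⁻¹ * z c * n₀ ∈ A := by
        have := hA.conj_mem _ (z_mem_A hc c) n₀⁻¹
        rwa [inv_inv] at this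
      have h2 := h.comm_mem (h.B_le hb) (h.A_le h1)
      have h3 : n₀ * (b * (n₀⁻¹ * z c * n₀) * b⁻¹ * (n₀⁻¹ * z c * n₀)⁻¹) * n₀⁻¹ ∈
          (A ⊓ B).map (MulAut.conj n₀).toMonoidHom := conj_mem_map_conj h2 n₀
      obtain ⟨a, ha⟩ := (hW _).1 h3
      refine ⟨a, ?_⟩
      rw [← ha, ht]
      group
    choose φ hφ using htz
    obtain ⟨κ, hκ⟩ : ∃ κ, ∀ c, φ c = κ * c := by
      by_cases hφ0 : ∀ c, φ c = 0
      · exact ⟨0, fun c => by rw [hφ0, zero_mul]⟩
      push Not at hφ0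
      obtain ⟨c₁, hc₁⟩ := hφ0
      have hc₁0 : c₁ ≠ 0 := by
        rintro rfl
        have h1 := hφ 0
        rw [z_zero hc, mul_one, mul_one, mul_inv_cancel] at h1
        exact hc₁ (inj_A h hc (a := φ 0) (c := 0) (a' := 0) (c' := 0) (by rw [← h1, x_zero hc])).1
      set β := c₁ / φ c₁ with hβ
      have hβ0 : β ≠ 0 := div_ne_zero hc₁0 hc₁
      have h1 : y β * x (φ c₁) * (y β)⁻¹ = x (φ c₁) * z c₁ := by
        rw [comm_xy h hc]
        congr 2
        rw [hβ]; field_simp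
      have hn : (y β * n₀)⁻¹ * t ∈ normalizer ((A ⊓ B : Subgroup G) : Set G) := by
        refine h.ti (hall _) (z_mem hc c₁) (hz1 _ hc₁0) ?_
        have e1 : (y β * n₀)⁻¹ * t * z c₁ * ((y β * n₀)⁻¹ * t)⁻¹ =
            n₀⁻¹ * ((y β)⁻¹ * (t * z c₁ * t⁻¹) * y β) * n₀ := by group
        rw [e1, hφ, ← h1]
        have e2 : n₀⁻¹ * ((y β)⁻¹ * (y β * x (φ c₁) * (y β)⁻¹) * y β) * n₀ = n₀⁻¹ * x (φ c₁) * n₀ := by group
        rw [e2]
        exact hwz _
      refine ⟨β⁻¹, fun c => ?_⟩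
      have h2 := (mem_normalizer_iff.1 hn _).1 (z_mem hc c)
      have h3 := conj_mem_map_conj h2 n₀
      obtain ⟨a, ha⟩ := (hW _).1 h3
      have h4 : t * z c * t⁻¹ = x a * z (a * β) := by
        rw [← comm_xy h hc, ← ha]
        group
      rw [hφ] at h4
      obtain ⟨h5, h6⟩ := inj_A h hc h4
      rw [h5, h6]
      field_simp
    refine ⟨1, κ, 0, 1, fun a c => ?_⟩
    calc t * (x a * z c) * t⁻¹ = (t * x a * t⁻¹) * (t * z c * t⁻¹) := by group
      _ = x a * x (κ * c) * z c := by rw [htx, hφ, hκ]; group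
      _ = _ := by rw [← hc.x_add]; congr 2 <;> ring
  -- elements with nonzero last coordinate
  have key : ∀ g : G, ∀ a c : F, g * z 1 * g⁻¹ = x a * z c → c ≠ 0 → g ∈ linM x z := by
    intro g a c e hc0
    have h1 : n₀⁻¹ * z c * n₀ ∈ A := by
      have := hA.conj_mem _ (z_mem_A hc c) n₀⁻¹
      rwa [inv_inv] at this
    have h2 : n₀⁻¹ * z c * n₀ ∉ B := by
      intro h3
      have h4 : z c ∈ (A ⊓ B) ⊓ (A ⊓ B).map (MulAut.conj n₀).toMonoidHom :=
        mem_inf.2 ⟨z_mem hc c, mem_map_conj.2 (mem_inf.2 ⟨h1, h3⟩)⟩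
      rw [hinf, mem_bot] at h4
      exact hz1 c hc0 h4
    obtain ⟨b, hb, hbe⟩ := h.exists_conj_mul h1 h2 (hwz a)
    set t := n₀ * b * n₀⁻¹ with ht
    have h3 : t * z c * t⁻¹ = x a * z c := by
      calc t * z c * t⁻¹ = n₀ * (b * (n₀⁻¹ * z c * n₀) * b⁻¹) * n₀⁻¹ := by rw [ht]; group
        _ = x a * z c := by rw [hbe]; group
    have hn : t⁻¹ * g ∈ normalizer ((A ⊓ B : Subgroup G) : Set G) := by
      refine h.ti (hall _) (z_mem hc 1) (hz1 _ one_ne_zero) ?_
      have e1 : t⁻¹ * g * z 1 * (t⁻¹ * g)⁻¹ = t⁻¹ * (g * z 1 * g⁻¹) * t := by group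
      rw [e1, e, ← h3]
      have e2 : t⁻¹ * (t * z c * t⁻¹) * t = z c := by group
      rw [e2]
      exact z_mem hc c
    have e3 : g = t * (t⁻¹ * g) := by group
    rw [e3]
    exact mul_mem (hT b hb) (hNZ _ hn)
  obtain ⟨a, c, e⟩ := (hc.mem_A (g * z 1 * g⁻¹)).1 (hA.conj_mem _ (z_mem_A hc 1) g)
  by_cases hc0 : c = 0
  · subst hc0
    rw [z_zero hc, mul_one] at e
    have ha0 : a ≠ 0 := by
      rintro rfl
      rw [x_zero hc] at e
      apply hz1 1 one_ne_zero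
      calc z 1 = g⁻¹ * (g * z 1 * g⁻¹) * g := by group
        _ = 1 := by rw [e]; group
    have h1 : y 1 * g ∈ linM x z := by
      refine key _ a a ?_ ha0
      calc y 1 * g * z 1 * (y 1 * g)⁻¹ = y 1 * (g * z 1 * g⁻¹) * (y 1)⁻¹ := by group
        _ = x a * z a := by rw [e, comm_xy h hc, mul_one]
    have e2 : g = (y 1)⁻¹ * (y 1 * g) := by group
    rw [e2]
    exact mul_mem (inv_mem_linM (y_mem_linM h hc 1)) h1
  · exact key g a c e hc0

/-- **the embedding when `A` is normal** -/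
theorem embedding_of_normal (hF : Fintype.card F = 4) (hO : pPrimeCore 2 G = ⊥) (hA : A.Normal)
    (h : IsL3 (S : Subgroup G) A B (Fintype.card F)) (hc : LThreeCoord A B x y z) :
    ∃ f : G →* Matrix.GeneralLinearGroup (Fin 3) F ⧸ Subgroup.center (Matrix.GeneralLinearGroup (Fin 3) F),
      Function.Injective f := by
  obtain ⟨H, hH⟩ := exists_complement hA h hc
  have hcen : ∀ g : G, (∀ a ∈ A, g * a = a * g) → g ∈ A := fun g hg => mem_of_comm (F := F) hO hA h hg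
  by_cases hZ : (A ⊓ B).Normal
  · obtain ⟨K, hK, W, hWA, hWZ, hcov, hKW⟩ := exists_invariant hO hA h hc hZ
    obtain ⟨x', hc', hW⟩ := exists_coord h hc hWA hWZ hcov
    have hNS : normalizer ((S : Subgroup G) : Set G) = ⊤ := by
      rw [eq_top_iff]
      refine le_trans ?_ (normalizer_Z_le (F := F) hO hA h)
      rw [normalizer_eq_top_iff.2 hZ]
    refine exists_embedding h hc' ?_ hcen hH
    intro g
    obtain ⟨s, hs, k, hk, rfl⟩ := hK g
    refine mul_mem (S_mem_linM h hc' hs) (mem_linM_of_normalizer hF h hc' hW ?_ (hKW hk))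
    rw [hNS]; trivial
  · have hN : ¬ normalizer (A : Set G) ≤ normalizer ((A ⊓ B : Subgroup G) : Set G) := by
      intro h1
      rw [normalizer_eq_top_iff.2 hA, top_le_iff, normalizer_eq_top_iff] at h1
      exact hZ h1
    obtain ⟨n₀, hn₀, hn₀Z, hcov, hinf⟩ := h.cover hN
    have hWA : (A ⊓ B).map (MulAut.conj n₀).toMonoidHom ≤ A := by
      rintro _ ⟨a, ha, rfl⟩
      exact hA.conj_mem _ (mem_inf.1 ha).1 n₀
    obtain ⟨x', hc', hW⟩ := exists_coord h hc hWA hinf hcov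
    exact exists_embedding h hc' (linM_of_not_normal hF hO hA h hc' hinf hW) hcen hH

end Cfsg.Agent.H308.LFour
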