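import Cfsg.Agent.H412.Tc.HeisDefs

/-!
# S3621, lemma Dual

A linear automorphism which commutes with every element of `B` up to scalars and agrees with an
element of `B` at every vector lies in `B`.
-/

set_option autoImplicit false

namespace Cfsg.Agent.H308.TcDual

open Cfsg.Agent.H412.Tc

universe u

section

variable {K V : Type*} [Field K] [AddCommGroup V] [Module K V] {B : Subgroup (GV V)} {r : ℕ}

/-- The character of `B` given by the scalar commutators with `a`. -/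
noncomputable def chi [Nontrivial V] (hB : Heis K V r B) (a : GV V)
    (h : ∀ b ∈ B, ∃ c : Kˣ, CC c b a) : ↥B →* Kˣ where
  toFun b := (h b b.2).choose
  map_one' := (h 1 B.one_mem).choose_spec.unique (cc_one_iff.2 (by rw [one_mul, mul_one]))
  map_mul' x y := (h (x * y) (B.mul_mem x.2 y.2)).choose_spec.unique
    (CC.mul_left (hB.linb x.2) (h x x.2).choose_spec (h y y.2).choose_spec)

theorem chi_spec [Nontrivial V] (hB : Heis K V r B) (a : GV V)
    (h : ∀ b ∈ B, ∃ c : Kˣ, CC c b a) (b : ↥B) : CC (chi hB a h b) (b : GV V) a :=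
  (h b b.2).choose_spec

theorem chi_unique [Nontrivial V] (hB : Heis K V r B) (a : GV V)
    (h : ∀ b ∈ B, ∃ c : Kˣ, CC c b a) (b : ↥B) {c : Kˣ} (hc : CC c (b : GV V) a) :
    chi hB a h b = c := (chi_spec hB a h b).unique hc

/-- The scalars in `B`. -/
def Zs (K : Type*) {V : Type*} [Field K] [AddCommGroup V] [Module K V]
    (B : Subgroup (GV V)) : Subgroup ↥B := (scal K V).range.subgroupOf B

theorem mem_Zs {x : ↥B} : x ∈ Zs K B ↔ ∃ c : Kˣ, scal K V c = (x : GV V) := Iff.rfl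

theorem Zs_normal (hB : Heis K V r B) : (Zs K B).Normal := by
  refine ⟨fun x hx g => ?_⟩
  obtain ⟨c, hc⟩ := mem_Zs.1 hx
  refine mem_Zs.2 ⟨c, ?_⟩
  change scal K V c = (g : GV V) * x * (g : GV V)⁻¹
  rw [← hc, (hB.linb g.2).scal_comm, mul_inv_cancel_right]

end

section

variable {K V : Type u} [Field K] [Finite K] [AddCommGroup V] [Finite V] [Module K V]
  {A B : Subgroup (GV V)} {r : ℕ}

omit [Finite K] in
theorem exists_eq [Nontrivial V] (hB : Heis K V r B) (hns : ∃ b ∈ B, ∀ c : Kˣ, b ≠ scal K V c)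
    (y : GV V) (hy : Lin K y) (hcc : ∀ b ∈ B, ∃ c : Kˣ, CC c b y) :
    ∃ a ∈ B, ∀ b ∈ B, ∀ c : Kˣ, CC c b y → CC c b a := by
  classical
  have hN := Zs_normal (K := K) hB
  have hfE : Finite (AddMonoid.End V) := DFunLike.finite _
  have hfG : Finite (GV V) := inferInstance
  have hfB : Finite ↥B := inferInstance
  let Q := ↥B ⧸ Zs K B
  let _ : CommGroup Q := { (inferInstance : Group Q) with
    mul_comm := by
      intro x y
      obtain ⟨x, rfl⟩ := QuotientGroup.mk_surjective x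
      obtain ⟨y, rfl⟩ := QuotientGroup.mk_surjective y
      obtain ⟨c, hc⟩ := hB.cc x.2 y.2
      change ((x * y : ↥B) : ↥B ⧸ Zs K B) = ((y * x : ↥B) : ↥B ⧸ Zs K B)
      rw [eq_comm, QuotientGroup.eq]
      refine mem_Zs.2 ⟨c, ?_⟩
      change scal K V c = ((y : GV V) * x)⁻¹ * (x * y)
      rw [hc, eq_inv_mul_iff_mul_eq, ((hB.linb y.2).mul (hB.linb x.2)).scal_comm] }
  have hexp : Monoid.exponent Q ∣ r := by
    rw [Monoid.exponent_dvd_iff_forall_pow_eq_one]
    intro x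
    obtain ⟨x, rfl⟩ := QuotientGroup.mk_surjective x
    obtain ⟨c, hc⟩ := hB.pow x x.2
    change ((x ^ r : ↥B) : ↥B ⧸ Zs K B) = 1
    rw [QuotientGroup.eq_one_iff]
    exact mem_Zs.2 ⟨c, hc.symm⟩
  have hroot : HasEnoughRootsOfUnity K r := by
    obtain ⟨b, hb, hb'⟩ := hns
    obtain ⟨ω, hω, hω'⟩ := hB.exists_root hb hb'
    have : NeZero r := ⟨hB.prime.ne_zero⟩
    exact ⟨⟨ω, primitive hB.prime hω hω'⟩, inferInstance⟩
  have : NeZero r := ⟨hB.prime.ne_zero⟩
  have hroot' : HasEnoughRootsOfUnity K (Monoid.exponent Q) :=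
    HasEnoughRootsOfUnity.of_dvd K hexp
  have hcard : Nat.card (Q →* Kˣ) = Nat.card Q :=
    CommGroup.card_monoidHom_of_hasEnoughRootsOfUnity Q K
  have htriv : ∀ (a : GV V) (h : ∀ b ∈ B, ∃ c : Kˣ, CC c b a), Lin K a →
      Zs K B ≤ (chi hB a h).ker := by
    intro a h ha x hx
    obtain ⟨c, hc⟩ := mem_Zs.1 hx
    rw [MonoidHom.mem_ker]
    apply chi_unique
    rw [← hc]
    exact CC.scal_left ha c
  have hB' : ∀ a ∈ B, ∀ b ∈ B, ∃ c : Kˣ, CC c b a := fun a ha b hb => hB.cc hb ha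
  let Φ : ↥B →* (Q →* Kˣ) :=
    { toFun := fun a => QuotientGroup.lift (Zs K B) (chi hB a (hB' a a.2))
        (htriv a _ (hB.linb a.2))
      map_one' := by
        apply MonoidHom.ext
        intro x
        obtain ⟨x, rfl⟩ := QuotientGroup.mk_surjective x
        change chi hB ((1 : ↥B) : GV V) (hB' _ (1 : ↥B).2) x = 1
        exact chi_unique hB _ _ x (cc_one_iff.2 (by
          change (x : GV V) * 1 = 1 * x
          rw [one_mul, mul_one]))
      map_mul' := by
        intro a b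
        apply MonoidHom.ext
        intro x
        obtain ⟨x, rfl⟩ := QuotientGroup.mk_surjective x
        change chi hB ((a * b : ↥B) : GV V) (hB' _ (a * b : ↥B).2) x =
          chi hB a (hB' a a.2) x * chi hB b (hB' b b.2) x
        exact chi_unique hB _ _ x (CC.mul_right (hB.linb a.2) (chi_spec hB a (hB' a a.2) x)
          (chi_spec hB b (hB' b b.2) x)) }
  have hker : Φ.ker = Zs K B := by
    ext a
    rw [MonoidHom.mem_ker]
    constructor
    · intro h
      obtain ⟨c, hc⟩ := hB.cent a a.2 (fun b hb => by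
        have h1 := chi_spec hB a (hB' a a.2) ⟨b, hb⟩
        have h2 : chi hB a (hB' a a.2) ⟨b, hb⟩ = 1 :=
          DFunLike.congr_fun h ((⟨b, hb⟩ : ↥B) : ↥B ⧸ Zs K B)
        rw [h2] at h1
        exact (cc_one_iff.1 h1).symm)
      exact mem_Zs.2 ⟨c, hc.symm⟩
    · intro h
      obtain ⟨c, hc⟩ := mem_Zs.1 h
      apply MonoidHom.ext
      intro x
      obtain ⟨x, rfl⟩ := QuotientGroup.mk_surjective x
      change chi hB (a : GV V) (hB' a a.2) x = 1
      apply chi_unique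
      have h5 := CC.scal_right (hB.linb x.2) c
      rw [hc] at h5
      exact h5
  have hsurj : Φ.range = ⊤ := by
    apply Subgroup.eq_top_of_card_eq
    rw [hcard, ← Nat.card_congr (QuotientGroup.quotientKerEquivRange Φ).toEquiv, hker]
  have h1 : QuotientGroup.lift (Zs K B) (chi hB y hcc) (htriv y hcc hy) ∈ Φ.range := by
    rw [hsurj]; trivial
  obtain ⟨a, ha⟩ := h1
  refine ⟨a, a.2, fun b hb c hc => ?_⟩
  have h2 : chi hB a (hB' a a.2) ⟨b, hb⟩ = chi hB y hcc ⟨b, hb⟩ :=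
    DFunLike.congr_fun ha ((⟨b, hb⟩ : ↥B) : ↥B ⧸ Zs K B)
  have h3 := chi_unique hB y hcc ⟨b, hb⟩ hc
  rw [h3] at h2
  rw [← h2]
  exact chi_spec hB a (hB' a a.2) ⟨b, hb⟩

theorem Dual.main (S : SetB K V A B r)
    (hcent : ∀ c : GV V, Lin K c → (∀ b ∈ B, c * b = b * c) →
      (∀ v : V, ∃ b ∈ B, c • v = b • v) → ∃ d : Kˣ, c = scal K V d)
    {y : GV V} (hy : Lin K y)
    (hv : ∀ v : V, ∃ b ∈ B, y • v = b • v) (hcc : ∀ b ∈ B, ∃ c : Kˣ, CC c b y) : y ∈ B := by
  have : Nontrivial V := by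
    rw [← Finite.one_lt_card_iff_nontrivial]
    have := S.card
    omega
  obtain ⟨a, ha, h⟩ := exists_eq S.heis S.ns y hy hcc
  obtain ⟨d, hd⟩ := hcent (a⁻¹ * y) ((S.heis.linb ha).inv.mul hy) (fun b hb => by
    obtain ⟨c, hc⟩ := hcc b hb
    have h1 := h b hb c hc
    unfold CC at hc h1
    have hl := S.heis.linb hb
    -- a⁻¹ y b = b a⁻¹ y
    have h2 : a⁻¹ * b = scal K V c * (b * a⁻¹) := by
      have h3 : b * a = scal K V c * (a * b) := h1
      have h4 : a * (scal K V c * (b * a⁻¹)) = b := by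
        rw [← mul_assoc, (S.heis.linb ha).scal_comm, mul_assoc, ← mul_assoc a b, ← mul_assoc,
          ← h3, mul_inv_cancel_right]
      rw [inv_mul_eq_iff_eq_mul, h4]
    have h5 : y * b = (scal K V c)⁻¹ * (b * y) := by
      rw [eq_inv_mul_iff_mul_eq, hc]
    have h6 : a⁻¹ * (scal K V c)⁻¹ = (scal K V c)⁻¹ * a⁻¹ := by
      rw [← map_inv]
      exact (S.heis.linb ha).inv.scal_comm _
    rw [mul_assoc, h5, ← mul_assoc, h6, mul_assoc, ← mul_assoc a⁻¹ b, h2, ← mul_assoc,
      ← mul_assoc, inv_mul_cancel, one_mul, ← mul_assoc]) (fun v => by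
    obtain ⟨b, hb, e⟩ := hv v
    exact ⟨a⁻¹ * b, B.mul_mem (B.inv_mem ha) hb, by rw [mul_smul, e, mul_smul]⟩)
  have h7 : y = a * scal K V d := by rw [← hd, mul_inv_cancel_left]
  rw [h7]
  exact B.mul_mem ha (S.heis.scal_mem d)

end

end Cfsg.Agent.H308.TcDual
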